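import Cfsg.Agent.UnitDec.MonoCase

/-!
Monomial groups in dimension four. Outside the monomial group all entries of an element are non-zero unless some
element fixes a coordinate line. Then the pseudo-reflections at a coordinate and at a column generate a group in
which the former ones form a malnormal subgroup, and such a group is too small.
-/

set_option autoImplicit false

namespace Cfsg.Agent.ClassicalMax.SU4.Mono

open Cfsg.Agent.Classical Cfsg.Agent.ClassicalMax.Unitary Cfsg.Agent.UnitDec Module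

variable {F V ι : Type*} [Field F] [Fintype F] [DecidableEq F] [AddCommGroup V] [Module F V] [FiniteDimensional F V]
  {σ : F →+* F} [Fintype ι] [DecidableEq ι] {B : V →ₛₗ[σ] V →ₗ[F] F} {e : Basis ι F V} {M : Subgroup (V ≃ₗ[F] V)}

/-- non-monomial elements have no vanishing entry -/
def Full (B : V →ₛₗ[σ] V →ₗ[F] F) (e : Basis ι F V) (M : Subgroup (V ≃ₗ[F] V)) : Prop :=
  ∀ x ∈ M, Iso B x → ¬ Mono B e x → ∀ l j, B (e l) (x (e j)) ≠ 0

section

omit [FiniteDimensional F V] in
theorem quad_roots {a b c : F} (h : a ≠ 0 ∨ b ≠ 0 ∨ c ≠ 0) {s : Finset F}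
    (hs : ∀ x ∈ s, a * x ^ 2 + b * x + c = 0) : s.card ≤ 2 := by
  by_cases ha : a = 0
  · by_cases hb : b = 0
    · rcases s.eq_empty_or_nonempty with rfl | ⟨x, hx⟩
      · simp
      · have := hs x hx
        rw [ha, hb, zero_mul, zero_mul, zero_add, zero_add] at this
        exact absurd this (by rcases h with h | h | h <;> contradiction)
    · refine le_trans (Finset.card_le_one.2 fun x hx y hy => ?_) one_le_two
      have h1 := hs x hx
      have h2 := hs y hy
      rw [ha, zero_mul, zero_add] at h1 h2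
      exact mul_left_cancel₀ hb (by linear_combination h1 - h2)
  · exact quad_le_two ha hs

variable (H : MonBase B e M)
include H

theorem exists_other (h4 : Fintype.card ι = 4) (a b c : ι) : ∃ d, d ≠ a ∧ d ≠ b ∧ d ≠ c := by
  obtain ⟨d, -, hd⟩ := Finset.exists_mem_notMem_of_card_lt_card (s := ({a, b, c} : Finset ι)) (t := Finset.univ)
    (lt_of_le_of_lt Finset.card_le_three (by rw [Finset.card_univ, h4]; norm_num))
  simp only [Finset.mem_insert, Finset.mem_singleton, not_or] at hd
  exact ⟨d, hd⟩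

/-- no element of the group outside the monomial one maps a coordinate line to one -/
theorem noFix (h4 : Fintype.card ι = 4) (hno : ∀ x ∈ M, Iso B x → ∀ a (c : F), x (e a) = c • e a → Mono B e x) :
    NoFix B e M := by
  intro x hxM hxi a d hd
  have hB := H.herm
  have hon := H.onb
  have hx : x (e a) = B (e d) (x (e a)) • e d := eq_single hon hd
  obtain ⟨l, -, hl, -⟩ := exists_other H h4 d d d
  obtain ⟨m, δ, -, hmi, hmd, hm⟩ := exists_mon hon hB (Equiv.swap d a) (fun _ => (1 : F)) (fun _ => by simp) l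
  have hmM := H.mono_mem m hmi hmd (mono_of_apply hon hm)
  have h1 : (m * x) (e a) = B (e d) (x (e a)) • e a := by
    rw [LinearEquiv.mul_apply]
    conv_lhs => rw [hx, map_smul, hm, if_neg hl.symm, Equiv.swap_apply_left, one_smul]
  have h2 := hno _ (mul_mem hmM hxM) (hmi.mul hxi) a _ h1
  have h3 := Mono.mul' hon (Mono.inv' hon (mono_of_apply hon hm)) h2
  rwa [inv_mul_cancel_left] at h3

theorem exists_zeta_four (hq : 4 ≤ qq σ) : ∃ ζ : F, ζ * σ ζ = 1 ∧ ζ ^ 4 ≠ 1 := by
  by_contra! hc
  have h1 : U σ ⊆ (Polynomial.nthRoots 4 (1 : F)).toFinset := fun x hx => by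
    rw [Multiset.mem_toFinset, Polynomial.mem_nthRoots (by norm_num)]
    exact hc x (mem_U.1 hx)
  have h2 := (Finset.card_le_card h1).trans ((Multiset.toFinset_card_le _).trans (Polynomial.card_nthRoots 4 1))
  rw [card_U H.herm.toIsInvol] at h2
  omega

/-- a non-monomial element has at most one zero in a row -/
theorem row_two_false (hq : 4 ≤ qq σ) (NF : NoFix B e M) {g : V ≃ₗ[F] V} (hgM : g ∈ M) (hg : Iso B g)
    (hgm : ¬ Mono B e g) {a j k : ι} (hjk : j ≠ k) (hj : B (e a) (g (e j)) = 0) (hk : B (e a) (g (e k)) = 0) : False := by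
  classical
  have hB := H.herm
  have hon := H.onb
  set u := g (e j)
  set z := g (e k)
  let f : ι → ι → F → F := fun l m η =>
    (if l = m then 1 else 0) + (η - 1) * B (e l) u * σ (B (e m) u) + (η⁻¹ - 1) * B (e l) z * σ (B (e m) z)
  have hmono : ∀ η : F, η * σ η = 1 → ∀ m l l', f l m η ≠ 0 → f l' m η ≠ 0 → l = l' := by
    intro η hη m l l' hl hl'
    obtain ⟨t, htM, hti, ht⟩ := H.diag_mem (pairW j k η) (fun i => pairW_nrm hη i) (pairW_prod hjk (nrm_ne_zero hη))
    set x := g * t * g⁻¹
    have hx : ∀ w, x w = w + ((η - 1) * B u w) • u + ((η⁻¹ - 1) * B z w) • z := fun w => by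
      have h := conj_diag' hon hg ht w
      rw [Fintype.sum_eq_add j k hjk fun i hi => by simp [pairW, hi.1, hi.2], sub_eq_iff_eq_add] at h
      rw [show x w = (g * t * g⁻¹) w from rfl, h]
      simp only [pairW, pairW.σ', if_true, hjk.symm, if_false, u, z]
      abel
    have hxM : x ∈ M := mul_mem (mul_mem hgM htM) (inv_mem hgM)
    have hxi : Iso B x := (hg.mul hti).mul hg.inv
    have hxa : ∀ i, i ≠ a → B (e i) (x (e a)) = 0 := fun i hi => by
      rw [hx, (Herm.eq_zero_comm hB).1 hj, (Herm.eq_zero_comm hB).1 hk]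
      simp [hon i a, hi]
    obtain ⟨π, hπ⟩ := NF x hxM hxi a a hxa
    have hco : ∀ i, f i m η ≠ 0 → i = π m := fun i hi => by
      by_contra h
      refine hi ?_
      have := hπ m i h
      rw [hx, map_add, map_add, map_smul, map_smul, hon, smul_eq_mul, smul_eq_mul, ← hB.symm (e m) u, ← hB.symm (e m) z] at this
      simp only [f]
      linear_combination this
    rw [hco l hl, hco l' hl']
  have hzero : ∀ l m, l ≠ m → B (e l) u * σ (B (e m) u) = 0 := by
    intro l m hlm
    by_contra hne
    set s := (U σ).filter fun η => f l m η = 0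
    set s' := (U σ).filter fun η => f m m η = 0
    have c1 : s.card ≤ 2 := by
      refine quad_roots (a := B (e l) u * σ (B (e m) u)) (b := -(B (e l) u * σ (B (e m) u) + B (e l) z * σ (B (e m) z)))
        (c := B (e l) z * σ (B (e m) z)) (Or.inl hne) fun η hη => ?_
      simp only [s, f, Finset.mem_filter, mem_U, if_neg hlm] at hη
      have h1 : η * η⁻¹ = 1 := mul_inv_cancel₀ (nrm_ne_zero hη.1)
      linear_combination η * hη.2 - (B (e l) z * σ (B (e m) z)) * h1
    have c2 : s'.card ≤ 2 := by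
      refine quad_roots (a := B (e m) u * σ (B (e m) u))
        (b := 1 - (B (e m) u * σ (B (e m) u) + B (e m) z * σ (B (e m) z))) (c := B (e m) z * σ (B (e m) z)) ?_ fun η hη => ?_
      · by_contra! h
        obtain ⟨h1, h2, h3⟩ := h
        rw [h1, h3] at h2
        simp at h2
      simp only [s', f, Finset.mem_filter, mem_U, if_true] at hη
      have h1 : η * η⁻¹ = 1 := mul_inv_cancel₀ (nrm_ne_zero hη.1)
      linear_combination η * hη.2 - (B (e m) z * σ (B (e m) z)) * h1
    obtain ⟨η, hη, hns⟩ := Finset.exists_mem_notMem_of_card_lt_card (s := s ∪ s') (t := U σ) (by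
      have := Finset.card_union_le s s'
      rw [card_U hB.toIsInvol]; omega)
    simp only [s, s', Finset.mem_union, Finset.mem_filter, not_or, not_and] at hns
    exact hlm (hmono η (mem_U.1 hη) m l m (hns.1 hη) (hns.2 hη))
  obtain ⟨d, hd⟩ : ∃ d, B (e d) u ≠ 0 := by
    by_contra! h
    exact e.ne_zero j (g.map_eq_zero_iff.1 (show g (e j) = 0 from ext_co hon fun i => by rw [map_zero]; exact h i))
  exact hgm (NF g hgM hg j d fun i hi => (mul_eq_zero.1 (hzero i d hi)).resolve_right ((map_ne_zero σ).2 hd))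

/-- a non-monomial element has no zero entry -/
theorem full (h4 : Fintype.card ι = 4) (hq : 4 ≤ qq σ) (NF : NoFix B e M) : Full B e M := by
  classical
  intro g hgM hg hgm a j hz
  have hB := H.herm
  have hon := H.onb
  obtain ⟨ζ, hζ, hζ4⟩ := exists_zeta_four H hq
  have hζ0 := nrm_ne_zero hζ
  set θ : ι → F := fun i => if i = j then (ζ ^ 3)⁻¹ else ζ
  have hP : ∏ i, θ i = 1 := by
    rw [Finset.prod_eq_mul_prod_diff_singleton_of_mem (Finset.mem_univ j),
      Finset.prod_congr rfl (fun i hi => show θ i = ζ by simp only [Finset.mem_sdiff, Finset.mem_singleton] at hi; simp [θ, hi.2]),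
      Finset.prod_const, Finset.card_sdiff_of_subset (Finset.subset_univ _), Finset.card_univ, h4, Finset.card_singleton]
    simp only [θ, if_true]
    field_simp
  obtain ⟨t, htM, hti, ht⟩ := H.diag_mem θ (fun i => by
    simp only [θ]; split_ifs; exacts [nrm_inv (nrm_pow hζ 3), hζ]) hP
  set x := g * t * g⁻¹
  set y := g (e j) with hy
  have hx : ∀ w, x w = ζ • w + (((ζ ^ 3)⁻¹ - ζ) * B y w) • y := fun w => by
    rw [show x w = (g * t * g⁻¹) w from rfl, conj_diag hon hg ht]
    have e1 : ∀ i, (θ i * B (g (e i)) w) • g (e i) = ζ • B (g (e i)) w • g (e i) +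
        if i = j then (((ζ ^ 3)⁻¹ - ζ) * B y w) • y else 0 := fun i => by
      by_cases hi : i = j
      · subst hi; simp only [θ, if_true, y]; module
      · simp only [θ, if_neg hi, add_zero]; module
    have e2 : ∑ i, B (g (e i)) w • g (e i) = w := by
      conv_rhs => rw [← apply_inv g w, ← expand hon (g⁻¹ w), map_sum]
      exact Finset.sum_congr rfl fun i _ => by rw [map_smul, ← hg (e i) (g⁻¹ w), apply_inv]
    rw [Finset.sum_congr rfl fun i _ => e1 i, Finset.sum_add_distrib, ← Finset.smul_sum, e2, Finset.sum_ite_eq',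
      if_pos (Finset.mem_univ j)]
  have hxM : x ∈ M := mul_mem (mul_mem hgM htM) (inv_mem hgM)
  have hxi : Iso B x := (hg.mul hti).mul hg.inv
  obtain ⟨π, hπ⟩ := NF x hxM hxi a a fun i hi => by
    rw [hx, (Herm.eq_zero_comm hB).1 hz]; simp [hon i a, hi]
  have hδ : (ζ ^ 3)⁻¹ - ζ ≠ 0 := fun h => hζ4 (by
    linear_combination -(ζ ^ 3) * h + mul_inv_cancel₀ (pow_ne_zero 3 hζ0))
  have hsupp : ∀ m, B (e m) y ≠ 0 → ∀ l, l ≠ m → B (e l) y ≠ 0 → l = π m := fun m hm l hlm hl => by
    by_contra h
    have h1 := hπ m l h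
    rw [hx, map_add, map_smul, map_smul, hon, if_neg hlm, smul_zero, zero_add, smul_eq_mul, ← hB.symm (e m) y] at h1
    exact mul_ne_zero (mul_ne_zero hδ ((map_ne_zero σ).2 hm)) hl h1
  obtain ⟨a', haa', ha'⟩ : ∃ a', a' ≠ a ∧ B (e a') y = 0 := by
    by_contra! hall
    obtain ⟨m, hma, -⟩ := exists_other H h4 a a a
    obtain ⟨l, hla, hlm, -⟩ := exists_other H h4 a m m
    obtain ⟨l', hl'a, hl'm, hl'l⟩ := exists_other H h4 a m l
    exact hl'l ((hsupp m (hall m hma) l' hl'm (hall l' hl'a)).trans (hsupp m (hall m hma) l hlm (hall l hla)).symm)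
  have hinv : ∀ i, B (e i) y = 0 → B (e j) (g⁻¹ (e i)) = 0 := fun i hi => by
    rw [← hg, apply_inv, Herm.eq_zero_comm hB]
    exact hi
  exact row_two_false H hq NF (inv_mem hgM) hg.inv (fun h => hgm (by simpa using Mono.inv' hon h)) (a := j)
    haa'.symm (hinv a hz) (hinv a' ha')

/-- all entries of non-monomial elements having one norm is absurd -/
theorem const_false (h4 : Fintype.card ι = 4) (hq : 7 ≤ qq σ) (NF : NoFix B e M) {κ : F} (hκ : κ ≠ 0)
    (hall : ∀ x ∈ M, Iso B x → ¬ Mono B e x → ∀ l m, B (e l) (x (e m)) * σ (B (e l) (x (e m))) = κ)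
    {g : V ≃ₗ[F] V} (hgM : g ∈ M) (hg : Iso B g) (hgm : ¬ Mono B e g) : False := by
  classical
  have hB := H.herm
  have hon := H.onb
  obtain ⟨a, -⟩ : ∃ a : ι, True := by
    obtain ⟨a, -⟩ := Finset.card_pos.1 (show 0 < (Finset.univ : Finset ι).card by rw [Finset.card_univ]; omega)
    exact ⟨a, trivial⟩
  obtain ⟨j, -, -, -⟩ := exists_other H h4 a a a
  obtain ⟨k, hkj, -, -⟩ := exists_other H h4 j j j
  have main : ∀ η : F, η * σ η = 1 → η ≠ 1 → η + σ η + 2 = 0 ∨ κ * ((η + σ η + 2) * (η + σ η + 2)) = 1 := by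
    intro η hη hη1
    obtain ⟨t, htM, hti, ht⟩ := H.diag_mem (pairW j k η) (fun i => pairW_nrm hη i) (pairW_prod hkj.symm (nrm_ne_zero hη))
    set x := g * t * g⁻¹
    have hxM : x ∈ M := mul_mem (mul_mem hgM htM) (inv_mem hgM)
    have hxi : Iso B x := (hg.mul hti).mul hg.inv
    have hsum : ∑ i, pairW j k η i = η + σ η + 2 := by
      have e1 : ∀ i, pairW j k η i = 1 + ((if i = j then η - 1 else 0) + if i = k then σ η - 1 else 0) := fun i => by
        simp only [pairW, pairW.σ', eq_sigma_inv hη]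
        by_cases h1 : i = j
        · subst h1; simp [hkj.symm]
        by_cases h2 : i = k
        · subst h2; simp [h1]
        simp [h1, h2]
      rw [Finset.sum_congr rfl fun i _ => e1 i, Finset.sum_add_distrib, Finset.sum_add_distrib, Finset.sum_ite_eq',
        Finset.sum_ite_eq', if_pos (Finset.mem_univ j), if_pos (Finset.mem_univ k), Finset.sum_const, Finset.card_univ, h4]
      simp; ring
    have hdiag : B (e a) (x (e a)) = κ * (η + σ η + 2) := by
      rw [show x (e a) = (g * t * g⁻¹) (e a) from rfl, conj_diag hon hg ht, map_sum, ← hsum, Finset.mul_sum]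
      refine Finset.sum_congr rfl fun i _ => ?_
      rw [map_smul, smul_eq_mul, ← hB.symm (e a) (g (e i))]
      linear_combination (pairW j k η i) * hall g hgM hg hgm a i
    by_cases hxm : Mono B e x
    · left
      by_contra hne
      obtain ⟨π, hπ⟩ := hxm
      have hπa : a = π a := by
        by_contra h
        exact mul_ne_zero hκ hne (hdiag ▸ hπ a a h)
      set c := B (e a) (x (e a))
      have h1 : x (e a) = c • e a := eq_single hon fun i hi => hπ a i fun h => hi (h.trans hπa.symm)
      have h2 : t (g⁻¹ (e a)) = c • g⁻¹ (e a) := by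
        have := congrArg (g⁻¹ : V ≃ₗ[F] V) h1
        rwa [map_smul, show x (e a) = g (t (g⁻¹ (e a))) from rfl, inv_apply] at this
      have h3 : ∀ i, pairW j k η i = c := fun i => by
        have h := congrArg (B (e i)) h2
        rw [co_diag hon ht, map_smul, smul_eq_mul] at h
        refine mul_right_cancel₀ (fun h0 => ?_) h
        rw [← hg, apply_inv, Herm.eq_zero_comm hB] at h0
        have := hall g hgM hg hgm a i
        rw [h0, zero_mul] at this
        exact hκ this.symm
      obtain ⟨m, hmj, hmk, -⟩ := exists_other H h4 j k k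
      have h5 := (h3 j).trans (h3 m).symm
      simp [pairW, hmj, hmk] at h5
      exact hη1 h5
    · right
      have h := hall x hxM hxi hxm a a
      rw [hdiag] at h
      have hκs : σ κ = κ := by rw [← hall g hgM hg hgm a a]; exact nrm_fix hB.toIsInvol _
      simp only [map_mul, map_add, map_ofNat, hκs, hB.invol] at h
      exact mul_left_cancel₀ hκ (by linear_combination h)
  set s1 := (U σ).filter fun η => η + σ η + 2 = 0
  set s2 := (U σ).filter fun η => η ≠ 1 ∧ κ * ((η + σ η + 2) * (η + σ η + 2)) = 1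
  have hsub : U σ ⊆ insert 1 (s1 ∪ s2) := fun η hη => by
    by_cases h : η = 1
    · exact Finset.mem_insert.2 (Or.inl h)
    refine Finset.mem_insert.2 (Or.inr (Finset.mem_union.2 ?_))
    rcases main η (mem_U.1 hη) h with h' | h'
    · exact Or.inl (Finset.mem_filter.2 ⟨hη, h'⟩)
    · exact Or.inr (Finset.mem_filter.2 ⟨hη, h, h'⟩)
  have c1 : s1.card ≤ 1 := Finset.card_le_one.2 fun p hp p' hp' => by
    have key : ∀ z : F, z * σ z = 1 → z + σ z + 2 = 0 → z = -1 := fun z hz h =>
      eq_neg_of_add_eq_zero_left (mul_self_eq_zero.1 (show (z + 1) * (z + 1) = 0 by linear_combination z * h - hz))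
    simp only [s1, Finset.mem_filter, mem_U] at hp hp'
    rw [key p hp.1 hp.2, key p' hp'.1 hp'.2]
  have c2 : s2.card ≤ 4 := by
    rcases s2.eq_empty_or_nonempty with h | ⟨p, hp⟩
    · simp [h]
    simp only [s2, Finset.mem_filter, mem_U] at hp
    set T := p + σ p + 2
    have hsub2 : s2 ⊆ ((U σ).filter fun z => 1 * z + σ (1 * z) = T - 2) ∪ ((U σ).filter fun z => 1 * z + σ (1 * z) = -T - 2) := by
      intro z hz
      simp only [s2, Finset.mem_filter, mem_U] at hz
      have h' : (z + σ z + 2) * (z + σ z + 2) = T * T := mul_left_cancel₀ hκ (hz.2.2.trans hp.2.2.symm)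
      simp only [Finset.mem_union, Finset.mem_filter, mem_U, one_mul]
      rcases mul_self_eq_mul_self_iff.1 h' with h'' | h''
      · exact Or.inl ⟨hz.1, by linear_combination h''⟩
      · exact Or.inr ⟨hz.1, by linear_combination h''⟩
    refine (Finset.card_le_card hsub2).trans ((Finset.card_union_le _ _).trans (add_le_add ?_ ?_ : _ ≤ 2 + 2))
    all_goals exact trace_le_two one_ne_zero fun z hz => by simpa [mem_U] using hz
  have := (Finset.card_le_card hsub).trans ((Finset.card_insert_le _ _).trans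
    (Nat.succ_le_succ ((Finset.card_union_le _ _).trans (add_le_add c1 c2))))
  rw [card_U hB.toIsInvol] at this
  omega

end

/-- isometries proportional to elements of the group and trivial on the orthogonal of two vectors -/
def planeGroup (B : V →ₛₗ[σ] V →ₗ[F] F) (M : Subgroup (V ≃ₗ[F] V)) (p y : V) : Subgroup (V ≃ₗ[F] V) where
  carrier := {r | Iso B r ∧ (∀ w, B p w = 0 → B y w = 0 → r w = w) ∧ ∃ x ∈ M, Iso B x ∧ ∃ s : F, s ≠ 0 ∧ ∀ w, x w = s • r w}
  one_mem' := ⟨Iso.one, fun _ _ _ => rfl, 1, one_mem M, Iso.one, 1, one_ne_zero, fun w => by simp⟩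
  mul_mem' := fun {r r'} h h' => by
    obtain ⟨hi, hf, x, hx, hxi, s, hs, hxs⟩ := h
    obtain ⟨hi', hf', x', hx', hxi', s', hs', hxs'⟩ := h'
    refine ⟨hi.mul hi', fun w a b => by rw [LinearEquiv.mul_apply, hf' w a b, hf w a b], x * x', mul_mem hx hx', hxi.mul hxi',
      s' * s, mul_ne_zero hs' hs, fun w => ?_⟩
    rw [LinearEquiv.mul_apply, LinearEquiv.mul_apply, hxs', map_smul, hxs, smul_smul]
  inv_mem' := fun {r} h => by
    obtain ⟨hi, hf, x, hx, hxi, s, hs, hxs⟩ := h
    refine ⟨hi.inv, fun w a b => ?_, x⁻¹, inv_mem hx, hxi.inv, s⁻¹, inv_ne_zero hs, fun w => x.injective ?_⟩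
    · conv_lhs => rw [← hf w a b]
      exact inv_apply r w
    · rw [apply_inv, map_smul, hxs, apply_inv, smul_smul, inv_mul_cancel₀ hs, one_smul]

section

variable (H : MonBase B e M)
include H

/-- the data of the plane of a coordinate and a column -/
theorem exists_refl (h4 : Fintype.card ι = 4) {g : V ≃ₗ[F] V} (hgM : g ∈ M) (hg : Iso B g) (j : ι) (p y v : V)
    (hy : g (e j) = v) (hmem : ∀ w, B p w = 0 → B y w = 0 → B v w = 0) {ζ : F} (hζ : ζ * σ ζ = 1) :
    ∃ r ∈ planeGroup B M p y, LinearMap.det r.toLinearMap = (ζ ^ 4)⁻¹ ∧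
      ∀ w, r w = w + (((ζ ^ 4)⁻¹ - 1) * B v w) • v := by
  classical
  have hB := H.herm
  have hon := H.onb
  have hζ0 := nrm_ne_zero hζ
  have hyy : B v v = 1 := by rw [← hy, hg, hon, if_pos rfl]
  obtain ⟨r, hri, hrd, hr⟩ := exists_preflection hB (a := v) (by rw [hyy]; exact one_ne_zero) (δ := (ζ ^ 4)⁻¹)
    (nrm_inv (nrm_pow hζ 4))
  simp only [hyy, div_one] at hr
  set θ : ι → F := fun i => if i = j then (ζ ^ 3)⁻¹ else ζ
  have hP : ∏ i, θ i = 1 := by
    rw [Finset.prod_eq_mul_prod_diff_singleton_of_mem (Finset.mem_univ j),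
      Finset.prod_congr rfl (fun i hi => show θ i = ζ by simp only [Finset.mem_sdiff, Finset.mem_singleton] at hi; simp [θ, hi.2]),
      Finset.prod_const, Finset.card_sdiff_of_subset (Finset.subset_univ _), Finset.card_univ, h4, Finset.card_singleton]
    simp only [θ, if_true]
    field_simp
  obtain ⟨t, htM, hti, ht⟩ := H.diag_mem θ (fun i => by
    simp only [θ]; split_ifs; exacts [nrm_inv (nrm_pow hζ 3), hζ]) hP
  refine ⟨r, ⟨hri, fun w a b => by rw [hr, hmem w a b, mul_zero, zero_smul, add_zero], g * t * g⁻¹,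
    mul_mem (mul_mem hgM htM) (inv_mem hgM), (hg.mul hti).mul hg.inv, ζ, hζ0, fun w => ?_⟩, hrd, hr⟩
  rw [conj_diag hon hg ht, hr]
  have e1 : ∀ i, (θ i * B (g (e i)) w) • g (e i) = ζ • B (g (e i)) w • g (e i) +
      if i = j then (ζ * (((ζ ^ 4)⁻¹ - 1) * B v w)) • v else 0 := fun i => by
    by_cases hi : i = j
    · subst hi
      simp only [θ, if_true, hy, show (ζ ^ 3)⁻¹ = ζ * (ζ ^ 4)⁻¹ by field_simp]
      module
    · simp only [θ, if_neg hi, add_zero]; module
  have e2 : ∑ i, B (g (e i)) w • g (e i) = w := by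
    conv_rhs => rw [← apply_inv g w, ← expand hon (g⁻¹ w), map_sum]
    exact Finset.sum_congr rfl fun i _ => by rw [map_smul, ← hg (e i) (g⁻¹ w), apply_inv]
  rw [Finset.sum_congr rfl fun i _ => e1 i, Finset.sum_add_distrib, ← Finset.smul_sum, e2, Finset.sum_ite_eq',
    if_pos (Finset.mem_univ j), smul_add, smul_smul]

/-- plane coordinates: orthogonal complement of the coordinate in the plane -/
theorem plane_dec {l : ι} {y f : V} {m : F} (hf : f = y - B (e l) y • e l) (hm : m = B f f) (hm0 : m ≠ 0) (w : V) :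
    B (e l) (w - B (e l) w • e l - (B f w / m) • f) = 0 ∧ B y (w - B (e l) w • e l - (B f w / m) • f) = 0 ∧
      B (e l) f = 0 ∧ B f (e l) = 0 := by
  have hB := H.herm
  have hef : B (e l) f = 0 := by
    rw [hf, map_sub, map_smul, H.onb, if_pos rfl, smul_eq_mul, mul_one, sub_self]
  have hfe : B f (e l) = 0 := (Herm.eq_zero_comm hB).1 hef
  set r := w - B (e l) w • e l - (B f w / m) • f
  have h1 : B (e l) r = 0 := by simp [r, hef, H.onb l l]
  have h2 : B f r = 0 := by simp [r, hfe, ← hm, div_mul_cancel₀ _ hm0]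
  refine ⟨h1, ?_, hef, hfe⟩
  rw [show y = f + B (e l) y • e l by rw [hf]; abel]
  simp [h1, h2]

theorem plane_ext {l : ι} {y f : V} {m : F} (hf : f = y - B (e l) y • e l) (hm : m = B f f) (hm0 : m ≠ 0)
    {r r' : V ≃ₗ[F] V} (hr : r ∈ planeGroup B M (e l) y) (hr' : r' ∈ planeGroup B M (e l) y)
    (he : r (e l) = r' (e l)) (hff : r f = r' f) : r = r' := by
  refine LinearEquiv.ext fun w => ?_
  obtain ⟨h1, h2, -, -⟩ := plane_dec H hf hm hm0 w
  set z := w - B (e l) w • e l - (B f w / m) • f
  have hw : w = z + B (e l) w • e l + (B f w / m) • f := by simp only [z]; abel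
  rw [hw, map_add, map_add, map_add, map_add, map_smul, map_smul, map_smul, map_smul, he, hff, hr.2.1 z h1 h2,
    hr'.2.1 z h1 h2]

theorem plane_image {l : ι} {y f : V} {m : F} (hf : f = y - B (e l) y • e l) (hm : m = B f f) (hm0 : m ≠ 0)
    {r : V ≃ₗ[F] V} (hr : r ∈ planeGroup B M (e l) y) :
    r (e l) = B (e l) (r (e l)) • e l + (B f (r (e l)) / m) • f ∧ r f = B (e l) (r f) • e l + (B f (r f) / m) • f := by
  have hB := H.herm
  have hBf : ∀ v, B f v = B y v - σ (B (e l) y) * B (e l) v := fun v => by rw [hf]; simp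
  have key : ∀ v : V, (∀ w, B (e l) w = 0 → B y w = 0 → B v w = 0) →
      r v = B (e l) (r v) • e l + (B f (r v) / m) • f := fun v hv => by
    obtain ⟨-, -, hef, hfe⟩ := plane_dec H hf hm hm0 v
    set d := r v - B (e l) (r v) • e l - (B f (r v) / m) • f with hd
    have h0 : d = 0 := hB.nondeg d fun w => by
      obtain ⟨h1, h2, -, -⟩ := plane_dec H hf hm hm0 w
      obtain ⟨h3, h4', -, -⟩ := plane_dec H hf hm hm0 (r v)
      rw [← hd] at h3 h4'
      have h5 : B f d = 0 := by
        rw [hBf d, h4', h3, mul_zero, sub_zero]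
      set z := w - B (e l) w • e l - (B f w / m) • f
      have hw : w = z + B (e l) w • e l + (B f w / m) • f := by simp only [z]; abel
      have h6 : B f z = 0 := by
        rw [hBf z, h2, h1, mul_zero, sub_zero]
      have hdz : B d z = 0 := by
        have h7 : B (r v) z = 0 := by rw [← hr.2.1 z h1 h2, hr.1]; exact hv z h1 h2
        simp [hd, h7, h1, h6]
      rw [hw]
      simp [hdz, (Herm.eq_zero_comm hB).1 h3, (Herm.eq_zero_comm hB).1 h5]
    rw [← sub_eq_zero, ← h0, hd]
    abel
  exact ⟨key _ fun w h1 _ => h1, key _ fun w h1 h2 => by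
    rw [hBf, h2, h1, mul_zero, sub_zero]⟩

/-- an element of the plane group fixing the coordinate line fixes the orthogonal vector -/
theorem fix_coord (h4 : Fintype.card ι = 4) (NF : NoFix B e M) {l : ι} {y f : V} {m : F}
    (hf : f = y - B (e l) y • e l) (hm : m = B f f) (hm0 : m ≠ 0) (hfull : ∀ i, B (e i) y ≠ 0)
    {r : V ≃ₗ[F] V} (hr : r ∈ planeGroup B M (e l) y) {a : F} (hra : r (e l) = a • e l) : r f = f := by
  have hB := H.herm
  have hon := H.onb
  obtain ⟨-, -, hef, hfe⟩ := plane_dec H hf hm hm0 y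
  obtain ⟨-, hrf⟩ := plane_image H hf hm hm0 hr
  have ha : a ≠ 0 := fun h => e.ne_zero l (r.map_eq_zero_iff.1 (by rw [hra, h, zero_smul]))
  have hα : B (e l) (r f) = 0 := by
    have h1 := hr.1 (e l) f
    rw [hra, map_smulₛₗ, LinearMap.smul_apply, smul_eq_mul, hef] at h1
    exact (mul_eq_zero.1 h1).resolve_left ((map_ne_zero σ).2 ha)
  rw [hα, zero_smul, zero_add] at hrf
  set lam := B f (r f) / m
  by_contra hne
  have hlam : lam - 1 ≠ 0 := fun h => hne (by rw [hrf, sub_eq_zero.1 h, one_smul])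
  obtain ⟨hri, -, x, hxM, hxi, s, hs, hxs⟩ := id hr
  have hrk : ∀ k, k ≠ l → r (e k) = e k + ((lam - 1) * (B f (e k) / m)) • f := fun k hk => by
    obtain ⟨h1, h2, -, -⟩ := plane_dec H hf hm hm0 (e k)
    set z := e k - B (e l) (e k) • e l - (B f (e k) / m) • f with hz
    have hz' : e k = z + (B f (e k) / m) • f := by
      rw [hz, hon, if_neg (Ne.symm hk), zero_smul, sub_zero, sub_add_cancel]
    conv_lhs => rw [hz', map_add, map_smul, hrf, hr.2.1 z h1 h2]
    conv_rhs => arg 1; rw [hz']
    module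
  have hfk : ∀ k, k ≠ l → B (e k) f = B (e k) y := fun k hk => by simp [hf, hon k l, hk]
  obtain ⟨π, hπ⟩ := NF x hxM hxi l l fun i hi => by
    rw [hxs, hra, smul_smul, co_single hon, if_neg hi]
  obtain ⟨k, hk, -, -⟩ := exists_other H h4 l l l
  have hnz : ∀ i, i ≠ l → i ≠ k → i = π k := fun i hi hik => by
    by_contra h
    have h1 := hπ k i h
    rw [hxs, hrk k hk, map_smul, map_add, map_smul, hon, if_neg hik, zero_add, hfk i hi, ← hB.symm (e k) f, hfk k hk] at h1
    simp only [smul_eq_mul, mul_eq_zero, div_eq_zero_iff, map_eq_zero] at h1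
    rcases h1 with h1 | (h1 | h1 | h1) | h1
    · exact hs h1
    · exact hlam h1
    · exact hfull k h1
    · exact hm0 h1
    · exact hfull i h1
  obtain ⟨i, hil, hik, -⟩ := exists_other H h4 l k k
  obtain ⟨i', hi'l, hi'k, hi'i⟩ := exists_other H h4 l k i
  exact hi'i ((hnz i' hi'l hi'k).trans (hnz i hil hik).symm)

/-- enough fourth powers of norm one elements -/
theorem three_pow (hq : 4 ≤ qq σ) (hq7 : qq σ ≠ 7) :
    ∃ ζ ζ' : F, ζ * σ ζ = 1 ∧ ζ' * σ ζ' = 1 ∧ ζ ^ 4 ≠ 1 ∧ ζ' ^ 4 ≠ 1 ∧ ζ ^ 4 ≠ ζ' ^ 4 := by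
  classical
  have hσ := H.herm.toIsInvol
  set g := Nat.gcd 4 (qq σ + 1) with hg
  have hlt : 2 * g < qq σ + 1 := by
    have h1 : g ∣ 4 := Nat.gcd_dvd_left _ _
    have h2 : g ∣ qq σ + 1 := Nat.gcd_dvd_right _ _
    have hg4 : g ≤ 4 := Nat.le_of_dvd (by norm_num) h1
    by_contra h
    interval_cases g <;> omega
  have hpow : ∀ x : F, x * σ x = 1 → x ^ (qq σ + 1) = 1 := fun x hx => by
    let G : Subgroup Fˣ := (Herm.normHom σ).ker
    have hc : Nat.card G = qq σ + 1 := Herm.card_ker_normHom hσ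
    have hxG : Units.mk0 x (nrm_ne_zero hx) ∈ G := Units.ext hx
    have := congrArg (fun u : G => ((u : Fˣ) : F)) (pow_card_eq_one' (x := (⟨_, hxG⟩ : G)))
    rw [hc] at this
    simpa using this
  have hfib : ∀ b : F, ((U σ).filter fun x => x ^ 4 = b).card ≤ g := fun b => by
    rcases ((U σ).filter fun x => x ^ 4 = b).eq_empty_or_nonempty with h | ⟨x0, hx0⟩
    · rw [h]; simp
    simp only [Finset.mem_filter, mem_U] at hx0
    have hx00 := nrm_ne_zero hx0.1
    refine le_trans (Finset.card_le_card_of_injOn (fun x => x / x0) (t := (Polynomial.nthRoots g (1 : F)).toFinset)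
      (fun x hx => ?_) fun x _ y _ h => (div_left_inj' hx00).1 h) ((Multiset.toFinset_card_le _).trans (Polynomial.card_nthRoots g 1))
    simp only [Finset.coe_filter, Set.mem_ofPred_eq, mem_U] at hx
    rw [Finset.mem_coe, Multiset.mem_toFinset,
      Polynomial.mem_nthRoots (show 0 < g from Nat.gcd_pos_of_pos_left _ (by norm_num))]
    refine pow_gcd_eq_one.2 ⟨?_, ?_⟩
    · rw [div_pow, hx.2, hx0.2, div_self]; rw [← hx0.2]; exact pow_ne_zero _ hx00
    · rw [div_pow, hpow x hx.1, hpow x0 hx0.1, div_one]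
  obtain ⟨ζ, hζ, hζ'⟩ := Finset.exists_mem_notMem_of_card_lt_card (s := (U σ).filter fun x => x ^ 4 = 1) (t := U σ)
    (by rw [card_U hσ]; have := hfib 1; omega)
  simp only [Finset.mem_filter, not_and] at hζ'
  obtain ⟨ξ, hξ, hξ'⟩ := Finset.exists_mem_notMem_of_card_lt_card
    (s := ((U σ).filter fun x => x ^ 4 = 1) ∪ ((U σ).filter fun x => x ^ 4 = ζ ^ 4)) (t := U σ) (by
      rw [card_U hσ]
      have := hfib 1
      have := hfib (ζ ^ 4)
      have := Finset.card_union_le ((U σ).filter fun x => x ^ 4 = 1) ((U σ).filter fun x => x ^ 4 = ζ ^ 4)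
      omega)
  simp only [Finset.mem_union, Finset.mem_filter, not_or, not_and] at hξ'
  exact ⟨ζ, ξ, mem_U.1 hζ, mem_U.1 hξ, hζ' hζ, hξ'.1 hξ, fun h => hξ'.2 hξ h.symm⟩

/-- the plane group of a full column is too large -/
theorem too_small (h4 : Fintype.card ι = 4) (hq : 4 ≤ qq σ) (hq7 : qq σ ≠ 7) (NF : NoFix B e M) (FL : Full B e M)
    {g : V ≃ₗ[F] V} (hgM : g ∈ M) (hg : Iso B g) (hgm : ¬ Mono B e g) (j l : ι) :
    B (e l) (g (e j)) * σ (B (e l) (g (e j))) = 1 := by
  classical
  haveI : Finite V := Module.finite_of_finite F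
  haveI : Finite (V ≃ₗ[F] V) := Finite.of_injective (fun g => (g : V → V)) DFunLike.coe_injective
  have hB := H.herm
  have hon := H.onb
  by_contra hne
  set y := g (e j) with hy
  have hfull : ∀ i, B (e i) y ≠ 0 := fun i => FL g hgM hg hgm i j
  set f := y - B (e l) y • e l with hf
  set m := B f f with hm
  have hyy : B y y = 1 := by rw [hy, hg, hon, if_pos rfl]
  have hm0 : m ≠ 0 := fun h0 => hne (by
    have : m = 1 - B (e l) y * σ (B (e l) y) := by
      simp only [hm, hf, map_sub, map_smul, map_smulₛₗ, LinearMap.sub_apply, LinearMap.smul_apply, smul_eq_mul, hyy,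
        hon l l, ← hB.symm (e l) y, if_true]
      ring
    linear_combination this - h0)
  set G := planeGroup B M (e l) y
  have hdet : ∀ r : V ≃ₗ[F] V, r ∈ G → ∀ a : F, r (e l) = a • e l → LinearMap.det r.toLinearMap = 1 → r = 1 := by
    intro r hr a hra hd
    have hrf := fix_coord H h4 NF hf hm hm0 hfull hr hra
    obtain ⟨-, -, hef, hfe⟩ := plane_dec H hf hm hm0 y
    have ha : a * σ a = 1 := by
      have := hr.1 (e l) (e l)
      rw [hra, Herm.smul_self hB, hon, if_pos rfl, mul_one] at this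
      exact this
    obtain ⟨p, hpi, hpd, hp⟩ := exists_preflection hB (a := e l) (by rw [hon, if_pos rfl]; exact one_ne_zero) ha
    simp only [hon l l, if_true, div_one] at hp
    have hre : r = p := LinearEquiv.ext fun w => by
      obtain ⟨h1, h2, -, -⟩ := plane_dec H hf hm hm0 w
      set z := w - B (e l) w • e l - (B f w / m) • f
      have hw : w = z + B (e l) w • e l + (B f w / m) • f := by simp only [z]; abel
      have hz := hr.2.1 z h1 h2
      conv_lhs => rw [hw, map_add, map_add, map_smul, map_smul, hra, hrf, hz]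
      rw [hp]
      conv_rhs => arg 1; rw [hw]
      module
    have ha1 : a = 1 := by rw [← hd, hre, hpd]
    exact plane_ext H hf hm hm0 hr (one_mem G) (by rw [hra, ha1, one_smul]; rfl) hrf
  let N : Subgroup (V ≃ₗ[F] V) :=
    { carrier := {r | r ∈ G ∧ LinearMap.det r.toLinearMap = 1}
      one_mem' := ⟨one_mem G, by simp⟩
      mul_mem' := fun {a b} ha hb => ⟨mul_mem ha.1 hb.1, by rw [UnitDec.det_mul, ha.2, hb.2, one_mul]⟩
      inv_mem' := fun {a} ha => ⟨inv_mem ha.1, by
        have := UnitDec.det_mul a a⁻¹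
        rw [mul_inv_cancel, ha.2, one_mul] at this
        rw [← this]; simp⟩ }
  obtain ⟨ζ, ξ, hζ, hξ, hζ4, hξ4, hne4⟩ := three_pow H hq hq7
  have hone : ∀ w, B (e l) w = 0 → B y w = 0 → B (e l) w = 0 := fun _ h _ => h
  have htwo : ∀ w, B (e l) w = 0 → B y w = 0 → B y w = 0 := fun _ _ h => h
  -- each of the reflection cosets consists of reflections
  have key : ∀ ζ : F, ζ * σ ζ = 1 → ζ ^ 4 ≠ 1 → ∀ z ∈ N,
      (((ζ ^ 4)⁻¹ * B (e l) (z (e l))) - 1) * (B f (z f) / m - 1) -
        (B f (z (e l)) / m) * ((ζ ^ 4)⁻¹ * B (e l) (z f)) = 0 := by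
    intro ζ hζ hζ4 z hz
    obtain ⟨R, hR, hRd, hRw⟩ := exists_refl H h4 (one_mem M) Iso.one l (e l) y (e l) rfl hone hζ
    set δ := (ζ ^ 4)⁻¹
    have hδ1 : δ - 1 ≠ 0 := fun h => hζ4 (inv_eq_one.1 (sub_eq_zero.1 h))
    obtain ⟨-, -, hef, hfe⟩ := plane_dec H hf hm hm0 y
    have hRe : R (e l) = δ • e l := by rw [hRw, hon, if_pos rfl]; module
    have hRf : R f = f := by rw [hRw, hef, mul_zero, zero_smul, add_zero]
    let φ : N → N := fun z => ⟨(z : V ≃ₗ[F] V) * R * (z : V ≃ₗ[F] V)⁻¹ * R⁻¹,
      mul_mem (mul_mem (mul_mem z.2.1 hR) (inv_mem z.2.1)) (inv_mem hR), by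
        rw [UnitDec.det_mul, UnitDec.det_conj, ← UnitDec.det_mul, mul_inv_cancel]; simp⟩
    have hφ : Function.Injective φ := fun z z' hzz => by
      have h1 : (z : V ≃ₗ[F] V) * R * (z : V ≃ₗ[F] V)⁻¹ = (z' : V ≃ₗ[F] V) * R * (z' : V ≃ₗ[F] V)⁻¹ :=
        mul_right_cancel (congrArg Subtype.val hzz)
      set w := (z' : V ≃ₗ[F] V)⁻¹ * (z : V ≃ₗ[F] V)
      have hwR : R * w = w * R := by
        have h2 := congrArg (fun t => (z' : V ≃ₗ[F] V)⁻¹ * t * (z : V ≃ₗ[F] V)) h1
        simp only [mul_assoc, inv_mul_cancel, mul_one, inv_mul_cancel_left] at h2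
        exact h2.symm
      have hw : w ∈ N := mul_mem (inv_mem z'.2) z.2
      obtain ⟨hwe, -⟩ := plane_image H hf hm hm0 hw.1
      have h3 : R (w (e l)) = δ • w (e l) := by
        rw [← LinearEquiv.mul_apply, hwR, LinearEquiv.mul_apply, hRe, map_smul]
      rw [hwe, map_add, map_smul, map_smul, hRe, hRf, smul_add, smul_smul, smul_smul, mul_comm δ] at h3
      have h4' : ((δ - 1) * (B f (w (e l)) / m)) • f = 0 := by
        rw [smul_smul] at h3
        linear_combination (norm := module) -h3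
      have hf0 : f ≠ 0 := fun h => hm0 (by rw [hm, h, map_zero])
      rw [smul_eq_zero, mul_eq_zero, or_iff_right hδ1, or_iff_left hf0] at h4'
      have h5 : w (e l) = B (e l) (w (e l)) • e l := by
        conv_lhs => rw [hwe, h4', zero_smul, add_zero]
      have h6 := hdet w hw.1 _ h5 hw.2
      exact Subtype.ext (inv_mul_eq_one.1 h6).symm
    obtain ⟨z0, hz0⟩ := Finite.surjective_of_injective hφ ⟨z, hz⟩
    have hzR : z * R = (z0 : V ≃ₗ[F] V) * R * (z0 : V ≃ₗ[F] V)⁻¹ := by
      rw [← show (z0 : V ≃ₗ[F] V) * R * (z0 : V ≃ₗ[F] V)⁻¹ * R⁻¹ = z from congrArg Subtype.val hz0]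
      simp [mul_assoc]
    set pf := (z0 : V ≃ₗ[F] V) f
    have hfix : z (R pf) = pf := by
      rw [← LinearEquiv.mul_apply, hzR, LinearEquiv.mul_apply, LinearEquiv.mul_apply]
      simp only [pf, inv_apply, hRf]
    obtain ⟨-, hpf⟩ := plane_image H hf hm hm0 z0.2.1
    obtain ⟨hze, hzf⟩ := plane_image H hf hm hm0 hz.1
    set A := B (e l) (z (e l))
    set C := B f (z (e l)) / m
    set Bc := B (e l) (z f)
    set D := B f (z f) / m
    set X := B (e l) pf
    set Y := B f pf / m
    have hpe : pf = X • e l + Y • f := hpf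
    have hee : B (e l) (e l) = 1 := by rw [hon, if_pos rfl]
    rw [hpe, map_add, map_smul, map_smul, hRe, hRf, map_add, map_smul, map_smul, map_smul, hze, hzf] at hfix
    have q1 := congrArg (B (e l)) hfix
    simp only [map_add, map_smul, smul_eq_mul, hee, hef, mul_zero, add_zero, mul_one] at q1
    have q2 := congrArg (B f) hfix
    simp only [map_add, map_smul, smul_eq_mul, hfe, mul_zero, zero_add, ← hm] at q2
    have q2' : (X * δ * C + Y * D - Y) * m = 0 := by linear_combination q2
    have q3 := (mul_eq_zero.1 q2').resolve_right hm0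
    have hXY : X ≠ 0 ∨ Y ≠ 0 := by
      by_contra! h
      have hf0 : f ≠ 0 := fun h' => hm0 (by rw [hm, h', map_zero])
      exact hf0 ((z0 : V ≃ₗ[F] V).map_eq_zero_iff.1 (show pf = 0 by rw [hpe, h.1, h.2, zero_smul, zero_smul, add_zero]))
    rcases hXY with h | h
    · exact (mul_eq_zero.1 (show X * ((δ * A - 1) * (D - 1) - C * (δ * Bc)) = 0 by
        linear_combination (D - 1) * q1 - Bc * q3)).resolve_left h
    · exact (mul_eq_zero.1 (show Y * ((δ * A - 1) * (D - 1) - C * (δ * Bc)) = 0 by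
        linear_combination (δ * A - 1) * q3 - (δ * C) * q1)).resolve_left h
  have hN : ∀ z ∈ N, z = 1 := by
    intro z hz
    obtain ⟨hze, hzf⟩ := plane_image H hf hm hm0 hz.1
    obtain ⟨-, -, hef, hfe⟩ := plane_dec H hf hm hm0 y
    set A := B (e l) (z (e l))
    set C := B f (z (e l)) / m
    set Bc := B (e l) (z f)
    set D := B f (z f) / m
    have k1 := key ζ hζ hζ4 z hz
    have k2 := key ξ hξ hξ4 z hz
    have hd : (ζ ^ 4)⁻¹ - (ξ ^ 4)⁻¹ ≠ 0 := sub_ne_zero.2 fun h => hne4 (inv_inj.1 h)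
    have k3 : A * (D - 1) - C * Bc = 0 := (mul_eq_zero.1 (show ((ζ ^ 4)⁻¹ - (ξ ^ 4)⁻¹) * (A * (D - 1) - C * Bc) = 0 by
      linear_combination k1 - k2)).resolve_left hd
    have hD : D = 1 := by linear_combination -k1 + (ζ ^ 4)⁻¹ * k3
    rw [hD, sub_self, mul_zero, zero_sub, neg_eq_zero, mul_eq_zero] at k3
    have hperp : σ A * Bc + σ C * m = 0 := by
      have h := hz.1.1 (e l) f
      rw [hze, hzf, hef, hD] at h
      simp [hfe, hef, hon l l, ← hm] at h
      linear_combination h
    have hC : C = 0 := by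
      rcases k3 with h | h
      · exact h
      · rw [h, mul_zero, zero_add, mul_eq_zero, map_eq_zero] at hperp
        exact hperp.resolve_right hm0
    exact hdet z hz.1 A (by conv_lhs => rw [hze, hC, zero_smul, add_zero]) hz.2
  obtain ⟨R, hR, hRd, hRw⟩ := exists_refl H h4 (one_mem M) Iso.one l (e l) y (e l) rfl hone hζ
  obtain ⟨R', hR', hR'd, hR'w⟩ := exists_refl H h4 hgM hg j (e l) y y hy.symm htwo hζ
  have heq := hN (R' * R⁻¹) ⟨mul_mem hR' (inv_mem hR), by
    have h1 := UnitDec.det_mul R R⁻¹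
    rw [mul_inv_cancel, hRd] at h1
    rw [UnitDec.det_mul, hR'd, ← h1]; simp⟩
  rw [mul_inv_eq_one] at heq
  obtain ⟨i, hi, -, -⟩ := exists_other H h4 l l l
  have h7 := congrArg (fun r : V ≃ₗ[F] V => B (e i) (r (e l))) heq
  simp only [hRw, hR'w, map_add, map_smul, hon i l, hi, if_false, zero_add, smul_eq_mul, mul_zero] at h7
  have hδ1 : (ζ ^ 4)⁻¹ - 1 ≠ 0 := fun h => hζ4 (inv_eq_one.1 (sub_eq_zero.1 h))
  rw [← hB.symm (e l) y] at h7
  exact mul_ne_zero (mul_ne_zero hδ1 ((map_ne_zero σ).2 (hfull l))) (hfull i) h7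

/-- over the field with forty-nine elements the norm of an entry is two -/
theorem norm_two (h4 : Fintype.card ι = 4) (hq : qq σ = 7) (NF : NoFix B e M) (FL : Full B e M)
    {g : V ≃ₗ[F] V} (hgM : g ∈ M) (hg : Iso B g) (hgm : ¬ Mono B e g) (j l : ι) :
    B (e l) (g (e j)) * σ (B (e l) (g (e j))) = 1 ∨ B (e l) (g (e j)) * σ (B (e l) (g (e j))) = 2 := by
  classical
  have hB := H.herm
  have hσ := hB.toIsInvol
  have hon := H.onb
  have h49 : (49 : F) = 0 := by
    have := FiniteField.cast_card_eq_zero F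
    rw [card_F hσ, hq] at this
    norm_num at this
    exact this
  have h7 : (7 : F) = 0 := mul_self_eq_zero.1 (by linear_combination h49)
  have hc : CharP F 7 := by
    obtain ⟨p, hp⟩ := CharP.exists F
    have hd : p ∣ 7 := (CharP.cast_eq_zero_iff F p 7).1 (by exact_mod_cast h7)
    rcases (Nat.dvd_prime (by norm_num)).1 hd with h | h
    · exact absurd (h ▸ CharP.char_is_prime F p) Nat.not_prime_one
    · exact h ▸ hp
  set y := g (e j) with hy
  set n := B (e l) y * σ (B (e l) y) with hn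
  by_contra! hne
  have hfull : ∀ i, B (e i) y ≠ 0 := fun i => FL g hgM hg hgm i j
  have hn0 : n ≠ 0 := mul_ne_zero (hfull l) ((map_ne_zero σ).2 (hfull l))
  obtain ⟨k, hk7, hk⟩ : ∃ k, k < 7 ∧ n = ((k : ℕ) : F) := by
    set Fx := Finset.univ.filter fun x : F => σ x = x with hFx
    have hFc : Fx.card = 7 := hq ▸ (Nat.card_eq_finsetCard _).symm.trans
      (Nat.card_congr (Equiv.subtypeEquivRight fun r => by simp [hFx, Herm.mem_fixField]))
    have hinj : Set.InjOn (fun k : ℕ => (k : F)) (Finset.range 7 : Set ℕ) := fun a ha b hb h => by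
      simp only [Finset.coe_range, Set.mem_Iio] at ha hb
      have := (CharP.natCast_eq_natCast F 7).1 h
      rwa [Nat.ModEq, Nat.mod_eq_of_lt ha, Nat.mod_eq_of_lt hb] at this
    have himg : (Finset.range 7).image (fun k : ℕ => (k : F)) = Fx := Finset.eq_of_subset_of_card_le
      (fun x hx => by
        obtain ⟨k, -, rfl⟩ := Finset.mem_image.1 hx
        simp [hFx])
      (by rw [Finset.card_image_of_injOn hinj, Finset.card_range, hFc])
    have hnF : n ∈ Fx := by simp [hFx, hn, hσ.invol, mul_comm]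
    rw [← himg, Finset.mem_image] at hnF
    obtain ⟨k, hk, hk'⟩ := hnF
    exact ⟨k, Finset.mem_range.1 hk, hk'.symm⟩
  set f := y - B (e l) y • e l with hf
  set m := B f f with hm
  have hyy : B y y = 1 := by rw [hy, hg, hon, if_pos rfl]
  have hm' : m = 1 - n := by
    simp only [hm, hf, hn, map_sub, map_smul, map_smulₛₗ, LinearMap.sub_apply, LinearMap.smul_apply, smul_eq_mul, hyy,
      hon l l, ← hB.symm (e l) y, if_true]
    ring
  have hm0 : m ≠ 0 := fun h0 => hne.1 (by linear_combination hm' - h0)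
  have hf0 : f ≠ 0 := fun h => hm0 (by rw [hm, h, map_zero])
  obtain ⟨-, -, hef, hfe⟩ := plane_dec H hf hm hm0 y
  obtain ⟨ζ, hζ, hζ4⟩ := exists_zeta_four H (by omega)
  have hζ8 : ζ ^ 8 = 1 := by
    have h1 : σ ζ = ζ⁻¹ := eq_sigma_inv hζ
    let G : Subgroup Fˣ := (Herm.normHom σ).ker
    have hxG : Units.mk0 ζ (nrm_ne_zero hζ) ∈ G := Units.ext hζ
    have hc : Nat.card G = 8 := by rw [Herm.card_ker_normHom hσ]; show qq σ + 1 = 8; omega
    have := congrArg (fun u : G => ((u : Fˣ) : F)) (pow_card_eq_one' (x := (⟨_, hxG⟩ : G)))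
    rw [hc] at this
    simpa using this
  have hζ4' : (ζ ^ 4)⁻¹ = -1 := by
    rw [inv_eq_iff_eq_inv, inv_neg_one]
    refine (mul_self_eq_one_iff.1 (show ζ ^ 4 * ζ ^ 4 = 1 by rw [← pow_add]; exact hζ8)).resolve_left hζ4
  have hone : ∀ w, B (e l) w = 0 → B y w = 0 → B (e l) w = 0 := fun _ h _ => h
  have htwo : ∀ w, B (e l) w = 0 → B y w = 0 → B y w = 0 := fun _ _ h => h
  obtain ⟨R, hR, -, hRw⟩ := exists_refl H h4 (one_mem M) Iso.one l (e l) y (e l) rfl hone hζ
  obtain ⟨R', hR', -, hR'w⟩ := exists_refl H h4 hgM hg j (e l) y y hy.symm htwo hζ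
  rw [hζ4'] at hRw hR'w
  set c := B (e l) y
  set z := R * R' with hz
  have hye : y = f + c • e l := by rw [hf]; abel
  have hyel : B y (e l) = σ c := (hB.symm _ _).symm
  have hze : z (e l) = (2 * n - 1) • e l + (-2 * σ c) • f := by
    rw [hz, LinearEquiv.mul_apply, hR'w, map_add, map_smul, hyel, hye, map_add, map_smul, hRw, hRw, hon, if_pos rfl, hef, hn]
    module
  have hzf : z f = (2 * c * (1 - n)) • e l + (2 * n - 1) • f := by
    have hyf : B y f = 1 - n := by
      rw [hf, map_sub, map_smul, hyy, smul_eq_mul, hyel, hn]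
    rw [hz, LinearEquiv.mul_apply, hR'w, map_add, map_smul, hyf, hye, map_add, map_smul, hRw, hRw, hon, if_pos rfl, hef]
    module
  set τ : F := 4 * n - 2 with hτ
  have hch : ∀ v : V, v = e l ∨ v = f → z (z v) = τ • z v - v := by
    rintro v (rfl | rfl)
    · rw [hze, map_add, map_smul, map_smul, hze, hzf, hτ, hn]
      module
    · rw [hzf, map_add, map_smul, map_smul, hze, hzf, hτ, hn]
      module
  have hzG : z ∈ planeGroup B M (e l) y := mul_mem hR hR'
  have hno : ∀ k : ℕ, ¬ ((z ^ k : V ≃ₗ[F] V) (e l) = -e l ∧ (z ^ k : V ≃ₗ[F] V) f = -f) := fun k ⟨h1, h2⟩ => by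
    have h3 := fix_coord H h4 NF hf hm hm0 hfull (pow_mem hzG k) (a := -1) (by rw [h1, neg_one_smul])
    rw [h2, neg_eq_iff_add_eq_zero, ← two_smul F f, smul_eq_zero, or_iff_left hf0] at h3
    exact one_ne_zero (show (1 : F) = 0 by linear_combination h7 - 3 * h3)
  have happ : ∀ n v, (z ^ (n + 1) : V ≃ₗ[F] V) v = z ((z ^ n : V ≃ₗ[F] V) v) := fun n v => by rw [pow_succ']; rfl
  have hp2 : ∀ v, (z ^ 2 : V ≃ₗ[F] V) v = z (z v) := fun v => by rw [pow_two]; rfl
  have h2 : τ ≠ 0 := fun h0 => hno 2 ⟨by rw [hp2, hch _ (Or.inl rfl), h0]; simp, by rw [hp2, hch _ (Or.inr rfl), h0]; simp⟩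
  have h3 : τ ≠ 1 := fun h1 => hno 3 (by
    have e3 : ∀ v, v = e l ∨ v = f → (z ^ 3 : V ≃ₗ[F] V) v = -v := fun v hv => by
      rw [happ 2, hp2, hch v hv, map_sub, map_smul, hch v hv, h1]
      module
    exact ⟨e3 _ (Or.inl rfl), e3 _ (Or.inr rfl)⟩)
  have h4' : τ * τ ≠ 2 := fun h2' => hno 4 (by
    have e4 : ∀ v, v = e l ∨ v = f → (z ^ 4 : V ≃ₗ[F] V) v = -v := fun v hv => by
      rw [happ 3, happ 2, hp2, hch v hv, map_sub, map_smul, hch v hv,
        map_sub, map_smul, map_sub, map_smul, hch v hv]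
      match_scalars <;> first | linear_combination τ * h2' | linear_combination -h2'
    exact ⟨e4 _ (Or.inl rfl), e4 _ (Or.inr rfl)⟩)
  interval_cases k
  · exact hn0 (by rw [hk]; simp)
  · exact hne.1 (by rw [hk]; simp)
  · exact hne.2 (by rw [hk]; simp)
  · exact h4' (by rw [hτ, hk]; push_cast; linear_combination 14 * h7)
  · exact h2 (by rw [hτ, hk]; push_cast; linear_combination 2 * h7)
  · exact h4' (by rw [hτ, hk]; push_cast; linear_combination 46 * h7)
  · exact h3 (by rw [hτ, hk]; push_cast; linear_combination 3 * h7)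

/-- more than three elements in the fixed field: some element fixes a coordinate line -/
theorem exists_fix_four (h4 : Fintype.card ι = 4) (hq : 4 ≤ qq σ) {g : V ≃ₗ[F] V} (hgM : g ∈ M) (hg : Iso B g)
    (hgm : ¬ Mono B e g) : ∃ x ∈ M, Iso B x ∧ ¬ Mono B e x ∧ ∃ (a : ι) (c : F), x (e a) = c • e a := by
  classical
  by_contra! hc
  have NF : NoFix B e M := noFix H h4 fun x hx hxi a c hxa => by_contra fun h => hc x hx hxi h a c hxa
  have FL := full H h4 hq NF
  have hB := H.herm
  by_cases h7 : qq σ = 7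
  · have h70 : (7 : F) = 0 := by
      have := FiniteField.cast_card_eq_zero F
      rw [card_F hB.toIsInvol, h7] at this
      norm_num at this
      exact mul_self_eq_zero.1 (by linear_combination this)
    refine const_false H h4 (by omega) NF (κ := 2) (fun h => one_ne_zero (show (1 : F) = 0 by linear_combination h70 - 3 * h))
      (fun x hxM hxi hxm l j => ?_) hgM hg hgm
    set ν : ι → F := fun i => B (e i) (x (e j)) * σ (B (e i) (x (e j))) with hν
    have hsum : ∑ i, ν i = 1 := by
      have h1 : B (x (e j)) (x (e j)) = 1 := by rw [hxi, H.onb, if_pos rfl]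
      rw [← h1, form H.onb]
      exact Finset.sum_congr rfl fun i _ => mul_comm _ _
    set S := Finset.univ.filter fun i => ν i = 2
    have hs : (S.card : F) = -3 := by
      have e1 : ∀ i, ν i = 1 + if ν i = 2 then 1 else 0 := fun i => by
        rcases norm_two H h4 h7 NF FL hxM hxi hxm j i with h | h
        · change ν i = 1 at h
          rw [h, if_neg (fun h' : (1 : F) = 2 => one_ne_zero (show (1 : F) = 0 by linear_combination -h'))]; simp
        · change ν i = 2 at h
          rw [h]; norm_num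
      rw [Finset.sum_congr rfl fun i _ => e1 i, Finset.sum_add_distrib, Finset.sum_const, Finset.card_univ, h4,
        Finset.sum_boole] at hsum
      simp only [nsmul_eq_mul, Nat.cast_ofNat, mul_one] at hsum
      linear_combination hsum
    have hle : S.card ≤ 4 := h4 ▸ (Finset.card_le_univ S)
    have hS : S = Finset.univ := Finset.eq_univ_of_card S (by
      rw [h4]
      by_contra hne
      have : S.card < 4 := by omega
      interval_cases S.card <;> norm_num at hs
      · exact one_ne_zero (show (1 : F) = 0 by linear_combination h70 - 2 * hs + 0 * h70)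
      · exact one_ne_zero (show (1 : F) = 0 by linear_combination 2 * hs - h70)
      · exact one_ne_zero (show (1 : F) = 0 by linear_combination 3 * hs - 2 * h70)
      · exact one_ne_zero (show (1 : F) = 0 by linear_combination h70 - hs))
    exact (Finset.mem_filter.1 (hS.ge (Finset.mem_univ l))).2
  · have hall := fun x hxM hxi hxm l j => too_small H h4 hq h7 NF FL (g := x) hxM hxi hxm j l
    obtain ⟨a, -⟩ := Finset.card_pos.1 (show 0 < (Finset.univ : Finset ι).card by rw [Finset.card_univ]; omega)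
    refine const_false H h4 ?_ NF (κ := 1) one_ne_zero hall hgM hg hgm
    -- all norms are one, so four is one
    have h1 : B (g (e a)) (g (e a)) = 1 := by rw [hg, H.onb, if_pos rfl]
    rw [form H.onb, Finset.sum_congr rfl fun i _ => (mul_comm _ _).trans (hall g hgM hg hgm i a), Finset.sum_const,
      Finset.card_univ, h4] at h1
    have h3 : (3 : F) = 0 := by simp at h1; linear_combination h1
    by_contra hlt
    have hc := FiniteField.cast_card_eq_zero F
    rw [card_F hB.toIsInvol] at hc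
    obtain hq' | hq' | hq' : qq σ = 4 ∨ qq σ = 5 ∨ qq σ = 6 := by omega
    all_goals rw [hq'] at hc; norm_num at hc
    · exact one_ne_zero (show (1 : F) = 0 by linear_combination hc - 5 * h3)
    · exact one_ne_zero (show (1 : F) = 0 by linear_combination hc - 8 * h3)
    · obtain ⟨p, hp⟩ := CharP.exists F
      haveI : Fact p.Prime := ⟨CharP.char_is_prime F p⟩
      obtain ⟨k, hp', hk⟩ := FiniteField.card F p
      rw [card_F hB.toIsInvol, hq'] at hk
      have h2' : Nat.Prime p := hp'
      have : p = 3 := (Nat.prime_dvd_prime_iff_eq h2' (by norm_num)).1 ((CharP.cast_eq_zero_iff F p 3).1 (by exact_mod_cast h3))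
      subst this
      rcases k with ⟨k, hk0⟩
      simp only [PNat.mk_coe] at hk
      rcases k with _ | _ | _ | _ | k
      all_goals first | omega | (norm_num at hk) | (simp [pow_succ] at hk; omega)

theorem two_centre (h4 : Fintype.card ι = 4) (hq : qq σ = 2) (i j : ι) (v : V) (hv : B v v = 0)
    (hvo : ∀ l, l ≠ i → l ≠ j → B (e l) v = 0) : v ∈ centres B M := by
  classical
  have hB := H.herm
  have hon := H.onb
  obtain ⟨h20, hnrm⟩ := two_elts hon hB hq
  refine ⟨hv, fun hv' c hc => H.mono_mem _ (Herm.tvU_isometry hB hv' hc) ?_ (mono_of_single hon (Herm.tvU_isometry hB hv' hc) ?_)⟩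
  · simpa [Units.ext_iff] using (Herm.tvU_mem hB hv' hc).2
  intro k
  rcases eq_or_ne c 0 with rfl | hc0
  · exact ⟨k, fun l hl => by simp [Herm.tvU_apply, hon l k, hl]⟩
  have hc1 : c = 1 := by
    have h1 : σ c = c := by linear_combination hc - c * h20
    have h2 := hnrm c hc0
    rw [h1] at h2
    exact (mul_self_eq_one_iff.1 h2).elim id fun h => h.trans (by linear_combination -h20)
  subst hc1
  have hsame : ∀ l, l ≠ k → B (e k) v = 0 → B (e l) (Herm.tvU hv' 1 (e k)) = 0 := fun l hl hk0 => by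
    rw [Herm.tvU_apply, (Herm.eq_zero_comm hB).1 hk0]; simp [hon l k, hl]
  by_cases hk0 : B (e k) v = 0
  · exact ⟨k, fun l hl => hsame l hl hk0⟩
  have hvij : B (e i) v * σ (B (e i) v) + (if i = j then 0 else B (e j) v * σ (B (e j) v)) = 0 := by
    have h := form hon v v
    rw [hv] at h
    by_cases hij : i = j
    · subst hij
      rw [Fintype.sum_eq_single i fun l hl => by rw [hvo l hl hl, mul_zero]] at h
      rw [if_pos rfl]; linear_combination -h
    · rw [Fintype.sum_eq_add i j hij fun l hl => by rw [hvo l hl.1 hl.2, mul_zero]] at h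
      rw [if_neg hij]; linear_combination -h
  obtain ⟨d, hd⟩ : ∃ d, d ≠ k ∧ ∀ l, l ≠ k → l ≠ d → B (e l) v = 0 := by
    have hkij : k = i ∨ k = j := by by_contra! h; exact hk0 (hvo k h.1 h.2)
    have hij : i ≠ j := fun hij => by
      subst hij
      obtain rfl : k = i := hkij.elim id id
      rw [if_pos rfl, add_zero] at hvij
      exact mul_ne_zero hk0 ((map_ne_zero σ).2 hk0) hvij
    rcases hkij with rfl | rfl
    · exact ⟨j, hij.symm, hvo⟩
    · exact ⟨i, hij, fun l h1 h2 => hvo l h2 h1⟩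
  refine ⟨d, fun l hl => ?_⟩
  rw [Herm.tvU_apply, ← hB.symm (e k) v, map_add, map_smul, hon, smul_eq_mul, one_mul]
  by_cases hlk : l = k
  · subst hlk
    rw [if_pos rfl]
    linear_combination hnrm _ hk0 + h20
  · rw [if_neg hlk, hd.2 l hlk hl, mul_zero, zero_add]

/-- four elements in the field of coordinates -/
theorem two_case (h4 : Fintype.card ι = 4) (hq : qq σ = 2) {g : V ≃ₗ[F] V} (hgM : g ∈ M) (hg : Iso B g)
    (hgm : ¬ Mono B e g) : ∀ v, B v v = 0 → v ∈ centres B M := by
  classical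
  have hB := H.herm
  have hon := H.onb
  have hσ := hB.toIsInvol
  obtain ⟨h20, hnrm⟩ := two_elts hon hB hq
  have h2 := two_centre H h4 hq
  -- a centre with four non-zero places
  obtain ⟨w, hwC, hw⟩ : ∃ w ∈ centres B M, ∀ l, B (e l) w ≠ 0 := by
    by_contra! hc
    have hsm : ∀ v, v ∈ centres B M → ∀ a b c, a ≠ b → a ≠ c → b ≠ c → B (e a) v ≠ 0 → B (e b) v ≠ 0 → B (e c) v = 0 := by
      intro v hv a b c hab hac hbc ha hb
      by_contra hcc
      obtain ⟨d, hda, hdb, hdc⟩ := exists_other H h4 a b c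
      obtain ⟨l, hl⟩ := hc v hv
      have hld : l = d := by
        have h5 : ({a, b, c, d} : Finset ι) = Finset.univ := Finset.eq_univ_of_card _ (by
          rw [Finset.card_insert_of_notMem (by simp [hab, hac, hda.symm]), Finset.card_insert_of_notMem (by simp [hbc, hdb.symm]),
            Finset.card_pair hdc.symm, h4])
        have := h5.ge (Finset.mem_univ l)
        simp only [Finset.mem_insert, Finset.mem_singleton] at this
        rcases this with rfl | rfl | rfl | rfl
        · exact absurd hl ha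
        · exact absurd hl hb
        · exact absurd hl hcc
        · rfl
      subst hld
      have := hv.1
      rw [form hon v v] at this
      have hsum : ∀ i, σ (B (e i) v) * B (e i) v = if i = l then 0 else 1 := fun i => by
        by_cases hi : i = l
        · subst hi; simp [hl]
        · rw [if_neg hi, mul_comm]
          refine hnrm _ fun h0 => ?_
          have h5 : ({a, b, c, l} : Finset ι) = Finset.univ := Finset.eq_univ_of_card _ (by
            rw [Finset.card_insert_of_notMem (by simp [hab, hac, hda.symm]), Finset.card_insert_of_notMem (by simp [hbc, hdb.symm]),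
              Finset.card_pair hdc.symm, h4])
          have := h5.ge (Finset.mem_univ i)
          simp only [Finset.mem_insert, Finset.mem_singleton] at this
          rcases this with rfl | rfl | rfl | rfl
          exacts [ha h0, hb h0, hcc h0, hi rfl]
      rw [Finset.sum_congr rfl fun i _ => hsum i, Finset.sum_ite, Finset.sum_const_zero, zero_add, Finset.sum_const,
        Finset.filter_ne', Finset.card_erase_of_mem (Finset.mem_univ l), Finset.card_univ, h4] at this
      norm_num at this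
      exact one_ne_zero (show (1 : F) = 0 by linear_combination this - h20)
    refine hgm (mono_of_single hon hg fun i => ?_)
    set a := g (e i)
    obtain ⟨d, hd⟩ : ∃ d, B (e d) a ≠ 0 := by
      by_contra! h
      exact e.ne_zero i (g.map_eq_zero_iff.1 (show g (e i) = 0 from ext_co hon fun l => by rw [map_zero]; exact h l))
    refine ⟨d, fun k hk => ?_⟩
    by_contra hka
    -- three places of the column
    have hnorm : ∀ v : V, B v v = ∑ l, if B (e l) v = 0 then (0 : F) else 1 := fun v => by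
      rw [form hon v v]
      refine Finset.sum_congr rfl fun l _ => ?_
      split_ifs with h
      · rw [h, mul_zero]
      · rw [mul_comm]; exact hnrm _ h
    obtain ⟨r, hrd, hrk, hra⟩ : ∃ r, r ≠ d ∧ r ≠ k ∧ B (e r) a ≠ 0 := by
      by_contra! h
      have h1 : B a a = 1 := by rw [hg, hon, if_pos rfl]
      rw [hnorm, Fintype.sum_eq_add k d hk fun l hl => if_pos (h l hl.2 hl.1), if_neg hka, if_neg hd] at h1
      exact one_ne_zero (show (1 : F) = 0 by linear_combination h1)
    obtain ⟨o, hod, hok, hor⟩ := exists_other H h4 d k r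
    have huniv : ∀ l, l = d ∨ l = k ∨ l = r ∨ l = o := fun l => by
      have h5 : ({d, k, r, o} : Finset ι) = Finset.univ := Finset.eq_univ_of_card _ (by
        rw [Finset.card_insert_of_notMem (by simp [hk.symm, hrd.symm, hod.symm]),
          Finset.card_insert_of_notMem (by simp [hrk.symm, hok.symm]), Finset.card_pair hor.symm, h4])
      have := h5.ge (Finset.mem_univ l)
      simpa using this
    have hoa : B (e o) a = 0 := by
      by_contra ho
      have h1 : B a a = 1 := by rw [hg, hon, if_pos rfl]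
      rw [hnorm, Finset.sum_congr rfl (fun l _ => if_neg (show B (e l) a ≠ 0 by
        rcases huniv l with rfl | rfl | rfl | rfl <;> assumption)), Finset.sum_const, Finset.card_univ, h4] at h1
      norm_num at h1
      exact one_ne_zero (show (1 : F) = 0 by linear_combination 2 * h20 - h1)
    obtain ⟨i', hi'⟩ : ∃ i', B (e o) (g (e i')) ≠ 0 := by
      by_contra! h
      have : g⁻¹ (e o) = 0 := ext_co hon fun l => by
        rw [map_zero, ← hg, apply_inv, Herm.eq_zero_comm hB]
        exact h l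
      exact e.ne_zero o ((g⁻¹).map_eq_zero_iff.1 this)
    have hii : i' ≠ i := fun h => hi' (h ▸ hoa)
    set b := g (e i')
    -- choose the combination
    have hcen : ∀ φ : F, φ ≠ 0 → a + φ • b ∈ centres B M := fun φ hφ => by
      have hvv : B (e i + φ • e i') (e i + φ • e i') = 0 := by
        simp [hon i i, hon i i', hon i' i, hon i' i', hii, hii.symm]
        linear_combination hnrm φ hφ + h20
      have := map_mem_centres hB (h2 i i' _ hvv fun l h1 h1' => by simp [hon l i, hon l i', h1, h1']) hgM hg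
      rwa [map_add, map_smul] at this
    have hco : ∀ φ l, B (e l) (a + φ • b) = B (e l) a + φ * B (e l) b := fun φ l => by simp
    have hzero : ∀ φ, φ ≠ 0 → ∀ p q, p ≠ q → p ≠ o → q ≠ o → B (e p) a + φ * B (e p) b ≠ 0 →
        B (e q) a + φ * B (e q) b = 0 := fun φ hφ p q hpq hpo hqo hp => by
      have := hsm _ (hcen φ hφ) o p q (Ne.symm hpo) (Ne.symm hqo) hpq (by rw [hco, hoa, zero_add]; exact mul_ne_zero hφ hi')
        (by rw [hco]; exact hp)
      rwa [hco] at this
    obtain ⟨φ, hφ, hφ1⟩ : ∃ φ : F, φ ≠ 0 ∧ φ ≠ 1 := by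
      obtain ⟨x, hx, h1, -⟩ := exists_zeta (σ := σ) hσ
      exact ⟨x, fun h => by simp [h] at hx, h1⟩
    -- for two parameters two of the three places vanish
    have pick : ∀ φ, φ ≠ 0 → (B (e d) a + φ * B (e d) b = 0 ∧ B (e k) a + φ * B (e k) b = 0) ∨
        (B (e d) a + φ * B (e d) b = 0 ∧ B (e r) a + φ * B (e r) b = 0) ∨
        (B (e k) a + φ * B (e k) b = 0 ∧ B (e r) a + φ * B (e r) b = 0) := fun φ hφ => by
      by_cases h1 : B (e d) a + φ * B (e d) b = 0
      · by_cases h2 : B (e k) a + φ * B (e k) b = 0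
        · exact Or.inl ⟨h1, h2⟩
        · exact Or.inr (Or.inl ⟨h1, hzero φ hφ k r (Ne.symm hrk) hok.symm hor.symm h2⟩)
      · exact Or.inr (Or.inr ⟨hzero φ hφ d k hk.symm hod.symm hok.symm h1, hzero φ hφ d r (Ne.symm hrd) hod.symm hor.symm h1⟩)
    have huniq : ∀ l φ φ', B (e l) a ≠ 0 → B (e l) a + φ * B (e l) b = 0 → B (e l) a + φ' * B (e l) b = 0 → φ = φ' := by
      intro l φ φ' hl h1 h2
      have hb : B (e l) b ≠ 0 := fun h0 => hl (by simpa [h0] using h1)
      exact mul_right_cancel₀ hb (by linear_combination h1 - h2)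
    rcases pick φ hφ with ⟨p1, p2⟩ | ⟨p1, p2⟩ | ⟨p1, p2⟩ <;> rcases pick 1 one_ne_zero with ⟨q1, q2⟩ | ⟨q1, q2⟩ | ⟨q1, q2⟩ <;>
      first
      | exact hφ1 (huniq d _ _ hd p1 q1)
      | exact hφ1 (huniq k _ _ hka p2 q1)
      | exact hφ1 (huniq k _ _ hka p1 q2)
      | exact hφ1 (huniq k _ _ hka p1 q1)
      | exact hφ1 (huniq k _ _ hka p2 q2)
      | exact hφ1 (huniq r _ _ hra p2 q2)
  intro v hv
  haveI : Nonempty ι := Fintype.card_pos_iff.1 (by omega)
  by_cases hall : ∀ l, B (e l) v ≠ 0
  · set P := ∏ l, B (e l) v / B (e l) w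
    have hP : P ≠ 0 := Finset.prod_ne_zero_iff.2 fun l _ => div_ne_zero (hall l) (hw l)
    have hP3 : P⁻¹ ^ 3 = 1 := by
      have h1 := FiniteField.pow_card_sub_one_eq_one P⁻¹ (inv_ne_zero hP)
      rw [card_F hσ, hq] at h1
      exact h1
    obtain ⟨t, htM, hti, ht⟩ := H.diag_mem (fun l => P⁻¹ * (B (e l) v / B (e l) w))
      (fun l => hnrm _ (mul_ne_zero (inv_ne_zero hP) (div_ne_zero (hall l) (hw l)))) (by
        rw [Finset.prod_mul_distrib, Finset.prod_const, Finset.card_univ, h4, pow_succ, hP3, one_mul, inv_mul_cancel₀ hP])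
    have hvt : v = P • t w := ext_co hon fun l => by
      rw [map_smul, co_diag hon ht, smul_eq_mul]
      field_simp [hw l]
    rw [hvt]
    exact smul_mem_centres hB (map_mem_centres hB hwC htM hti) P
  · push Not at hall
    obtain ⟨o, ho⟩ := hall
    refine small hon hB h2 v hv ?_
    have hle : (supp B e v).card ≤ 3 := by
      refine (Finset.card_le_card (show supp B e v ⊆ Finset.univ.erase o from fun l hl =>
        Finset.mem_erase.2 ⟨fun h => mem_supp.1 hl (h ▸ ho), Finset.mem_univ _⟩)).trans ?_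
      rw [Finset.card_erase_of_mem (Finset.mem_univ o), Finset.card_univ, h4]
    by_contra h3
    have h3' : (supp B e v).card = 3 := by omega
    have h1 := norm_supp hon v
    rw [hv, Finset.sum_congr rfl fun l hl => hnrm _ (mem_supp.1 hl), Finset.sum_const, h3'] at h1
    norm_num at h1
    exact one_ne_zero (show (1 : F) = 0 by linear_combination -h1 - h20)

/-- the monomial case in dimension four -/
theorem mono_centres (h4 : Fintype.card ι = 4) (hq3 : qq σ ≠ 3) {g : V ≃ₗ[F] V} (hgM : g ∈ M) (hg : Iso B g)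
    (hgm : ¬ Mono B e g) : ∀ v, B v v = 0 → v ∈ centres B M := by
  haveI : Nonempty ι := Fintype.card_pos_iff.1 (by omega)
  rcases (two_le_qq (σ := σ)).eq_or_lt' with hq | hq
  · exact two_case H h4 hq hgM hg hgm
  obtain ⟨x, hx, hxi, hxm, a, c, hxa⟩ := exists_fix_four H h4 (by omega) hgM hg hgm
  obtain ⟨v, hv, hv0, hva⟩ := centre_of_fix H hx hxi hxm hxa
  exact all_big H.onb H.herm (fun i j u hu huo => two_places H hv hv0 hva i j u hu huo) (by omega)

end

end Cfsg.Agent.ClassicalMax.SU4.Mono
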