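import Cfsg.Agent.ClassicalMax.SU4.SubFrame
import Cfsg.Agent.ClassicalMax.Sp4.SubfieldOdd

/-!
Subfield groups of odd prime degree are maximal in four-dimensional special unitary groups: in odd characteristic a
moved transvection and a rational one generate a large group on a plane, in characteristic two the centraliser of a
rational involution is rational.
-/

set_option autoImplicit false
set_option linter.unusedSectionVars false
set_option linter.unusedSimpArgs false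
set_option linter.style.haveILetI false

namespace Cfsg.Agent.ClassicalMax.SU4.Sub.Odd

open Module Matrix Cfsg.Agent.Classical Cfsg.Agent.ClassicalMax Cfsg.Agent.ClassicalMax.Subfield
  Cfsg.Agent.RootSub.Dickson
open scoped MatrixGroups

section Plane

variable {F V : Type*} [Field F] [AddCommGroup V] [Module F V] {σ : F →+* F} {A : V →ₛₗ[σ] V →ₗ[F] F} {L : Subfield F}

/-- a matrix acting on a hyperbolic pair, twisted by a scalar -/
def planeLin (A : V →ₛₗ[σ] V →ₗ[F] F) (k : F) (u p : V) (M : Matrix (Fin 2) (Fin 2) L) : V →ₗ[F] V where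
  toFun x := x + (((M 0 0 : F) - 1) * A p x + k * (M 0 1 : F) * A u x) • u
    + ((M 1 0 : F) / k * A p x + ((M 1 1 : F) - 1) * A u x) • p
  map_add' x y := by simp [mul_add, add_smul]; abel
  map_smul' c x := by simp [smul_add, smul_smul, mul_add, mul_left_comm c]

theorem planeLin_mul {k : F} (hk : k ≠ 0) {u p : V} (hu : A u u = 0) (hp : A p p = 0) (h : A u p = 1) (h' : A p u = 1)
    (M N : Matrix (Fin 2) (Fin 2) L) (x : V) :
    planeLin A k u p (M * N) x = planeLin A k u p M (planeLin A k u p N x) := by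
  simp [planeLin, Matrix.mul_apply, Fin.sum_univ_two, hu, hp, h, h']
  match_scalars <;> field_simp <;> ring

/-- the action of the special linear group of the fixed field on a hyperbolic pair -/
noncomputable def planeHom (L : Subfield F) {k : F} (hk : k ≠ 0) {u p : V} (hu : A u u = 0) (hp : A p p = 0)
    (h : A u p = 1) (h' : A p u = 1) : SL(2, L) →* (V ≃ₗ[F] V) :=
  (LinearMap.GeneralLinearGroup.generalLinearEquiv F V).toMonoidHom.comp
    (MonoidHom.toHomUnits
      { toFun := fun g => planeLin A k u p (g : Matrix (Fin 2) (Fin 2) L)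
        map_one' := LinearMap.ext fun x => by simp [planeLin]
        map_mul' := fun g m => LinearMap.ext fun x => planeLin_mul hk hu hp h h' g.1 m.1 x })

variable {k : F} (hk : k ≠ 0) {u p : V} (hu : A u u = 0) (hp : A p p = 0) (h : A u p = 1) (h' : A p u = 1)

theorem planeHom_apply (g : SL(2, L)) (x : V) :
    planeHom L hk hu hp h h' g x = planeLin A k u p (g : Matrix (Fin 2) (Fin 2) L) x := rfl

theorem planeHom_upR (t : L) : planeHom L hk hu hp h h' (upR t) = Tv A u (k * t) :=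
  LinearEquiv.ext fun x => by
    rw [planeHom_apply, Tv_apply hu]
    simp [planeLin, coe_upR]

theorem planeHom_lowR (t : L) : planeHom L hk hu hp h h' (lowR t) = Tv A p ((t : F) / k) :=
  LinearEquiv.ext fun x => by
    rw [planeHom_apply, Tv_apply hp]
    simp [planeLin, coe_lowR]

end Plane

variable {F : Type*} [Field F] [Fintype F] {σ : F →+* F} {F₀ : Subfield F}
  {A : (Fin 4 → F) →ₛₗ[σ] (Fin 4 → F) →ₗ[F] F} {X : Subgroup ((Fin 4 → F) ≃ₗ[F] (Fin 4 → F))}

/-- the extra hypotheses for an odd degree -/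
structure OddDeg (F₀ : Subfield F) (A : (Fin 4 → F) →ₛₗ[σ] (Fin 4 → F) →ₗ[F] F)
    (X : Subgroup ((Fin 4 → F) ≃ₗ[F] (Fin 4 → F))) (k β : F) (r : ℕ) : Prop extends Over F₀ A X where
  kF : k ∈ F₀
  k0 : k ≠ 0
  ks : σ k = -k
  bF : β ∈ F₀
  bs : σ β ≠ β
  rp : r.Prime
  rodd : Odd r
  cardL : Nat.card (Herm.fixField σ) = Nat.card (F₀.comap (Herm.fixField σ).subtype) ^ r
  nrm : ∀ a ∈ F₀, σ a = a → ∃ θ ∈ F₀, θ * σ θ = a

variable {k β : F} {r : ℕ}

namespace OddDeg

variable (hD : OddDeg F₀ A X k β r)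
include hD

/-- a rational isotropic vector orthogonal to two given ones -/
theorem exists_iso {s : ℕ} (p : Fin s → Fin 4 → F) (hp : ∀ i, RV F₀ (p i)) (hs : s ≤ 2) :
    ∃ e, RV F₀ e ∧ e ≠ 0 ∧ A e e = 0 ∧ ∀ i, A (p i) e = 0 := by
  have hO := hD.toOver
  obtain ⟨u, hu, hup, hu0⟩ := exists_avoid (F₀ := F₀) (fun i => A (p i)) (fun i j => hO.form _ _ (hp i) (rv_single j))
    (![] : Fin 0 → Fin 4 → F) (fun j => j.elim0) (by rw [Fintype.card_fin]; omega)
  have hu0' : u ≠ 0 := fun e => hu0 (by rw [e]; exact zero_mem _)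
  by_cases huu : A u u = 0
  · exact ⟨u, hu, hu0', huu, hup⟩
  let p' : Fin (s + 1) → Fin 4 → F := Fin.cons u p
  have hp' : ∀ i, RV F₀ (p' i) := fun i => by refine Fin.cases ?_ ?_ i <;> simp [p', hu, hp]
  obtain ⟨w, hw, hwp, hw0⟩ := exists_avoid (F₀ := F₀) (fun i => A (p' i)) (fun i j => hO.form _ _ (hp' i) (rv_single j))
    (![] : Fin 0 → Fin 4 → F) (fun j => j.elim0) (by rw [Fintype.card_fin]; omega)
  have hw0' : w ≠ 0 := fun e => hw0 (by rw [e]; exact zero_mem _)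
  have huw : A u w = 0 := by simpa [p'] using hwp 0
  have hpw : ∀ i, A (p i) w = 0 := fun i => by simpa [p'] using hwp i.succ
  by_cases hww : A w w = 0
  · exact ⟨w, hw, hw0', hww, hpw⟩
  obtain ⟨θ, hθ, hθN⟩ := hD.nrm (-(A u u) / A w w) (F₀.div_mem (F₀.neg_mem (hO.form _ _ hu hu)) (hO.form _ _ hw hw))
    (by rw [map_div₀, map_neg, hO.symm', hO.symm'])
  refine ⟨u + θ • w, hu.add (hw.smul hθ), fun e => huu ?_, ?_, fun i => by simp [hup i, hpw i]⟩
  · have := congrArg (A u) e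
    simpa [huw] using this
  · simp [huw, hO.swap huw]
    rw [eq_div_iff hww] at hθN
    linear_combination hθN

theorem exists_frame : ∃ e₁ e₂ f₁ f₂, Frame F₀ A e₁ e₂ f₁ f₂ := by
  have hO := hD.toOver
  obtain ⟨e₁, he₁, he₁0, e11, -⟩ := hD.exists_iso ![] (fun i => i.elim0) (by omega)
  obtain ⟨f₁, hf₁, f11, h11, g11⟩ := hO.partner he₁ e11 he₁0
  obtain ⟨e₂, he₂, he₂0, e22, hp⟩ := hD.exists_iso ![e₁, f₁] (by intro i; fin_cases i <;> assumption) le_rfl
  have e12 : A e₁ e₂ = 0 := hp 0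
  have fe12 : A f₁ e₂ = 0 := hp 1
  obtain ⟨f, hf, -, hef, hfe⟩ := hO.partner he₂ e22 he₂0
  set w := f - A f₁ f • e₁ - A e₁ f • f₁ with hw
  have hwR : RV F₀ w := (hf.sub (he₁.smul (hO.form _ _ hf₁ hf))).sub (hf₁.smul (hO.form _ _ he₁ hf))
  have h1w : A e₁ w = 0 := by simp [hw, e11, h11]
  have hfw : A f₁ w = 0 := by simp [hw, f11, g11]
  have hew : A e₂ w = 1 := by simp [hw, hef, hO.swap e12, hO.swap fe12]
  obtain ⟨μ, hμ, hμw⟩ := hO.self_half hwR
  have hwe : A w e₂ = 1 := by rw [← hO.symm', hew, map_one]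
  refine ⟨e₁, e₂, f₁, w - μ • e₂, he₁, he₂, hf₁, hwR.sub (he₂.smul hμ), e11, e22, f11, ?_, h11, g11, ?_, ?_, e12,
    hO.swap e12, ?_, hO.swap ?_, ?_, hO.swap ?_, hO.swap fe12, fe12⟩
  · simp [hew, hwe, e22]
    linear_combination -hμw
  · simp [hew, e22]
  · simp [hwe, e22]
  all_goals simp [hfw, h1w, fe12, e12]

/-- one irrational parameter at a rational point gives all isotropic centres -/
theorem full_of_extra {v : Fin 4 → F} {c : F} (hv : RV F₀ v) (hv0 : v ≠ 0) (hvv : A v v = 0) (hc : c + σ c = 0)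
    (hcX : Tv A v c ∈ X) (hcF : c ∉ F₀) {w : Fin 4 → F} (hw : A w w = 0) : w ∈ Unitary.centres A X := by
  classical
  have hO := hD.toOver
  have hks : k + σ k = 0 := by rw [hD.ks, add_neg_cancel]
  obtain ⟨a₁, a₂, b₁, b₂, hG⟩ := hD.exists_frame
  obtain ⟨e₁, e₂, f₁, f₂, hF, hne⟩ : ∃ e₁ e₂ f₁ f₂, Frame F₀ A e₁ e₂ f₁ f₂ ∧ A e₂ v ≠ 0 := by
    by_contra! hno
    refine hv0 ?_
    rw [hG.decomp v, hno _ _ _ _ hG, hno _ _ _ _ hG.cyc, hno _ _ _ _ hG.cyc.cyc, hno _ _ _ _ hG.cyc.cyc.cyc]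
    simp
  -- move the parameter into the frame
  set h := A e₂ v with hh
  have hhF : h ∈ F₀ := hO.form _ _ hF.re₂ hv
  have hve : A v e₂ = σ h := (hO.symm' _ _).symm
  set a := k * h with ha
  have hσh : σ h ≠ 0 := (map_ne_zero σ).2 hne
  set c₂ := -(1 / (k * (h * σ h))) with hc₂
  have hc₂F : c₂ ∈ F₀ := F₀.neg_mem (F₀.div_mem F₀.one_mem (F₀.mul_mem hD.kF (F₀.mul_mem hhF (hO.stab h hhF))))
  have hc₂s : c₂ + σ c₂ = 0 := by
    rw [hc₂, map_neg, map_div₀, map_one, map_mul, map_mul, hD.ks, hO.invol, neg_mul, div_neg, neg_neg, mul_comm (σ h) h,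
      neg_add_cancel]
  have hs := mul_mem (hO.Tv_rat hv hvv hc₂F hc₂s) (hO.Tv_rat hF.re₂ hF.e22 hD.kF hks)
  have hsv : (Tv A v c₂ * Tv A e₂ k) v = a • e₂ := by
    rw [LinearEquiv.mul_apply, Tv_apply hF.e22, ← hh, ← ha, map_add, map_smul, Tv_apply hvv, Tv_apply hvv, hvv, hve,
      mul_zero, zero_smul, add_zero, smul_add, smul_smul]
    have e : a * (c₂ * σ h) = -1 := by
      rw [ha, hc₂]
      field_simp [hD.k0, hne, hσh]
    rw [e]
    module
  have h1 := hO.conj_Tv_mem hs hvv hcX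
  rw [hsv, Tv_smul hF.e22] at h1
  have haF : a * σ a ∈ F₀ := F₀.mul_mem (F₀.mul_mem hD.kF hhF) (hO.stab _ (F₀.mul_mem hD.kF hhF))
  have ha0 : a * σ a ≠ 0 := mul_ne_zero (mul_ne_zero hD.k0 hne) ((map_ne_zero σ).2 (mul_ne_zero hD.k0 hne))
  set c' := c * (a * σ a) with hc'
  have hc's : c' + σ c' = 0 := by
    rw [hc', map_mul σ c, map_mul σ a, hO.invol, mul_comm (σ a) a, ← add_mul, hc, zero_mul]
  have hPc : Par F₀ A X e₁ e₂ f₁ f₂ c' := hO.par_of hF hc's h1
  have hPk : Par F₀ A X e₁ e₂ f₁ f₂ k := hO.par_of hF hks (hO.Tv_rat hF.re₂ hF.e22 hD.kF hks)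
  -- the parameters form the whole fixed field
  set L := Herm.fixField σ with hL
  haveI : Fintype L := Fintype.ofFinite L
  set Φ := F₀.comap L.subtype with hΦ
  let R : Set L := {z | Par F₀ A X e₁ e₂ f₁ f₂ (k * z)}
  have hk2 : (1 / (k * k)) ∈ F₀ ∧ σ (1 / (k * k)) = 1 / (k * k) :=
    ⟨F₀.div_mem F₀.one_mem (F₀.mul_mem hD.kF hD.kF), by rw [map_div₀, map_one, map_mul, hD.ks, neg_mul_neg]⟩
  have hmul : ∀ z z' : L, z ∈ R → z' ∈ R → z * z' ∈ R := fun z z' hz hz' => by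
    have := hO.par_mul_mul hF hPk hz hz' hk2.1 hk2.2
    show Par F₀ A X e₁ e₂ f₁ f₂ (k * (z * z' : L))
    convert this using 1
    push_cast
    field_simp [hD.k0]
  have hrat : ∀ z : L, z ∈ Φ → z ∈ R := fun z hz => by
    have hzs : σ (z : F) = z := z.2
    exact hO.par_of hF (by rw [map_mul, hzs, ← add_mul, hks, zero_mul])
      (hO.Tv_rat hF.re₂ hF.e22 (F₀.mul_mem hD.kF hz) (by rw [map_mul, hzs, ← add_mul, hks, zero_mul]))
  let S : Subfield L :=
    { carrier := R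
      mul_mem' := fun ha hb => hmul _ _ ha hb
      one_mem' := hrat 1 Φ.one_mem
      add_mem' := fun {x y} hx hy => by
        show Par F₀ A X e₁ e₂ f₁ f₂ (k * (x + y : L))
        push_cast
        rw [mul_add]
        exact hO.par_add hF hx hy
      zero_mem' := hrat 0 Φ.zero_mem
      neg_mem' := fun {x} hx => by
        rw [← neg_one_mul]
        exact hmul _ _ (hrat _ (Φ.neg_mem Φ.one_mem)) hx
      inv_mem' := fun x hx => by
        rcases eq_or_ne x 0 with rfl | h0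
        · simpa using hx
        have hpow : ∀ n : ℕ, x ^ n ∈ R := fun n => by
          induction n with
          | zero => rw [pow_zero]; exact hrat 1 Φ.one_mem
          | succ n ih => rw [pow_succ]; exact hmul _ _ ih hx
        have : x⁻¹ = x ^ (Fintype.card L - 2) := by
          refine inv_eq_of_mul_eq_one_right ?_
          rw [← pow_succ', show Fintype.card L - 2 + 1 = Fintype.card L - 1 by
            have := Fintype.one_lt_card (α := L); omega, FiniteField.pow_card_sub_one_eq_one x h0]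
        rw [this]; exact hpow _ }
  have hall : ∀ d, d + σ d = 0 → Par F₀ A X e₁ e₂ f₁ f₂ d := by
    have hcard : Fintype.card L = Nat.card Φ ^ r := by rw [← Nat.card_eq_fintype_card]; exact hD.cardL
    rcases Sp4.subfield_eq_or_top hD.rp hcard (S := S) hrat with hS | hS
    · exfalso
      have hz : σ (c' / k) = c' / k := by
        rw [map_div₀, hD.ks, eq_neg_of_add_eq_zero_right hc's, neg_div_neg_eq]
      have h2 : (⟨c' / k, hz⟩ : L) ∈ S := by
        show Par F₀ A X e₁ e₂ f₁ f₂ (k * (c' / k))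
        rw [mul_div_cancel₀ _ hD.k0]
        exact hPc
      have h3 : c' / k ∈ F₀ := hS _ h2
      have h4 := F₀.div_mem (F₀.mul_mem h3 hD.kF) haF
      rw [div_mul_cancel₀ _ hD.k0, hc', mul_div_cancel_right₀ _ ha0] at h4
      exact hcF h4
    · intro d hd
      have hz : σ (d / k) = d / k := by
        rw [map_div₀, hD.ks, eq_neg_of_add_eq_zero_right hd, neg_div_neg_eq]
      have h2 : Par F₀ A X e₁ e₂ f₁ f₂ (k * (d / k)) := hS ⟨d / k, hz⟩
      rwa [mul_div_cancel₀ _ hD.k0] at h2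
  have hcyc : ∀ {a b c' d' : Fin 4 → F}, (∀ d, d + σ d = 0 → Par F₀ A X a b c' d' d) →
      ∀ d, d + σ d = 0 → Par F₀ A X b c' d' a d := fun hh d hd =>
    ⟨hd, fun t ht hts => ⟨((hh d hd).2 t ht hts).2.1, ((hh d hd).2 t ht hts).2.2.1, ((hh d hd).2 t ht hts).2.2.2,
      ((hh d hd).2 t ht hts).1⟩⟩
  have hflip : ∀ {a b c' d' : Fin 4 → F}, (∀ d, d + σ d = 0 → Par F₀ A X a b c' d' d) →
      ∀ d, d + σ d = 0 → Par F₀ A X a d' c' b d := fun hh d hd =>
    ⟨hd, fun t ht hts => ⟨((hh d hd).2 t ht hts).1, ((hh d hd).2 t ht hts).2.2.2, ((hh d hd).2 t ht hts).2.2.1,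
      ((hh d hd).2 t ht hts).2.1⟩⟩
  have fin : ∀ {a b c' d' : Fin 4 → F}, Frame F₀ A a b c' d' → (∀ d, d + σ d = 0 → Par F₀ A X a b c' d' d) →
      A a w ≠ 0 → w ∈ Unitary.centres A X := fun hG hh hne =>
    hO.centre_of_first hG hh (hflip hh) hD.bF hD.bs w hw hne
  rcases eq_or_ne w 0 with rfl | hw0
  · have he : e₁ ∈ Unitary.centres A X := ⟨hF.e11, fun hx c hc => by
      rw [← Tv_eq hx]; simpa using ((hall c hc).2 1 F₀.one_mem (map_one σ)).1⟩
    simpa using Unitary.smul_mem_centres hO.herm he 0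
  by_cases n1 : A e₁ w = 0
  · by_cases n2 : A e₂ w = 0
    · by_cases n3 : A f₁ w = 0
      · by_cases n4 : A f₂ w = 0
        · exact absurd (by rw [hF.decomp w, n1, n2, n3, n4]; simp) hw0
        · exact fin hF.cyc.cyc.cyc (hcyc (hcyc (hcyc hall))) n4
      · exact fin hF.cyc.cyc (hcyc (hcyc hall)) n3
    · exact fin hF.cyc (hcyc hall) n2
  · exact fin hF hall n1

/-- a norm of a product of a rational point with an irrational one is irrational -/
theorem exists_norm_irr {p : Fin 4 → F} (hp : ∀ w, RV F₀ w → p ∉ F ∙ w) :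
    ∃ u, RV F₀ u ∧ A u u = 0 ∧ A u p * σ (A u p) ∉ F₀ := by
  have hO := hD.toOver
  by_contra! hc
  have ratio : ∀ u w, RV F₀ u → RV F₀ w → A u u = 0 → A w w = 0 → A u w = 0 → A u p ≠ 0 → A w p / A u p ∈ F₀ := by
    intro u w hu hw huu hww huw hne
    have hz : A u p * σ (A w p) ∈ F₀ := hO.ext _ fun y hy => by
      set x := y / k with hx
      have hxF : x ∈ F₀ := F₀.div_mem hy hD.kF
      have hyx : y = k * x := (mul_div_cancel₀ _ hD.k0).symm
      have h1 := hc _ (hu.add (hw.smul hxF)) (by simp [huu, hww, huw, hO.swap huw])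
      have h2 := F₀.mul_mem hD.kF (F₀.sub_mem (F₀.sub_mem h1 (hc u hu huu))
        (F₀.mul_mem (F₀.mul_mem hxF (hO.stab x hxF)) (hc w hw hww)))
      convert h2 using 1
      simp [hyx, hD.ks, hO.invol]
      ring
    have := F₀.div_mem (hO.stab _ hz) (hc u hu huu)
    rwa [map_mul, hO.invol, mul_comm (A u p), mul_div_mul_left _ _ ((map_ne_zero σ).2 hne)] at this
  obtain ⟨a₁, a₂, b₁, b₂, hG⟩ := hD.exists_frame
  obtain ⟨e₁, e₂, f₁, f₂, hF, hne⟩ : ∃ e₁ e₂ f₁ f₂, Frame F₀ A e₁ e₂ f₁ f₂ ∧ A e₁ p ≠ 0 := by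
    by_contra! hno
    refine hp 0 (fun _ => F₀.zero_mem) ?_
    rw [hG.decomp p, hno _ _ _ _ hG, hno _ _ _ _ hG.cyc, hno _ _ _ _ hG.cyc.cyc, hno _ _ _ _ hG.cyc.cyc.cyc]
    simp
  have r2 := ratio e₁ e₂ hF.re₁ hF.re₂ hF.e11 hF.e22 hF.e12 hne
  have r4 := ratio e₁ f₂ hF.re₁ hF.rf₂ hF.e11 hF.f22 hF.ef12 hne
  have r3 : A f₁ p / A e₁ p ∈ F₀ := by
    by_cases h2 : A e₂ p = 0
    · by_cases h4 : A f₂ p = 0
      · have := ratio (e₁ + e₂) (f₁ - f₂) (hF.re₁.add hF.re₂) (hF.rf₁.sub hF.rf₂)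
          (by simp [hF.e11, hF.e22, hF.e12, hF.e21]) (by simp [hF.f11, hF.f22, hF.f12, hF.f21])
          (by simp [hF.h11, hF.h22, hF.ef12, hF.ef21]) (by simpa [h2] using hne)
        simpa [h2, h4] using this
      · have := F₀.mul_mem (ratio f₂ f₁ hF.rf₂ hF.rf₁ hF.f22 hF.f11 hF.f21 h4) r4
        rwa [div_mul_div_cancel₀ h4] at this
    · have := F₀.mul_mem (ratio e₂ f₁ hF.re₂ hF.rf₁ hF.e22 hF.f11 hF.ef21 h2) r2
      rwa [div_mul_div_cancel₀ h2] at this
  set z := (A e₁ p)⁻¹ • p with hz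
  have hzR : RV F₀ z := by
    rw [hF.decomp z, hz]
    simp only [map_smul, smul_eq_mul, ← div_eq_inv_mul, div_self hne, one_smul]
    exact (((hF.re₁.smul r3).add (hF.re₂.smul r4)).add hF.rf₁).add (hF.rf₂.smul r2)
  exact hp z hzR (Submodule.mem_span_singleton.2 ⟨A e₁ p, by rw [hz, smul_inv_smul₀ hne]⟩)

/-- in odd characteristic strictness forces rationality -/
theorem strict_odd (h2 : (2 : F) ≠ 0) (hS : Strict F₀ A X) {g : (Fin 4 → F) ≃ₗ[F] (Fin 4 → F)} (hg : g ∈ X)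
    (hgr : ¬ Ratty F₀ g) : False := by
  classical
  have hO := hD.toOver
  have hks : k + σ k = 0 := by rw [hD.ks, add_neg_cancel]
  obtain ⟨e₁, e₂, f₁, f₂, hF⟩ := hD.exists_frame
  have he0 := hF.ne_zero
  set p := g e₁ with hp
  have hpp : A p p = 0 := by rw [hp, hO.iso hg, hF.e11]
  obtain ⟨u, hu, huu, hN⟩ := hD.exists_norm_irr (p := p) fun w hw => hO.irrational hS hg hgr hF.re₁ he0 hF.e11 w hw
  set h := A u p with hh
  have hh0 : h ≠ 0 := fun e => hN (by rw [e, zero_mul]; exact F₀.zero_mem)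
  have hu0 : u ≠ 0 := fun e => hh0 (by rw [hh, e, map_zero, LinearMap.zero_apply])
  set q := h⁻¹ • p with hq
  have huq : A u q = 1 := by rw [hq, map_smul, smul_eq_mul, ← hh, inv_mul_cancel₀ hh0]
  have hqu : A q u = 1 := by rw [← hO.symm', huq, map_one]
  have hqq : A q q = 0 := by simp [hq, hpp]
  have hpq : p = h • q := by rw [hq, smul_inv_smul₀ hh0]
  set L := Herm.fixField σ with hL
  haveI : Fintype L := Fintype.ofFinite L
  set Φ := F₀.comap L.subtype with hΦ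
  have hμs : σ (k * k * (h * σ h)) = k * k * (h * σ h) := by
    rw [map_mul, map_mul, map_mul, hD.ks, hO.invol]; ring
  set μ : L := ⟨k * k * (h * σ h), hμs⟩ with hμ
  have hμn : μ ∉ Φ := fun hm => hN (by
    have h1 : k * k * (h * σ h) ∈ F₀ := hm
    have := F₀.div_mem h1 (F₀.mul_mem hD.kF hD.kF)
    rwa [mul_div_cancel_left₀ _ (mul_ne_zero hD.k0 hD.k0)] at this)
  have hcard : Fintype.card L = Nat.card Φ ^ r := by rw [← Nat.card_eq_fintype_card]; exact hD.cardL
  have h2L : (2 : L) ≠ 0 := fun e => h2 ((map_ofNat L.subtype 2).symm.trans ((congrArg L.subtype e).trans (map_zero _)))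
  have hne : ¬ (Nat.card Φ = 3 ∧ μ ^ 2 = -1) := by
    rintro ⟨h3, hm⟩
    have h4 : μ ^ 4 = 1 := by rw [show 4 = 2 * 2 from rfl, pow_mul, hm]; ring
    obtain ⟨j, hj⟩ := hD.rodd
    have hmod : 3 ^ r % 4 = 3 := by rw [hj, pow_succ, pow_mul, Nat.mul_mod, Nat.pow_mod]; simp
    have h5 := FiniteField.pow_card μ
    rw [hcard, h3, ← Nat.div_add_mod (3 ^ r) 4, hmod, pow_add, pow_mul, h4, one_pow, one_mul, pow_succ, hm] at h5
    have h6 : (2 : L) * μ = 0 := by linear_combination -h5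
    have h7 := (mul_eq_zero.1 h6).resolve_left h2L
    rw [h7] at hm
    norm_num at hm
  let φ := planeHom L (A := A) hD.k0 huu hqq huq hqu
  have hup : ∀ a ∈ Φ, upR a ∈ X.comap φ := fun a ha => by
    show φ (upR a) ∈ X
    rw [planeHom_upR]
    exact hO.Tv_rat hu huu (F₀.mul_mem hD.kF ha) (by rw [map_mul, show σ (a : F) = a from a.2, ← add_mul, hks, zero_mul])
  have hlow : ∀ a ∈ Φ, lowR (a * μ) ∈ X.comap φ := fun a ha => by
    show φ (lowR (a * μ)) ∈ X
    rw [planeHom_lowR]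
    have h1 := hO.conj_Tv_mem hg hF.e11 (hO.Tv_rat hF.re₁ hF.e11 (c := (a : F) * k) (F₀.mul_mem ha hD.kF)
      (by rw [map_mul, show σ (a : F) = a from a.2, ← mul_add, hks, mul_zero]))
    rw [← hp, hpq, Tv_smul hqq] at h1
    convert h1 using 2
    simp only [hμ, Subfield.coe_mul]
    field_simp [hD.k0]
  have htop := Sp4.dickson_top h2L hD.rp hcard _ hμn hne hup hlow
  have h1 : φ (upR μ) ∈ X := (htop.ge (Subgroup.mem_top _) : upR μ ∈ X.comap φ)
  rw [planeHom_upR] at h1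
  refine hμn (show (μ : F) ∈ F₀ from ?_)
  have h3 := F₀.div_mem (hS u _ hu hu0 huu (by rw [map_mul, show σ (μ : F) = μ from μ.2, ← add_mul, hks, zero_mul]) h1) hD.kF
  rwa [mul_div_cancel_left₀ _ hD.k0] at h3

end OddDeg

end Cfsg.Agent.ClassicalMax.SU4.Sub.Odd
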