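import Mathlib

/-!
The arithmetic that excludes overgroups of the four-dimensional orthogonal subfield groups: no set of cross ratios
is closed under the composition rule and passes the discriminant test.
-/

set_option autoImplicit false

namespace Cfsg.Agent.ClassicalMax.SU4.Sub.OrthArith

open Polynomial

variable {K : Type*} [Field K] [Fintype K]

theorem mul_nonsquare {a b : K} (ha : ¬ IsSquare a) (hb : ¬ IsSquare b) : IsSquare (a * b) := by
  classical
  have ha' := quadraticChar_neg_one_iff_not_isSquare.2 ha
  have hb' := quadraticChar_neg_one_iff_not_isSquare.2 hb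
  by_contra h
  have h' := quadraticChar_neg_one_iff_not_isSquare.2 h
  rw [map_mul, ha', hb'] at h'
  norm_num at h'

theorem nonsquare_ne {a : K} (ha : ¬ IsSquare a) : a ≠ 0 := fun h => ha (h ▸ IsSquare.zero)

theorem count_le {p : K[X]} (hp : p ≠ 0) (h : ∀ x : K, x ≠ 0 → p.eval x = 0) : Fintype.card K - 1 ≤ p.natDegree := by
  classical
  have h1 : Finset.univ.erase (0 : K) ⊆ p.roots.toFinset := fun x hx => by
    rw [Multiset.mem_toFinset, mem_roots hp]
    exact h x (Finset.ne_of_mem_erase hx)
  have h2 := (Finset.card_le_card h1).trans ((Multiset.toFinset_card_le _).trans (card_roots' p))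
  rwa [Finset.card_erase_of_mem (Finset.mem_univ _), Finset.card_univ] at h2

/-- the data of a family of cross ratios -/
structure Family (ν : K) (Cr : K → Prop) : Prop where
  nsq : ¬ IsSquare ν
  ne : ∀ c, Cr c → c ≠ 0 ∧ c ≠ 1
  sq : ∀ c, Cr c → IsSquare c → c = -1
  crit : ∀ c, Cr c → ∀ v : K, v ≠ 0 → ∃ r : K, r ≠ 0 ∧ r * r = (c * ν * (v * v) + 1) ^ 2 - 4 * (ν * (v * v))
  step : ∀ c, Cr c → ∀ k : K, k ≠ 0 → ∀ X, X = k * k / (c - 1) →
    1 + c * X = 0 ∨ (1 + X = 0 ∧ 1 + c * c * X = 0) ∨
      (1 + X ≠ 0 ∧ Cr ((1 + X) * (1 + c * c * X) / ((1 + c * X) * (1 + c * X))) ∧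
        (IsSquare ((1 + c * X) / (1 + X)) → (1 + X) * (1 + c * c * X) / ((1 + c * X) * (1 + c * X)) = c) ∧
        (IsSquare ((1 + c * X) / (1 + X) / c) → (1 + X) * (1 + c * c * X) / ((1 + c * X) * (1 + c * X)) = 1 / c))

/-- no family -/
theorem no_family (h2 : (2 : K) ≠ 0) (h5 : 5 ≤ Fintype.card K) {ν : K} {Cr : K → Prop} (H : Family ν Cr) {c : K}
    (hc : Cr c) : False := by
  classical
  have hν0 := nonsquare_ne H.nsq
  have hchar : ringChar K ≠ 2 := fun e => h2 (by
    haveI := ringChar.of_eq e
    exact CharTwo.two_eq_zero)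
  have hodd : Fintype.card K % 2 = 1 := FiniteField.odd_card_of_char_ne_two hchar
  have hmem : ∀ {n : ℕ}, Fintype.card K = n → (n : K) = 0 := fun h => by rw [← h]; exact Nat.cast_card_eq_zero K
  by_cases hm : IsSquare (-1 : K)
  · -- every ratio is minus one
    have hq : Fintype.card K % 4 ≠ 3 := FiniteField.isSquare_neg_one_iff.1 hm
    have hall : ∀ c, Cr c → c = -1 := fun c hc => by
      refine H.sq c hc ?_
      by_contra hns
      obtain ⟨hc0, -⟩ := H.ne c hc
      obtain ⟨v, hv⟩ : IsSquare ((-1) / (c * ν)) := hm.div (mul_nonsquare hns H.nsq)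
      have hcν := mul_ne_zero hc0 hν0
      have hv0 : v ≠ 0 := fun e => by
        rw [e, mul_zero, div_eq_zero_iff] at hv
        exact hv.elim (neg_ne_zero.2 one_ne_zero) hcν
      obtain ⟨r, hr0, hr⟩ := H.crit c hc v hv0
      have e : c * ν * (v * v) = -1 := by rw [← hv, mul_div_cancel₀ _ hcν]
      have hr2 : r * r = 4 / c := by
        rw [hr, e, eq_div_iff hc0]
        linear_combination -4 * e
      refine hns ⟨2 / r, ?_⟩
      rw [div_mul_div_comm, hr2, show (2 : K) * 2 = 4 by norm_num, div_div_eq_mul_div, mul_comm, mul_div_assoc,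
        div_self (show (4 : K) ≠ 0 by rw [show (4 : K) = 2 * 2 by norm_num]; exact mul_ne_zero h2 h2), mul_one]
    have hc1 := hall c hc
    subst hc1
    have hle := count_le (p := X ^ 8 - C (16 : K)) (X_pow_sub_C_ne_zero (by norm_num) _) fun k hk => by
      rw [eval_sub, eval_pow, eval_X, eval_C, sub_eq_zero]
      set X := k * k / (-1 - 1 : K) with hX
      have hd : (-1 - 1 : K) ≠ 0 := fun e => h2 (by linear_combination -e)
      have hkk : k * k = X * (-1 - 1) := (div_mul_cancel₀ _ hd).symm
      have h4 : X ^ 4 = 1 := by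
        rcases H.step _ hc k hk X hX with h | ⟨h, -⟩ | ⟨h, hC, -, -⟩
        · rw [show X = 1 by linear_combination -h]; ring
        · rw [show X = -1 by linear_combination h]; ring
        · have h1 : (1 : K) + -1 * X ≠ 0 := fun e => by
            have := (H.ne _ hC).1
            rw [e, mul_zero, div_zero] at this
            exact this rfl
          have e := hall _ hC
          rw [div_eq_iff (mul_ne_zero h1 h1)] at e
          have e2 : 2 * (X * X + 1) = 0 := by linear_combination e
          have e3 := (mul_eq_zero.1 e2).resolve_left h2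
          linear_combination (X * X - 1) * e3
      linear_combination (k ^ 6 + k ^ 4 * (X * (-1 - 1)) + k ^ 2 * (X * (-1 - 1)) ^ 2 + (X * (-1 - 1)) ^ 3) * hkk + 16 * h4
    rw [natDegree_X_pow_sub_C] at hle
    obtain ⟨r, hr0, hr⟩ := H.crit _ hc 1 one_ne_zero
    have hpow := FiniteField.pow_dichotomy hchar hν0
    have hnp : ν ^ (Fintype.card K / 2) ≠ 1 := fun e => H.nsq ((FiniteField.isSquare_iff hchar hν0).2 e)
    rcases (show Fintype.card K = 5 ∨ Fintype.card K = 9 by omega) with h | h
    · have h50 : (5 : K) = 0 := by have := hmem h; simpa using this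
      have hn : ν ^ 2 = -1 := by rw [h] at hpow hnp; exact hpow.resolve_left hnp
      refine H.nsq ?_
      have e : ν = -1 * (r * r) := by rw [hr]; linear_combination hn - ν * h50
      rw [e]
      exact hm.mul ⟨r, rfl⟩
    · have h30 : (3 : K) = 0 := by
        have := hmem h
        rw [show ((9 : ℕ) : K) = 3 * 3 by norm_num] at this
        exact mul_self_eq_zero.1 this
      have hn : ν ^ 4 = -1 := by rw [h] at hpow hnp; exact hpow.resolve_left hnp
      have hu : r * r = ν ^ 2 + 1 := by rw [hr]; linear_combination (-2 * ν) * h30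
      have h8 : r ^ 8 = 1 := by
        have := FiniteField.pow_card_sub_one_eq_one r hr0
        rwa [h] at this
      have hs1 : (ν ^ 2 + 1) ^ 2 = 2 * ν ^ 2 := by linear_combination hn
      have hu2 : (ν ^ 2 + 1) ^ 4 = -1 := by
        linear_combination ((ν ^ 2 + 1) ^ 2 + 2 * ν ^ 2) * hs1 + 4 * hn - h30
      refine h2 ?_
      rw [show r ^ 8 = (r * r) ^ 4 by ring, hu, hu2] at h8
      linear_combination -h8
  · -- every ratio is a non-square
    have hq : Fintype.card K % 4 = 3 := by
      by_contra h
      exact hm (FiniteField.isSquare_neg_one_iff.2 h)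
    have hns : ∀ c, Cr c → ¬ IsSquare c := fun c hc h => hm (H.sq c hc h ▸ h)
    obtain ⟨hc0, hc1⟩ := H.ne c hc
    have hcs := hns c hc
    have hcν := mul_ne_zero hc0 hν0
    obtain ⟨v, hv⟩ : IsSquare (1 / (c * ν)) := IsSquare.one.div (mul_nonsquare hcs H.nsq)
    have hv0 : v ≠ 0 := fun e => by
      rw [e, mul_zero, div_eq_zero_iff] at hv
      exact hv.elim one_ne_zero hcν
    obtain ⟨r, hr0, hr⟩ := H.crit c hc v hv0
    have e1 : c * ν * (v * v) = 1 := by rw [← hv, mul_div_cancel₀ _ hcν]
    have hr2 : r * r * c = 4 * (c - 1) := by rw [hr, e1]; linear_combination -4 * e1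
    -- the possible squares
    have hY : ∀ j : K, j ≠ 0 → (j * j = 1 ∧ c = -1) ∨ c * (j * j) ^ 2 + (c + 1) * (j * j) + c = 0 ∨
        (j * j) ^ 2 + (c + 1) * (j * j) + 1 = 0 := fun j hj => by
      set Y := j * j with hYd
      have hX : Y / c = j * r / 2 * (j * r / 2) / (c - 1) := by
        field_simp [hc0, sub_ne_zero.2 hc1, h2]
        rw [hYd]
        linear_combination -(j * j) * hr2
      rcases H.step c hc (j * r / 2) (div_ne_zero (mul_ne_zero hj hr0) h2) (Y / c) hX with h | ⟨h, h'⟩ | ⟨h, hC, ha, hb⟩
      · exfalso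
        rw [mul_div_cancel₀ _ hc0] at h
        exact hm ⟨j, by rw [← hYd]; linear_combination -h⟩
      · field_simp at h h'
        have hcc : (c - 1) * (c + 1) = 0 := by linear_combination h * c - h'
        have hcm : c = -1 := by
          rcases mul_eq_zero.1 hcc with e | e
          · exact absurd (sub_eq_zero.1 e) hc1
          · exact eq_neg_of_add_eq_zero_left e
        exact Or.inl ⟨by rw [hcm] at h; linear_combination h, hcm⟩
      · have hcX : c * (Y / c) = Y := mul_div_cancel₀ _ hc0
        have h1 : 1 + c * (Y / c) ≠ 0 := fun e => by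
          have := (H.ne _ hC).1
          rw [e, mul_zero, div_zero] at this
          exact this rfl
        have h1Y : 1 + Y ≠ 0 := by rwa [hcX] at h1
        by_cases hs : IsSquare ((1 + c * (Y / c)) / (1 + Y / c))
        · have e := ha hs
          rw [div_eq_iff (mul_ne_zero h1 h1)] at e
          field_simp at e
          refine Or.inr (Or.inl ?_)
          refine (mul_eq_zero.1 (show (1 - c) * _ = 0 from ?_)).resolve_left (sub_ne_zero.2 (Ne.symm hc1))
          linear_combination e
        · have e := hb (by rw [div_eq_mul_inv _ c]; exact mul_nonsquare hs (fun h' => hcs (by simpa using h'.inv)))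
          rw [div_eq_iff (mul_ne_zero h1 h1)] at e
          field_simp at e
          refine Or.inr (Or.inr ?_)
          refine (mul_eq_zero.1 (show (c - 1) * _ = 0 from ?_)).resolve_left (sub_ne_zero.2 hc1)
          linear_combination e
    by_cases hcm : c = -1
    · subst hcm
      have h4 : ∀ j : K, j ≠ 0 → j * j = 1 := fun j hj => by
        rcases hY j hj with h | h | h
        · exact h.1
        · exact absurd ⟨j * j, by linear_combination h⟩ hm
        · exact absurd ⟨j * j, by linear_combination -h⟩ hm
      have := count_le (p := X ^ 2 - C (1 : K)) (X_pow_sub_C_ne_zero (by norm_num) _) fun j hj => by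
        rw [eval_sub, eval_pow, eval_X, eval_C, sub_eq_zero, sq]; exact h4 j hj
      rw [natDegree_X_pow_sub_C] at this
      omega
    · have hone := hY 1 one_ne_zero
      simp only [one_mul, one_pow, mul_one, hcm, and_false, false_or] at hone
      have h30 : (3 : K) ≠ 0 := fun e => by
        rcases hone with h | h
        · exact one_ne_zero (α := K) (by linear_combination h - c * e)
        · exact hc0 (by linear_combination h - e)
      have hquad : ∀ j : K, j ≠ 0 → (j ^ 2 - 1) * (3 * j ^ 4 + 2 * j ^ 2 + 3) = 0 := fun j hj => by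
        rcases hY j hj with ⟨-, h⟩ | h | h
        · exact absurd h hcm
        · rcases hone with g | g
          · have : (j ^ 2 - 1) ^ 2 = 0 := by
              linear_combination -3 * h + (j ^ 4 + j ^ 2 + 1) * g
            rw [(pow_eq_zero_iff (n := 2) (by norm_num)).1 this, zero_mul]
          · have : 3 * j ^ 4 + 2 * j ^ 2 + 3 = 0 := by
              linear_combination -h + (j ^ 4 + j ^ 2 + 1) * g
            rw [this, mul_zero]
        · rcases hone with g | g
          · have : 3 * j ^ 4 + 2 * j ^ 2 + 3 = 0 := by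
              linear_combination 3 * h - j ^ 2 * g
            rw [this, mul_zero]
          · have : (j ^ 2 - 1) ^ 2 = 0 := by
              linear_combination h - j ^ 2 * g
            rw [(pow_eq_zero_iff (n := 2) (by norm_num)).1 this, zero_mul]
      have hdeg := count_le (p := (X ^ 2 - C (1 : K)) * (C 3 * X ^ 4 + C 2 * X ^ 2 + C 3)) (by
          refine mul_ne_zero (X_pow_sub_C_ne_zero (by norm_num) _) fun e => h30 ?_
          simpa using congrArg (eval 0) e) fun j hj => by
        simp only [eval_mul, eval_add, eval_sub, eval_pow, eval_X, eval_C]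
        exact hquad j hj
      have hd6 : ((X ^ 2 - C (1 : K)) * (C 3 * X ^ 4 + C 2 * X ^ 2 + C 3)).natDegree ≤ 6 := by compute_degree
      have h7 : Fintype.card K = 7 := by omega
      have h70 : (7 : K) = 0 := by have := hmem h7; simpa using this
      rcases hone with g | g
      · exact hcs ⟨3, by linear_combination -2 * g + (c - 1) * h70⟩
      · exact hcs ⟨2, by linear_combination g - h70⟩

end Cfsg.Agent.ClassicalMax.SU4.Sub.OrthArith
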