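import Cfsg.Agent.ClassicalMax.Subfield.UnitBridge

/-!
Subfield groups in four-dimensional special unitary groups: rational unipotent elements at an isotropic point, and
the proof that an element carrying a rational isotropic point to a rational point is rational unless the transvections
at rational points grow.
-/

set_option autoImplicit false
set_option linter.unusedSectionVars false
set_option linter.style.haveILetI false

namespace Cfsg.Agent.ClassicalMax.SU4.Sub

open Module Cfsg.Agent.Classical Cfsg.Agent.ClassicalMax Cfsg.Agent.ClassicalMax.Subfield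

section Elements

variable {F V : Type*} [Field F] [AddCommGroup V] [Module F V] {σ : F →+* F} (A : V →ₛₗ[σ] V →ₗ[F] F)

/-- total transvection -/
noncomputable def Tv (v : V) (c : F) : V ≃ₗ[F] V := tvec (c • A v) v

/-- unipotent element at an isotropic point -/
noncomputable def sg (e w : V) (μ : F) : V ≃ₗ[F] V := tvec (A e) w * tvec (-(A w + μ • A e)) e

variable {A}

theorem Tv_apply {v : V} (h : A v v = 0) (c : F) (x : V) : Tv A v c x = x + (c * A v x) • v := by
  rw [Tv, tvec_apply (by simp [h])]; rfl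

theorem Tv_eq {v : V} (h : A v v = 0) (c : F) : Tv A v c = Herm.tvU h c :=
  LinearEquiv.ext fun x => by rw [Tv_apply h, Herm.tvU_apply]

theorem Tv_smul {v : V} (h : A v v = 0) (a c : F) : Tv A (a • v) c = Tv A v (c * (a * σ a)) :=
  LinearEquiv.ext fun x => by
    rw [Tv_apply (by simp [h]), Tv_apply h]
    simp only [map_smulₛₗ, LinearMap.smul_apply, smul_eq_mul, smul_smul]
    ring_nf

theorem Tv_add {v : V} (h : A v v = 0) (c d : F) : Tv A v (c + d) = Tv A v c * Tv A v d :=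
  LinearEquiv.ext fun x => by
    rw [LinearEquiv.mul_apply, Tv_apply h, Tv_apply h, Tv_apply h, map_add, map_smul, h]
    module

theorem Tv_zero {v : V} (h : A v v = 0) : Tv A v 0 = 1 :=
  LinearEquiv.ext fun x => by rw [Tv_apply h]; simp

theorem Tv_conj {g : V ≃ₗ[F] V} (hg : ∀ a b, A (g a) (g b) = A a b) {v : V} (h : A v v = 0) (c : F) :
    g * Tv A v c * g⁻¹ = Tv A (g v) c :=
  LinearEquiv.ext fun x => by
    have e : A v (g⁻¹ x) = A (g v) x := by rw [← hg v (g⁻¹ x), apply_inv]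
    rw [LinearEquiv.mul_apply, LinearEquiv.mul_apply, Tv_apply h, Tv_apply (by rw [hg, h]), map_add, map_smul, apply_inv, e]

theorem sg_apply {e w : V} (he : A e e = 0) (hew : A e w = 0) (hwe : A w e = 0) (μ : F) (x : V) :
    sg A e w μ x = x + A e x • w - (A w x + μ * A e x) • e := by
  have h0 : (-(A w + μ • A e) : Dual F V) e = 0 := by simp [he, hwe]
  rw [sg, LinearEquiv.mul_apply, tvec_apply h0, tvec_apply hew]
  simp [he]
  module

theorem sg_mul {e u w : V} (he : A e e = 0) (heu : A e u = 0) (hue : A u e = 0) (hew : A e w = 0) (hwe : A w e = 0)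
    (μ ν : F) : sg A e u μ * sg A e w ν = sg A e (u + w) (μ + ν + A u w) :=
  LinearEquiv.ext fun x => by
    rw [LinearEquiv.mul_apply, sg_apply he hew hwe, sg_apply he heu hue,
      sg_apply he (by simp [heu, hew]) (by simp [hue, hwe])]
    simp [he, heu, hew, hue]
    module

theorem sg_zero {e : V} (he : A e e = 0) (μ : F) : sg A e 0 μ = Tv A e (-μ) :=
  LinearEquiv.ext fun x => by
    rw [sg_apply he (by simp) (by simp), Tv_apply he]
    simp [sub_eq_add_neg]

theorem sg_conj {g : V ≃ₗ[F] V} (hg : ∀ a b, A (g a) (g b) = A a b) {e w : V} (he : A e e = 0) (hew : A e w = 0)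
    (hwe : A w e = 0) (μ : F) : g * sg A e w μ * g⁻¹ = sg A (g e) (g w) μ :=
  LinearEquiv.ext fun x => by
    have h : ∀ z, A z (g⁻¹ x) = A (g z) x := fun z => by rw [← hg z (g⁻¹ x), apply_inv]
    rw [LinearEquiv.mul_apply, LinearEquiv.mul_apply, sg_apply he hew hwe,
      sg_apply (by rw [hg, he]) (by rw [hg, hew]) (by rw [hg, hwe]), map_sub, map_add, map_smul, map_smul, apply_inv, h, h]

theorem sg_smul (hinv : ∀ a, σ (σ a) = a) {e k : V} (he : A e e = 0) (hek : A e k = 0) (hke : A k e = 0) (a μ : F) :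
    sg A (a • e) k μ = sg A e (σ a • k) (μ * (a * σ a)) :=
  LinearEquiv.ext fun x => by
    rw [sg_apply (by simp [he]) (by simp [hek]) (by simp [hke]), sg_apply he (by simp [hek]) (by simp [hke])]
    simp only [map_smulₛₗ, LinearMap.smul_apply, smul_eq_mul, smul_smul, smul_sub, hinv]
    module

theorem sg_iso (hsym : ∀ a b, σ (A a b) = A b a) {e w : V} (he : A e e = 0) (hew : A e w = 0) (hwe : A w e = 0)
    {μ : F} (hμ : μ + σ μ = A w w) (x y : V) : A (sg A e w μ x) (sg A e w μ y) = A x y := by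
  simp only [sg_apply he hew hwe, map_add, map_sub, map_smulₛₗ, map_mul, LinearMap.add_apply, LinearMap.sub_apply,
    LinearMap.smul_apply, RingHom.id_apply, smul_eq_mul, hsym, he, hew, hwe]
  linear_combination -(A x e * A e y) * hμ

theorem sg_det [FiniteDimensional F V] (e w : V) (μ : F) : LinearMap.det (sg A e w μ).toLinearMap = 1 := by
  rw [sg, show (tvec (A e) w * tvec (-(A w + μ • A e)) e).toLinearMap =
    (tvec (A e) w).toLinearMap ∘ₗ (tvec (-(A w + μ • A e)) e).toLinearMap from rfl, LinearMap.det_comp, det_tvec,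
    det_tvec, one_mul]

end Elements

variable {F : Type*} [Field F] [Fintype F] {σ : F →+* F}

/-- the hypotheses on the group -/
structure Over (F₀ : Subfield F) (A : (Fin 4 → F) →ₛₗ[σ] (Fin 4 → F) →ₗ[F] F)
    (X : Subgroup ((Fin 4 → F) ≃ₗ[F] (Fin 4 → F))) : Prop where
  herm : Herm.IsHerm A
  stab : ∀ a ∈ F₀, σ a ∈ F₀
  form : ∀ u v : Fin 4 → F, RV F₀ u → RV F₀ v → A u v ∈ F₀
  half : ∀ a ∈ F₀, σ a = a → ∃ μ ∈ F₀, μ + σ μ = a
  ext : ∀ z : F, (∀ x ∈ F₀, x * z - σ (x * z) ∈ F₀) → z ∈ F₀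
  fixd : ∀ z : F, σ z = z → (∀ k ∈ F₀, σ k = -k → k * z ∈ F₀) → z ∈ F₀
  le : X ≤ Herm.suG A
  rat : ∀ s ∈ Herm.suG A, Ratty F₀ s → s ∈ X

/-- all transvections at rational points in the group have rational parameters -/
def Strict (F₀ : Subfield F) (A : (Fin 4 → F) →ₛₗ[σ] (Fin 4 → F) →ₗ[F] F)
    (X : Subgroup ((Fin 4 → F) ≃ₗ[F] (Fin 4 → F))) : Prop :=
  ∀ (v : Fin 4 → F) (c : F), RV F₀ v → v ≠ 0 → A v v = 0 → c + σ c = 0 → Tv A v c ∈ X → c ∈ F₀

namespace Over

variable {F₀ : Subfield F} {A : (Fin 4 → F) →ₛₗ[σ] (Fin 4 → F) →ₗ[F] F} {X : Subgroup ((Fin 4 → F) ≃ₗ[F] (Fin 4 → F))}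
variable (hO : Over F₀ A X)
include hO

theorem invol (a : F) : σ (σ a) = a := hO.herm.invol a

theorem symm' (a b : Fin 4 → F) : σ (A a b) = A b a := hO.herm.symm _ _

theorem swap {a b : Fin 4 → F} (h : A a b = 0) : A b a = 0 := (Herm.eq_zero_comm hO.herm).1 h

theorem iso {x : (Fin 4 → F) ≃ₗ[F] (Fin 4 → F)} (hx : x ∈ X) (a b : Fin 4 → F) : A (x a) (x b) = A a b := (hO.le hx).1 a b

theorem eq_zero_of {y : Fin 4 → F} (h : ∀ i, A (Pi.single i 1) y = 0) : y = 0 :=
  hO.herm.nondeg _ fun z => hO.swap (by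
    rw [eq_sum_single z, map_sum, LinearMap.sum_apply]
    exact Finset.sum_eq_zero fun i _ => by rw [map_smulₛₗ, LinearMap.smul_apply, h, smul_zero])

theorem rv_of_forms {k : Fin 4 → F} (h : ∀ u, RV F₀ u → A u k ∈ F₀) : RV F₀ k := by
  haveI : Fintype F₀ := Fintype.ofFinite F₀
  let L : (Fin 4 → F₀) →ₗ[F₀] (Fin 4 → F₀) :=
    { toFun := fun y i => ⟨A (Pi.single i 1) (fun j => (y j : F)), hO.form _ _ (rv_single i) (fun j => (y j).2)⟩
      map_add' := fun a b => funext fun i => Subtype.ext (by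
        show A (Pi.single i 1) (fun j => ((a + b) j : F)) = A _ _ + A _ _
        rw [← map_add]
        rfl)
      map_smul' := fun a b => funext fun i => Subtype.ext (by
        show A (Pi.single i 1) (fun j => ((a • b) j : F)) = (a : F) * A _ _
        rw [← smul_eq_mul, ← map_smul]
        rfl) }
  have hinj : Function.Injective L := (injective_iff_map_eq_zero L).2 fun y hy => by
    have h0 : (fun j => (y j : F)) = 0 := hO.eq_zero_of fun i => congrArg Subtype.val (congrFun hy i)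
    exact funext fun j => Subtype.ext (congrFun h0 j)
  obtain ⟨y, hy⟩ := LinearMap.surjective_of_injective hinj (fun i => ⟨A (Pi.single i 1) k, h _ (rv_single i)⟩)
  have : k = fun j => (y j : F) := sub_eq_zero.1 (hO.eq_zero_of fun i => by
    rw [map_sub, show A (Pi.single i 1) (fun j => (y j : F)) = A (Pi.single i 1) k from congrArg Subtype.val (congrFun hy i),
      sub_self])
  rw [this]
  exact fun j => (y j).2

theorem self_half {u : Fin 4 → F} (hu : RV F₀ u) : ∃ μ ∈ F₀, μ + σ μ = A u u :=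
  hO.half _ (hO.form _ _ hu hu) (hO.symm' u u)

theorem partner {e : Fin 4 → F} (he : RV F₀ e) (hee : A e e = 0) (he0 : e ≠ 0) :
    ∃ f, RV F₀ f ∧ A f f = 0 ∧ A e f = 1 ∧ A f e = 1 := by
  obtain ⟨i, hi⟩ : ∃ i, A e (Pi.single i 1) ≠ 0 := by
    by_contra! h
    exact he0 (hO.eq_zero_of fun i => hO.swap (h i))
  set w := (A e (Pi.single i 1))⁻¹ • Pi.single i (1 : F) with hw
  have hwR : RV F₀ w := (rv_single i).smul (F₀.inv_mem (hO.form _ _ he (rv_single i)))
  have hew : A e w = 1 := by rw [hw, map_smul, smul_eq_mul, inv_mul_cancel₀ hi]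
  have hwe : A w e = 1 := by rw [← hO.symm', hew, map_one]
  obtain ⟨μ, hμ, hμw⟩ := hO.self_half hwR
  refine ⟨w - μ • e, hwR.sub (he.smul hμ), ?_, by simp [hew, hee], by simp [hwe, hee]⟩
  simp only [map_sub, map_smulₛₗ, map_smul, LinearMap.sub_apply, LinearMap.smul_apply, smul_eq_mul, hew, hwe, hee]
  linear_combination -hμw

theorem ratty_of_rat {g : (Fin 4 → F) ≃ₗ[F] (Fin 4 → F)} (h : ∀ z, RV F₀ z → RV F₀ (g z)) : Ratty F₀ g :=
  ⟨1, one_ne_zero, fun i => by rw [one_smul]; exact h _ (rv_single i)⟩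

theorem Tv_mem_suG {v : Fin 4 → F} (hvv : A v v = 0) {c : F} (hc : c + σ c = 0) : Tv A v c ∈ Herm.suG A := by
  rw [Tv_eq hvv]; exact Herm.tvU_mem hO.herm hvv hc

theorem Tv_rat {v : Fin 4 → F} (hv : RV F₀ v) (hvv : A v v = 0) {c : F} (hc : c ∈ F₀) (hc' : c + σ c = 0) :
    Tv A v c ∈ X :=
  hO.rat _ (hO.Tv_mem_suG hvv hc') (hO.ratty_of_rat fun z hz => by
    rw [Tv_apply hvv]
    exact hz.add (hv.smul (F₀.mul_mem hc (hO.form _ _ hv hz))))

theorem sg_rat {e w : Fin 4 → F} (he : RV F₀ e) (hw : RV F₀ w) (hee : A e e = 0) (hew : A e w = 0) {μ : F}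
    (hμF : μ ∈ F₀) (hμ : μ + σ μ = A w w) : sg A e w μ ∈ X :=
  hO.rat _ (Unitary.mem_suG hO.herm (sg_iso hO.symm' hee hew (hO.swap hew) hμ) (sg_det e w μ))
    (hO.ratty_of_rat fun z hz => by
      rw [sg_apply hee hew (hO.swap hew)]
      exact (hz.add (hw.smul (hO.form _ _ he hz))).sub
        (he.smul (F₀.add_mem (hO.form _ _ hw hz) (F₀.mul_mem hμF (hO.form _ _ he hz)))))

theorem conj_Tv_mem {g : (Fin 4 → F) ≃ₗ[F] (Fin 4 → F)} (hg : g ∈ X) {v : Fin 4 → F} (hvv : A v v = 0) {c : F}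
    (h : Tv A v c ∈ X) : Tv A (g v) c ∈ X := by
  rw [← Tv_conj (hO.iso hg) hvv]
  exact mul_mem (mul_mem hg h) (inv_mem hg)

/-- the norm of the scalar of a rational point carried to a rational point is rational -/
theorem norm_mem (hS : Strict F₀ A X) {h : (Fin 4 → F) ≃ₗ[F] (Fin 4 → F)} (hh : h ∈ X) {v e : Fin 4 → F}
    (hv : RV F₀ v) (hv0 : v ≠ 0) (hvv : A v v = 0) (he : RV F₀ e) {a : F} (hhv : h v = a • e) :
    A e e = 0 ∧ e ≠ 0 ∧ a ≠ 0 ∧ a * σ a ∈ F₀ := by
  have hhv0 : h v ≠ 0 := fun h0 => hv0 (h.map_eq_zero_iff.1 h0)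
  rw [hhv] at hhv0
  obtain ⟨ha, he0⟩ := smul_ne_zero_iff.1 hhv0
  have hee : A e e = 0 := by
    have h1 := hO.iso hh v v
    rw [hvv, hhv, Herm.smul_self hO.herm] at h1
    exact (mul_eq_zero.1 h1).resolve_left (mul_ne_zero ha ((map_ne_zero σ).2 ha))
  have hN : σ (a * σ a) = a * σ a := by rw [map_mul, hO.invol, mul_comm]
  refine ⟨hee, he0, ha, hO.fixd _ hN fun k hk hk' => ?_⟩
  have hks : k + σ k = 0 := by rw [hk', add_neg_cancel]
  have h1 := hO.conj_Tv_mem hh hvv (hO.Tv_rat hv hvv hk hks)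
  rw [hhv, Tv_smul hee] at h1
  exact hS e _ he he0 hee (by rw [map_mul σ k, hN, ← add_mul, hks, zero_mul]) h1

/-- an element carrying a rational point to a rational point maps the orthogonal rationally, up to the scalar -/
theorem perp_rat (hS : Strict F₀ A X) {h : (Fin 4 → F) ≃ₗ[F] (Fin 4 → F)} (hh : h ∈ X) {v e u : Fin 4 → F}
    (hv : RV F₀ v) (hv0 : v ≠ 0) (hvv : A v v = 0) (he : RV F₀ e) {a : F} (hhv : h v = a • e) (hu : RV F₀ u)
    (hvu : A v u = 0) : RV F₀ (σ a • h u) := by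
  obtain ⟨hee, he0, ha, hN⟩ := hO.norm_mem hS hh hv hv0 hvv he hhv
  obtain ⟨f, hf, hff, hef, hfe⟩ := hO.partner he hee he0
  set k := σ a • h u with hk
  have hek : A e k = 0 := by
    have h1 := hO.iso hh v u
    rw [hvu, hhv, map_smulₛₗ, LinearMap.smul_apply, smul_eq_mul] at h1
    rw [hk, map_smul, smul_eq_mul, h1]
  have hke := hO.swap hek
  -- the conjugate elements
  have hmem : ∀ l ∈ F₀, ∃ μ ∈ F₀, μ + σ μ = A (l • k) (l • k) ∧ sg A e (l • k) μ ∈ X := fun l hl => by
    obtain ⟨μ, hμF, hμ⟩ := hO.self_half (hu.smul hl)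
    have hvl : A v (l • u) = 0 := by rw [map_smul, hvu, smul_zero]
    have h1 := mul_mem (mul_mem hh (hO.sg_rat hv (hu.smul hl) hvv hvl hμF hμ)) (inv_mem hh)
    have hvh : A (h v) (h (l • u)) = 0 := by rw [hO.iso hh, hvl]
    rw [sg_conj (hO.iso hh) hvv hvl (hO.swap hvl), hhv] at h1
    rw [hhv, map_smulₛₗ, LinearMap.smul_apply, smul_eq_mul] at hvh
    have hehl : A e (h (l • u)) = 0 := (mul_eq_zero.1 hvh).resolve_left ((map_ne_zero σ).2 ha)
    rw [sg_smul hO.invol hee hehl (hO.swap hehl)] at h1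
    have e1 : σ a • h (l • u) = l • k := by rw [hk, map_smul, smul_comm]
    rw [e1] at h1
    refine ⟨_, F₀.mul_mem hμF hN, ?_, h1⟩
    rw [← e1, Herm.smul_self hO.herm, hO.iso hh, ← hμ, hO.invol, map_mul, map_mul, hO.invol]
    ring
  -- the products with the orthogonal are rational
  have hprod : ∀ r, RV F₀ r → A e r = 0 → A r k ∈ F₀ := fun r hr her => hO.ext _ fun l hl => by
    obtain ⟨μ, hμF, hμ, hm⟩ := hmem l hl
    obtain ⟨ν, hνF, hν⟩ := hO.self_half hr
    have hX := hO.sg_rat he hr hee her hνF hν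
    have hel : A e (l • k) = 0 := by rw [map_smul, hek, smul_zero]
    have h1 := mul_mem (mul_mem (mul_mem hX hm) (inv_mem hX)) (inv_mem hm)
    set d := A r (l • k) - A (l • k) r with hd
    have e2 : sg A e r ν * sg A e (l • k) μ = sg A e 0 d * (sg A e (l • k) μ * sg A e r ν) := by
      rw [sg_mul hee her (hO.swap her) hel (hO.swap hel), sg_mul hee hel (hO.swap hel) her (hO.swap her),
        sg_mul hee (by simp) (by simp) (by simp [her, hel]) (by simp [hO.swap her, hke]), zero_add, add_comm r]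
      congr 1
      simp [hd]
      ring
    have e3 : sg A e r ν * sg A e (l • k) μ * (sg A e r ν)⁻¹ * (sg A e (l • k) μ)⁻¹ = sg A e 0 d := by
      rw [e2]; group
    rw [e3, sg_zero hee] at h1
    have hdσ : -d + σ (-d) = 0 := by rw [map_neg, hd, map_sub, hO.symm', hO.symm']; ring
    have h2 := F₀.neg_mem (hS e _ he he0 hee hdσ h1)
    rw [neg_neg, hd, ← hO.symm' r (l • k), map_smul, smul_eq_mul] at h2
    exact h2
  set β := A f k with hβ
  set z := k - β • e with hz
  have hzR : RV F₀ z := hO.rv_of_forms fun w hw => by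
    set r := w - A e w • f with hr
    have her : A e r = 0 := by simp [hr, hef]
    have h1 := hprod r (hw.sub (hf.smul (hO.form _ _ he hw))) her
    have hwr : w = r + A e w • f := (sub_add_cancel _ _).symm
    have hfz : A f z = 0 := by simp [hz, hfe, ← hβ]
    rw [hwr, map_add, LinearMap.add_apply, map_smulₛₗ, LinearMap.smul_apply, hfz, smul_zero, add_zero, hz, map_sub,
      show A r (β • e) = 0 by simp [hO.swap her], sub_zero]
    exact h1
  have hkz : k = z + β • e := (sub_add_cancel _ _).symm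
  have hez : A e z = 0 := by simp [hz, hek, hee]
  have hze := hO.swap hez
  suffices hβF : β ∈ F₀ by rw [hkz]; exact hzR.add (he.smul hβF)
  refine hO.ext _ fun l hl => ?_
  obtain ⟨μ, hμF, hμ, hm⟩ := hmem l hl
  have hlz : RV F₀ (l • z) := hzR.smul hl
  obtain ⟨ν, hνF, hν⟩ := hO.self_half hlz
  have hlz' : RV F₀ (-(l • z)) := hlz.neg
  have hX := hO.sg_rat he hlz' hee (by simp [hez]) (hO.stab _ hνF)
    (show σ ν + σ (σ ν) = A (-(l • z)) (-(l • z)) by rw [hO.invol, add_comm, hν]; simp; try ring)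
  have hel : A e (l • z) = 0 := by simp [hez]
  have e1 : sg A e (l • k) μ = sg A e (l • z) (μ + σ (l * β) - l * β) := LinearEquiv.ext fun x => by
    rw [sg_apply hee (by simp [hek]) (by simp [hke]), sg_apply hee hel (hO.swap hel), hkz]
    simp only [smul_add, smul_smul, map_add, map_smulₛₗ, LinearMap.add_apply, LinearMap.smul_apply, smul_eq_mul, map_mul]
    module
  rw [e1] at hm
  have h2 := mul_mem hm hX
  rw [sg_mul hee hel (hO.swap hel) (by simp [hez]) (by simp [hze]), add_neg_cancel, map_neg, ← hν, sg_zero hee] at h2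
  set d := μ + σ (l * β) - l * β - ν with hd
  rw [show μ + σ (l * β) - l * β + σ ν + -(ν + σ ν) = d by rw [hd]; ring] at h2
  have hds : -d + σ (-d) = 0 := by
    have e2 : A (l • k) (l • k) = A (l • z) (l • z) := by
      rw [hkz, smul_add, smul_smul]
      simp [hee, hez, hze]
      try ring
    rw [map_neg, hd, map_sub, map_sub, map_add, hO.invol]
    linear_combination -e2 - hμ + hν
  have h3 := hS e _ he he0 hee hds h2
  have h4 := F₀.add_mem (F₀.sub_mem h3 hνF) hμF
  rwa [show -d - ν + μ = l * β - σ (l * β) by rw [hd]; ring] at h4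

/-- an element carrying a rational isotropic point to a rational point is rational up to a scalar -/
theorem ratty_of_point (hS : Strict F₀ A X) {h : (Fin 4 → F) ≃ₗ[F] (Fin 4 → F)} (hh : h ∈ X) {v e : Fin 4 → F}
    (hv : RV F₀ v) (hv0 : v ≠ 0) (hvv : A v v = 0) (he : RV F₀ e) (hhv : h v ∈ F ∙ e) : Ratty F₀ h := by
  obtain ⟨a, hhv⟩ := Submodule.mem_span_singleton.1 hhv
  replace hhv := hhv.symm
  obtain ⟨hee, he0, ha, hN⟩ := hO.norm_mem hS hh hv hv0 hvv he hhv
  have hσa : σ a ≠ 0 := (map_ne_zero σ).2 ha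
  obtain ⟨f, hf, hff, hvf, hfv⟩ := hO.partner hv hvv hv0
  obtain ⟨f', hf', hf'f', hef', hf'e⟩ := hO.partner he hee he0
  set k := σ a • h f with hk
  have hek : A e k = 1 := by
    have h1 := hO.iso hh v f
    rw [hvf, hhv, map_smulₛₗ, LinearMap.smul_apply, smul_eq_mul] at h1
    rw [hk, map_smul, smul_eq_mul, h1]
  have hinv : h⁻¹ e = a⁻¹ • v := by
    refine h.injective ?_
    rw [apply_inv, map_smul, hhv, smul_smul, inv_mul_cancel₀ ha, one_smul]
  set z := k - A f' k • e with hz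
  have hzR : RV F₀ z := hO.rv_of_forms fun w hw => by
    set r := w - A e w • f' with hr
    have her : A e r = 0 := by simp [hr, hef']
    have hrR : RV F₀ r := hw.sub (hf'.smul (hO.form _ _ he hw))
    have hr'' := hO.perp_rat hS (inv_mem hh) he he0 hee hv hinv hrR her
    set r'' := σ a⁻¹ • h⁻¹ r with hr2
    have hrr : r = σ a • h r'' := by
      rw [hr2, map_smul, apply_inv, smul_smul, map_inv₀, mul_inv_cancel₀ hσa, one_smul]
    have h1 : A r k ∈ F₀ := by
      have e2 : A r k = a * σ a * A r'' f := by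
        rw [hrr, hk]
        simp only [map_smulₛₗ, LinearMap.smul_apply, smul_eq_mul, RingHom.id_apply, hO.invol, hO.iso hh]
        ring
      rw [e2]
      exact F₀.mul_mem hN (hO.form _ _ hr'' hf)
    have hwr : w = r + A e w • f' := (sub_add_cancel _ _).symm
    have hfz : A f' z = 0 := by simp [hz, hf'e]
    rw [hwr, map_add, LinearMap.add_apply, map_smulₛₗ, LinearMap.smul_apply, hfz, smul_zero, add_zero, hz, map_sub,
      show A r (A f' k • e) = 0 by simp [hO.swap her], sub_zero]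
    exact h1
  have hkz : k = z + A f' k • e := (sub_add_cancel _ _).symm
  set β := A f' k
  have hez : A e z = 1 := by simp [hz, hek, hee]
  have hze : A z e = 1 := by rw [← hO.symm', hez, map_one]
  obtain ⟨μ, hμF, hμ⟩ := hO.self_half hzR
  set κ := β + μ with hκ
  have hκs : κ + σ κ = 0 := by
    have h1 : A k k = 0 := by rw [hk, Herm.smul_self hO.herm, hO.iso hh, hff, mul_zero]
    rw [hkz] at h1
    simp [hee, hez, hze] at h1
    rw [hκ, map_add]
    linear_combination h1 + hμ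
  set g := z - μ • e with hg
  have hgR : RV F₀ g := hzR.sub (he.smul hμF)
  have hkg : k = g + κ • e := by rw [hkz, hg, hκ]; module
  set N := a * σ a with hNd
  have hN0 : N ≠ 0 := mul_ne_zero ha hσa
  have hNs : σ N = N := by rw [hNd, map_mul, hO.invol, mul_comm]
  set c := -κ / N with hc
  have hcs : c + σ c = 0 := by
    rw [hc, map_div₀, map_neg, hNs, ← add_div, ← neg_add, hκs, neg_zero, zero_div]
  set h₀ := h * Tv A v c with hh0
  have hsu : h₀ ∈ Herm.suG A := mul_mem (hO.le hh) (hO.Tv_mem_suG hvv hcs)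
  have hf0 : σ a • h₀ f = g := by
    rw [hh0, LinearEquiv.mul_apply, Tv_apply hvv, hvf, mul_one, map_add, map_smul, hhv, smul_add, ← hk, hkg, smul_smul,
      smul_smul, show σ a * c * a = c * N by rw [hNd]; ring, hc, div_mul_cancel₀ _ hN0]
    module
  have hsplit : ∀ x, RV F₀ x → RV F₀ (σ a • h₀ x) := fun x hx => by
    set r := x - A v x • f with hr
    have hvr : A v r = 0 := by simp [hr, hvf]
    have hxr : x = r + A v x • f := (sub_add_cancel _ _).symm
    have h1 : h₀ r = h r := by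
      rw [hh0, LinearEquiv.mul_apply, Tv_apply hvv, hvr, mul_zero, zero_smul, add_zero]
    rw [hxr, map_add, map_smul, smul_add, smul_comm, hf0, h1]
    exact (hO.perp_rat hS hh hv hv0 hvv he hhv (hx.sub (hf.smul (hO.form _ _ hv hx))) hvr).add
      (hgR.smul (hO.form _ _ hv hx))
  have h0X : h₀ ∈ X := hO.rat _ hsu ⟨σ a, hσa, fun i => hsplit _ (rv_single i)⟩
  have hTX : Tv A v c ∈ X := by
    have h2 := mul_mem (inv_mem hh) h0X
    rwa [hh0, inv_mul_cancel_left] at h2
  have hcF := hS v c hv hv0 hvv hcs hTX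
  refine ⟨σ a, hσa, fun i => ?_⟩
  set x : Fin 4 → F := Pi.single i 1
  have h2 := hsplit _ ((rv_single (F₀ := F₀) i).sub (hv.smul (F₀.mul_mem hcF (hO.form _ _ hv (rv_single i)))))
  rw [hh0, LinearEquiv.mul_apply, Tv_apply hvv, map_sub, map_smul, hvv, smul_zero, sub_zero, sub_add_cancel] at h2
  exact h2

/-- an element outside moves every rational isotropic point to an irrational one -/
theorem irrational (hS : Strict F₀ A X) {g : (Fin 4 → F) ≃ₗ[F] (Fin 4 → F)} (hg : g ∈ X) (hgr : ¬ Ratty F₀ g)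
    {v : Fin 4 → F} (hv : RV F₀ v) (hv0 : v ≠ 0) (hvv : A v v = 0) (w : Fin 4 → F) (hw : RV F₀ w) : g v ∉ F ∙ w :=
  fun h => hgr (hO.ratty_of_point hS hg hv hv0 hvv hw h)

end Over

theorem Ratty_rat_of_one {F₀ : Subfield F} {g : (Fin 4 → F) ≃ₗ[F] (Fin 4 → F)} (hg : Ratty F₀ g) {v w : Fin 4 → F}
    (hv : RV F₀ v) (hv0 : v ≠ 0) (hgv : g v = w) (hw : RV F₀ w) : ∀ z, RV F₀ z → RV F₀ (g z) := by
  obtain ⟨c, hc, hci⟩ := hg
  have h1 : RV F₀ (c • g v) := by
    have := RV.map (L := c • g.toLinearMap) (fun i => hci i) hv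
    exact this
  have hw0 : w ≠ 0 := fun h => hv0 (g.map_eq_zero_iff.1 (by rw [hgv, h]))
  rw [hgv] at h1
  have hcF : c ∈ F₀ := rv_scalar hw h1 hw0 rfl
  intro z hz
  refine RV.map (L := g.toLinearMap) (fun i => ?_) hz
  have := (hci i).smul (F₀.inv_mem hcF)
  rwa [smul_smul, inv_mul_cancel₀ hc, one_smul] at this

/-- maximality of a subfield group from the overgroup statement -/
theorem isMaximalIn_sub {q : ℕ} (hσ : Herm.IsInvol σ) (hσq : ∀ x, σ x = x ^ q) (F₀ : Subfield F)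
    (P : Matrix.GeneralLinearGroup (Fin 4) F)
    (hproper : ∃ (v : Fin 4 → F) (c : F), Subfield.Unit.formP σ 1 P v v = 0 ∧ c + σ c = 0 ∧
      ¬ Ratty F₀ (Tv (Subfield.Unit.formP σ 1 P) v c))
    (h : Herm.IsHerm (Subfield.Unit.formP σ 1 P) → ∀ X : Subgroup ((Fin 4 → F) ≃ₗ[F] (Fin 4 → F)),
      X ≤ Herm.suG (Subfield.Unit.formP σ 1 P) →
      (∀ s ∈ Herm.suG (Subfield.Unit.formP σ 1 P), Ratty F₀ s → s ∈ X) → (∃ g ∈ X, ¬ Ratty F₀ g) →
      ∀ v, Subfield.Unit.formP σ 1 P v v = 0 → v ∈ Unitary.centres (Subfield.Unit.formP σ 1 P) X) :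
    Cfsg.Geo.IsMaximalIn (Cfsg.GU 4 F q ⊓ Cfsg.Geo.specialLinear (Fin 4) F)
      (Cfsg.Geo.subfieldSubgroup F₀ P ⊓ (Cfsg.GU 4 F q ⊓ Cfsg.Geo.specialLinear (Fin 4) F)) := by
  classical
  set A := Subfield.Unit.formP (n := 4) σ 1 P with hAd
  set e : (Fin 4 → F) ≃ₗ[F] (Fin 4 → F) := glEquiv (Fin 4) F P with he
  have hB := hermB_isHerm (n := 4) hσ
  have hA : ∀ x y, A x y = hermB 4 σ (e x) (e y) := fun x y => one_mul _
  have hAH : Herm.IsHerm A :=
    { toIsInvol := hσ
      symm := fun a b => by rw [hA, hA]; exact hB.symm _ _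
      nondeg := Subfield.Unit.formP_nd hσ one_ne_zero P }
  have hK : ∀ g, g ∈ Cfsg.Geo.subfieldSubgroup F₀ P ↔ Ratty F₀ (e⁻¹ * glEquiv (Fin 4) F g * e) := fun g => by
    rw [he, ← map_inv, ← map_mul, ← map_mul, ← mem_ratScalar_iff, Cfsg.Geo.subfieldSubgroup, Subgroup.mem_map]
    constructor
    · rintro ⟨y, hy, rfl⟩
      simpa [MulAut.conj_apply, mul_assoc] using hy
    · intro h
      exact ⟨_, h, by simp [MulAut.conj_apply, mul_assoc]⟩
  have hsu : ∀ s, s ∈ Herm.suG A ↔ e * s * e⁻¹ ∈ Herm.suG (hermB 4 σ) := fun s => by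
    have hd : LinearEquiv.det (e * s * e⁻¹) = LinearEquiv.det s := by
      rw [map_mul, map_mul, map_inv, mul_comm (LinearEquiv.det e), mul_inv_cancel_right]
    constructor
    · rintro ⟨h1, h2⟩
      refine ⟨fun a b => ?_, by rw [hd]; exact h2⟩
      have h3 := h1 (e⁻¹ a) (e⁻¹ b)
      rw [hA, hA, apply_inv, apply_inv] at h3
      exact h3
    · rintro ⟨h1, h2⟩
      refine ⟨fun a b => ?_, by rw [← hd]; exact h2⟩
      have h3 := h1 (e a) (e b)
      simp only [LinearEquiv.mul_apply, inv_apply] at h3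
      rw [hA, hA, h3]
  have hiso0 : ∀ {v}, A v v = 0 → hermB 4 σ (e v) (e v) = 0 := fun {v} hv => by rwa [hA] at hv
  have htv : ∀ (v) (hv : A v v = 0) (c : F), e * Tv A v c * e⁻¹ = Herm.tvU (hiso0 hv) c := fun v hv c =>
    LinearEquiv.ext fun x => by
      rw [LinearEquiv.mul_apply, LinearEquiv.mul_apply, Tv_apply hv, Herm.tvU_apply, map_add, map_smul, apply_inv, hA,
        apply_inv]
  constructor
  · refine lt_of_le_of_ne inf_le_right fun heq => ?_
    obtain ⟨v, c, hv, hc, hvc⟩ := hproper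
    refine hvc ?_
    have hmem : (glEquiv (Fin 4) F).symm (Herm.tvU (hiso0 hv) c) ∈ Cfsg.Geo.subfieldSubgroup F₀ P :=
      (heq.ge ((Unitary.glEquiv_mem_iff hσq _).2 (by
        rw [MulEquiv.apply_symm_apply]
        have := Herm.tvU_mem hB (hiso0 hv) hc
        exact ⟨this.1, by simpa [Units.ext_iff] using this.2⟩))).1
    rw [hK, MulEquiv.apply_symm_apply, ← htv v hv c,
      show e⁻¹ * (e * Tv A v c * e⁻¹) * e = Tv A v c by group] at hmem
    exact hmem
  · intro M hM1 hM2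
    by_cases hle : M ≤ Cfsg.Geo.subfieldSubgroup F₀ P
    · exact Or.inl (le_antisymm (le_inf hle hM2) hM1)
    refine Or.inr (le_antisymm hM2 fun k hk => ?_)
    obtain ⟨g, hg, hgK⟩ := SetLike.not_le_iff_exists.1 hle
    set M' := M.map (glEquiv (Fin 4) F).toMonoidHom with hM'
    let X : Subgroup ((Fin 4 → F) ≃ₗ[F] (Fin 4 → F)) := M'.comap (MulAut.conj e).toMonoidHom ⊓ Herm.suG A
    have hrat : ∀ s ∈ Herm.suG A, Ratty F₀ s → s ∈ X := fun s hs hr => by
      refine ⟨⟨(glEquiv (Fin 4) F).symm (e * s * e⁻¹), hM1 ⟨?_, ?_⟩, MulEquiv.apply_symm_apply _ _⟩, hs⟩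
      · show (glEquiv (Fin 4) F).symm (e * s * e⁻¹) ∈ Cfsg.Geo.subfieldSubgroup F₀ P
        rw [hK, MulEquiv.apply_symm_apply, show e⁻¹ * (e * s * e⁻¹) * e = s by group]
        exact hr
      · refine (Unitary.glEquiv_mem_iff hσq _).2 ?_
        rw [MulEquiv.apply_symm_apply]
        have := (hsu s).1 hs
        exact ⟨this.1, by rw [← LinearEquiv.coe_det, this.2]; rfl⟩
    have hg' : e⁻¹ * glEquiv (Fin 4) F g * e ∈ X := by
      have h2 := (Unitary.glEquiv_mem_iff hσq g).1 (hM2 hg)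
      refine ⟨?_, (hsu _).2 ?_⟩
      · show e * (e⁻¹ * glEquiv (Fin 4) F g * e) * e⁻¹ ∈ M'
        rw [show e * (e⁻¹ * glEquiv (Fin 4) F g * e) * e⁻¹ = glEquiv (Fin 4) F g by group]
        exact Subgroup.mem_map_of_mem _ hg
      · rw [show e * (e⁻¹ * glEquiv (Fin 4) F g * e) * e⁻¹ = glEquiv (Fin 4) F g by group]
        exact Unitary.mem_suG hB h2.1 h2.2
    have hall := h hAH X inf_le_right hrat ⟨_, hg', fun h => hgK ((hK g).2 h)⟩
    have hcen : ∀ w, hermB 4 σ w w = 0 → w ∈ Unitary.centres (hermB 4 σ) M' := fun w hw => by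
      refine ⟨hw, fun hw' c hc => ?_⟩
      have hv : A (e⁻¹ w) (e⁻¹ w) = 0 := by rw [hA, apply_inv, hw]
      have h1 : e * Herm.tvU hv c * e⁻¹ ∈ M' := ((hall _ hv).2 hv c hc).1
      rw [← Tv_eq hv, htv _ hv] at h1
      have h2 : Herm.tvU (hiso0 hv) c = Herm.tvU hw' c :=
        LinearEquiv.ext fun x => by rw [Herm.tvU_apply, Herm.tvU_apply, apply_inv]
      rwa [h2] at h1
    obtain ⟨k', hk', e'⟩ := Unitary.suG_le hB (by rw [Module.finrank_fin_fun]) hcen
      (Unitary.mem_suG hB ((Unitary.glEquiv_mem_iff hσq k).1 hk).1 ((Unitary.glEquiv_mem_iff hσq k).1 hk).2)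
    exact (glEquiv (Fin 4) F).injective e' ▸ hk'

end Cfsg.Agent.ClassicalMax.SU4.Sub
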