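import Cfsg.Agent.ClassicalMax.SU4.Mono
import Cfsg.Agent.ClassicalMax.SU4.Block
import Cfsg.Agent.Classical.HermForm
import Cfsg.Prelude.Def_GeometricClasses

/-!
Stabilisers of orthogonal decompositions in four-dimensional special unitary groups.
-/

set_option autoImplicit false
open Cfsg

namespace Cfsg.Agent.ClassicalMax.SU4.Decomp

open Cfsg.Agent.Classical Cfsg.Agent.ClassicalMax Cfsg.Agent.ClassicalMax.Unitary Cfsg.Agent.UnitDec Module

/-- The maximality statement in dimension four. -/
theorem maximal {F : Type*} [Field F] [Fintype F] (n q : ℕ) (hF : Fintype.card F = q ^ 2) (hn : n = 4) {t : ℕ} (k : ℕ) (D : Fin t → Submodule F (Fin n → F)) (hD : Cfsg.Geo.IsNondegenerateMDecomposition (Cfsg.hermForm n F q) k D) (hone : k = 1 → q ≠ 3) (hblk : 2 ≤ k → 3 ≤ q) : Cfsg.Geo.IsMaximalIn (Cfsg.GU n F q ⊓ Cfsg.Geo.specialLinear (Fin n) F) (Cfsg.Geo.decompositionStabilizer D ⊓ (Cfsg.GU n F q ⊓ Cfsg.Geo.specialLinear (Fin n) F)) := by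
  classical
  obtain ⟨σ, hσq, hσ, hqq, hq1⟩ := exists_powHom hF
  set B := hermB n σ
  have hB : Herm.IsHerm B := hermB_isHerm hσ n
  have hBf : ∀ x y, B x y = Cfsg.hermForm n F q y x := fun x y => by rw [hermForm_eq hσq]
  have ht := hD.decomp.two_le
  have hk0 := hD.decomp.pos
  have hbasis : ∀ i, ∃ b : Basis (Fin k) F (D i), ∀ r s, B (b r : Fin n → F) (b s : Fin n → F) = if r = s then 1 else 0 := by
    intro i
    let B0 : D i →ₛₗ[σ] D i →ₗ[F] F := (B.compl₂ (D i).subtype).comp (D i).subtype
    have h0 : Herm.IsHerm B0 :=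
      { toIsInvol := hσ
        symm := fun x y => hB.symm _ _
        nondeg := fun x hx => by
          by_contra hne
          obtain ⟨y, hy, hy'⟩ := (hD.nondegenerate i x x.2 (fun h => hne (Subtype.ext h))).1
          exact hy' (by rw [← hBf]; exact hx ⟨y, hy⟩) }
    obtain ⟨b, hb⟩ := Herm.exists_orthonormal h0
    refine ⟨b.reindex (finCongr (hD.decomp.finrank_eq i)), fun r s => ?_⟩
    rw [Basis.reindex_apply, Basis.reindex_apply]
    exact (hb _ _).trans (by simp)
  choose b hb using hbasis
  let f : Fin t × Fin k → (Fin n → F) := fun p => (b p.1 p.2 : Fin n → F)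
  have hf : ∀ i j, B (f i) (f j) = if i = j then 1 else 0 := by
    rintro ⟨i, r⟩ ⟨j, s⟩
    by_cases hij : i = j
    · subst hij; rw [hb]; simp [Prod.ext_iff]
    · rw [if_neg (fun h => hij (congrArg Prod.fst h)), hBf]
      exact hD.orthogonal j i (Ne.symm hij) _ (b j s).2 _ (b i r).2
  have hli : LinearIndependent F f := by
    rw [Fintype.linearIndependent_iff]
    intro c hc j
    have := congrArg (B (f j)) hc
    simpa [map_sum, hf] using this
  have hspan : ⊤ ≤ Submodule.span F (Set.range f) := by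
    rw [← hD.decomp.iSup_eq_top]
    refine iSup_le fun i x hx => ?_
    have h1 := congrArg Subtype.val ((b i).sum_repr ⟨x, hx⟩)
    rw [Submodule.coe_sum] at h1
    change _ = x at h1
    rw [← h1]
    refine Submodule.sum_mem _ fun r _ => ?_
    rw [Submodule.coe_smul]
    exact Submodule.smul_mem _ _ (Submodule.subset_span ⟨(i, r), rfl⟩)
  let e := Basis.mk hli hspan
  have hee : ∀ p, e p = f p := fun p => Basis.mk_apply hli hspan p
  have hon : IsONB B e := fun i j => by rw [hee, hee, hf]
  have hnk : t * k = n := by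
    have := Module.finrank_eq_card_basis e
    simpa using this.symm
  have hmemD : ∀ p, e p ∈ D p.1 := fun p => by rw [hee]; exact (b p.1 p.2).2
  have hDco : ∀ i x, x ∈ D i ↔ ∀ l : Fin t × Fin k, l.1 ≠ i → B (e l) x = 0 := fun i x => by
    refine ⟨fun hx l hl => ?_, fun h => ?_⟩
    · rw [hBf]; exact hD.orthogonal i l.1 (Ne.symm hl) _ hx _ (hmemD l)
    · rw [← expand hon x]
      refine Submodule.sum_mem _ fun l _ => ?_
      by_cases hl : l.1 = i
      · exact Submodule.smul_mem _ _ (hl ▸ hmemD l)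
      · rw [h l hl, zero_smul]; exact Submodule.zero_mem _
  have hlin : ∀ g : (Fin n → F) ≃ₗ[F] (Fin n → F), Matrix.toLin' (((glEquiv (Fin n) F).symm g :
      Matrix.GeneralLinearGroup (Fin n) F) : Matrix (Fin n) (Fin n) F) = g.toLinearMap := fun g =>
    LinearMap.ext fun x => by rw [Matrix.toLin'_apply]; exact symm_mulVec g x
  have hstab : ∀ g : (Fin n → F) ≃ₗ[F] (Fin n → F),
      (glEquiv (Fin n) F).symm g ∈ Cfsg.Geo.decompositionStabilizer D ↔ Blk B e Prod.fst g := by
    intro g
    constructor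
    · rintro ⟨π, hπ⟩
      refine ⟨π, fun i j hj => ?_⟩
      have h1 : g (e i) ∈ D (π i.1) := by
        rw [← hπ, hlin]; exact ⟨_, hmemD i, rfl⟩
      exact (hDco _ _).1 h1 j hj
    · rintro ⟨π, hπ⟩
      refine ⟨π, fun i => ?_⟩
      rw [hlin]
      refine Submodule.eq_of_le_of_finrank_eq ?_ (by rw [LinearEquiv.finrank_map_eq, hD.decomp.finrank_eq, hD.decomp.finrank_eq])
      rintro _ ⟨x, hx, rfl⟩
      show g x ∈ D (π i)
      rw [← expand hon x, map_sum]
      refine Submodule.sum_mem _ fun l _ => ?_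
      rw [map_smul]
      by_cases hl : l.1 = i
      · exact Submodule.smul_mem _ _ ((hDco _ _).2 fun m hm => hπ l m (hl ▸ hm))
      · rw [(hDco i x).1 hx l hl, zero_smul]; exact Submodule.zero_mem _
  obtain ⟨c, hc0, hcs⟩ := Herm.exists_skew hσ
  have hc : c + σ c = 0 := by rw [hcs, add_neg_cancel]
  obtain ⟨β, hβ⟩ := Herm.exists_norm hσ (a := (-1 : F)) (by simp)
  have hβ0 : β ≠ 0 := by rintro rfl; simp at hβ
  have hproper : ∃ (v : Fin n → F) (hv : B v v = 0) (c : F), c + σ c = 0 ∧
      (glEquiv (Fin n) F).symm (Herm.tvU hv c) ∉ Cfsg.Geo.decompositionStabilizer D := by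
    rcases Nat.lt_or_ge k 2 with hk | hk
    · obtain rfl : k = 1 := by omega
      let p : ∀ m : ℕ, m < 4 → Fin t × Fin 1 := fun m hm => (⟨m, by omega⟩, 0)
      let a := p 0 (by omega)
      let a1 := p 1 (by omega)
      let a2 := p 2 (by omega)
      let a3 := p 3 (by omega)
      have d01 : a ≠ a1 := by simp [a, a1, p]
      have d02 : a ≠ a2 := by simp [a, a2, p]
      have d03 : a ≠ a3 := by simp [a, a3, p]
      have d12 : a1 ≠ a2 := by simp [a1, a2, p]
      have d13 : a1 ≠ a3 := by simp [a1, a3, p]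
      have d23 : a2 ≠ a3 := by simp [a2, a3, p]
      set v := e a + β • e a1 + (e a2 + β • e a3)
      have hv : B v v = 0 := by
        simp [v, hon _ _, d01, d02, d03, d12, d13, d23, d01.symm, d02.symm, d03.symm, d12.symm, d13.symm, d23.symm]
        linear_combination 2 * hβ
      refine ⟨v, hv, c, hc, fun hmem => ?_⟩
      obtain ⟨π, hπ⟩ := (hstab _).1 hmem
      have e1 : ∀ l, B (e l) (Herm.tvU hv c (e a)) = (if l = a then 1 else 0) + c * B (e l) v := fun l => by
        have hva : B v (e a) = 1 := by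
          simp [v, hon _ _, d01.symm, d02.symm, d03.symm]
        rw [Herm.tvU_apply, hva, map_add, map_smul, hon, smul_eq_mul, mul_one]
      have h1 : a1.1 = π a.1 := by
        by_contra h
        have := hπ a a1 h
        rw [e1, if_neg d01.symm, zero_add] at this
        simp [v, hon _ _, d01.symm, d12, d13, hc0, hβ0] at this
      have h2 : a2.1 = π a.1 := by
        by_contra h
        have := hπ a a2 h
        rw [e1, if_neg d02.symm, zero_add] at this
        simp [v, hon _ _, d02.symm, d12.symm, d23, hc0] at this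
      exact d12 (Prod.ext (h1.trans h2.symm) (Subsingleton.elim _ _))
    · let a : Fin t × Fin k := (⟨0, by omega⟩, ⟨0, by omega⟩)
      let a' : Fin t × Fin k := (⟨0, by omega⟩, ⟨1, by omega⟩)
      let a1 : Fin t × Fin k := (⟨1, by omega⟩, ⟨0, by omega⟩)
      have d01 : a ≠ a1 := by simp [a, a1]
      have d0 : a ≠ a' := by simp [a, a']
      have d1 : a1 ≠ a' := by simp [a1, a']
      set v := e a + β • e a1
      have hv : B v v = 0 := by
        simp [v, hon _ _, d01, d01.symm]
        linear_combination hβ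
      refine ⟨v, hv, c, hc, fun hmem => ?_⟩
      obtain ⟨π, hπ⟩ := (hstab _).1 hmem
      have hfix : Herm.tvU hv c (e a') = e a' := by
        have h0 : B v (e a') = 0 := by simp [v, hon _ _, d0, d1]
        rw [Herm.tvU_apply, h0, mul_zero, zero_smul, add_zero]
      have hp : a'.1 = π a'.1 := by
        by_contra h
        have := hπ a' a' h
        rw [hfix, hon, if_pos rfl] at this
        exact one_ne_zero this
      have hne : a1.1 ≠ π a.1 := by
        rw [show a.1 = a'.1 from rfl, ← hp]
        simp [a1, a']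
      have := hπ a a1 hne
      have hva : B v (e a) = 1 := by simp [v, hon _ _, d01.symm]
      rw [Herm.tvU_apply, hva, mul_one, map_add, map_smul, hon, if_neg d01.symm, zero_add] at this
      simp [v, hon _ _, d01.symm, hc0, hβ0] at this
  refine isMaximalIn_suGL hσ hσq (by omega) _ hproper fun M hK ⟨g, hgM, hgi, hgK⟩ => ?_
  have hgb : ¬ Blk B e Prod.fst g := fun h => hgK ((hstab g).2 h)
  have hmem : ∀ h : (Fin n → F) ≃ₗ[F] (Fin n → F), Iso B h → LinearMap.det h.toLinearMap = 1 →
      Blk B e Prod.fst h → h ∈ M := fun h h1 h2 h3 => hK h h1 h2 ((hstab h).2 h3)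
  rcases Nat.lt_or_ge k 2 with hk | hk
  · obtain rfl : k = 1 := by omega
    have hmb : ∀ h, Mono B e h → Blk B e Prod.fst h := by
      rintro h ⟨π, hπ⟩
      let π' : Equiv.Perm (Fin t) := ((Equiv.prodUnique (Fin t) (Fin 1)).symm.trans π).trans (Equiv.prodUnique (Fin t) (Fin 1))
      refine ⟨π', fun i j hj => hπ i j fun he => hj ?_⟩
      show j.1 = (π (i.1, default)).1
      rw [show ((i.1, default) : Fin t × Fin 1) = i from Prod.ext rfl (Subsingleton.elim _ _)]
      exact congrArg Prod.fst he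
    exact SU4.Mono.mono_centres ⟨hB, hon, by simp; omega, fun h h1 h2 h3 => hmem h h1 h2 (hmb h h3)⟩
      (by simp; omega) (fun h => hone rfl (hqq.symm.trans h)) hgM hgi fun h => hgb (hmb g h)
  · exact SU4.Block.block_centres ⟨hB, hon, hk, ht, by omega, le_trans (hblk hk) hqq.ge, hmem⟩ hgM hgi hgb

end Cfsg.Agent.ClassicalMax.SU4.Decomp
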