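import Cfsg.Agent.ClassicalMax.Unitary

set_option autoImplicit false
open Cfsg

namespace Cfsg.Agent.ClassicalMax.SU4.Isotropic

open Cfsg.Agent.Classical Cfsg.Agent.ClassicalMax Cfsg.Agent.ClassicalMax.Unitary Module

section

variable {F V : Type*} [Field F] [AddCommGroup V] [Module F V] {σ : F →+* F} {B : V →ₛₗ[σ] V →ₗ[F] F}
  [Finite F] [FiniteDimensional F V]

/-- the orthogonal of a hyperbolic pair contains an anisotropic vector -/
theorem exists_aniso_perp (hB : Herm.IsHerm B) {w1 v0 : V} (hv0 : B v0 v0 = 0) (hw1 : B w1 w1 = 0)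
    (hdim : 4 ≤ finrank F V) (hvw : B v0 w1 ≠ 0) : ∃ b ∈ perp B [w1, v0], B b b ≠ 0 := by
  refine Herm.exists_anisotropic hB _ ?_
  have hd := finrank_perp (B := B) [w1, v0]
  simp only [List.length_cons, List.length_nil] at hd
  obtain ⟨u, hu, hu0⟩ := (perp B [w1, v0]).exists_mem_ne_zero_of_ne_bot fun h => by
    rw [h, finrank_bot] at hd; omega
  obtain ⟨y, hy⟩ : ∃ y, B u y ≠ 0 := by by_contra! hc; exact hu0 (hB.nondeg u hc)
  have hu1 : B u w1 = 0 := (Herm.eq_zero_comm hB).1 (mem_perp.1 hu w1 (by simp))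
  have hu2 : B u v0 = 0 := (Herm.eq_zero_comm hB).1 (mem_perp.1 hu v0 (by simp))
  have hwv : B w1 v0 ≠ 0 := fun h => hvw ((Herm.eq_zero_comm hB).1 h)
  refine ⟨u, hu, y - (B v0 y / B v0 w1) • w1 - (B w1 y / B w1 v0) • v0, mem_perp.2 fun a ha => ?_, ?_⟩
  · simp only [List.mem_cons, List.not_mem_nil, or_false] at ha
    rcases ha with rfl | rfl
    · simp only [map_sub, map_smul, smul_eq_mul, hw1, mul_zero, sub_zero, div_mul_cancel₀ _ hwv, sub_self]
    · simp only [map_sub, map_smul, smul_eq_mul, hv0, mul_zero, sub_zero, div_mul_cancel₀ _ hvw, sub_self]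
  · simpa [hu1, hu2] using hy

theorem all_centres (hB : Herm.IsHerm B) (hdim : 4 ≤ finrank F V) (W : Submodule F V)
    (hts : ∀ x ∈ W, ∀ y ∈ W, B x y = 0) (M : Subgroup (V ≃ₗ[F] V))
    (hM : ∀ g : V ≃ₗ[F] V, (∀ x y, B (g x) (g y) = B x y) → LinearMap.det g.toLinearMap = 1 → (∀ w ∈ W, g w ∈ W) → g ∈ M)
    (g : V ≃ₗ[F] V) (hgM : g ∈ M) (hgi : ∀ x y, B (g x) (g y) = B x y) {w0 : V} (hw0 : w0 ∈ W) (hgw : g w0 ∉ W) :
    ∀ v, B v v = 0 → v ∈ centres B M := by
  let U : Submodule F V := ⨅ x ∈ W, LinearMap.ker (B x)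
  have hU : ∀ v, v ∈ U ↔ ∀ x ∈ W, B x v = 0 := fun v => by simp [U]
  have hperp : ∀ v ∈ U, B v v = 0 → v ∈ centres B M := fun v hv hvv => by
    refine ⟨hvv, fun hv' c hc => ?_⟩
    have hmem := Herm.tvU_mem hB hv' hc
    refine hM _ hmem.1 (by simpa [Units.ext_iff] using hmem.2) fun x hx => ?_
    rw [Herm.tvU_apply, (Herm.eq_zero_comm hB).1 ((hU v).1 hv x hx), mul_zero, zero_smul, add_zero]
    exact hx
  have hUU : ∀ x, x ∉ W → ∃ y ∈ U, B x y ≠ 0 := fun x hx => by
    obtain ⟨y, hy, hxy⟩ := exists_perp hB hx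
    exact ⟨y, (hU y).2 hy, by rw [hxy]; exact one_ne_zero⟩
  -- a centre outside the orthogonal
  obtain ⟨v0, hv0, hv0U⟩ : ∃ v0 ∈ centres B M, v0 ∉ U := by
    by_contra! hc
    have hW : ∀ w ∈ W, w ∈ U := fun w hw => (hU w).2 fun x hx => hts x hx w hw
    have hmapU : ∀ v ∈ U, B v v = 0 → g v ∈ U := fun v hv hvv => hc _ (map_mem_centres hB (hperp v hv hvv) hgM hgi)
    have hzU := hmapU w0 (hW w0 hw0) (hts _ hw0 _ hw0)
    obtain ⟨f, hf, hzf⟩ := hUU _ hgw
    have hzz : B (g w0) (g w0) = 0 := by rw [hgi]; exact hts _ hw0 _ hw0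
    have hle := isotropic_span hB U hzU hzz hf hzf (U.comap g.toLinearMap) (fun x hx hxx => hmapU x hx hxx)
    have hmap : U.map g.toLinearMap = U :=
      Submodule.eq_of_le_of_finrank_eq (Submodule.map_le_iff_le_comap.2 hle) (LinearEquiv.finrank_map_eq _ U)
    rw [← hmap] at hf
    obtain ⟨f', hf', rfl⟩ := hf
    refine hzf ?_
    show B (g w0) (g f') = 0
    rw [hgi]; exact (hU f').1 hf' w0 hw0
  intro u huu
  by_cases huU : u ∈ U
  · exact hperp u huU huu
  obtain ⟨w1, hw1, hw1u⟩ : ∃ w ∈ W, B w u ≠ 0 := by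
    by_contra! hc; exact huU ((hU u).2 hc)
  obtain ⟨w2, hw2, hw2v⟩ : ∃ w ∈ W, B w v0 ≠ 0 := by
    by_contra! hc; exact hv0U ((hU v0).2 hc)
  have hu'W : u ∉ W := fun h => hw1u (hts _ hw1 _ h)
  have hv0W : v0 ∉ W := fun h => hw2v (hts _ hw2 _ h)
  obtain ⟨A, hA'⟩ : ∃ A : W ≃ₗ[F] W, ∀ z, B u (A z : V) = B v0 (z : V) := by
    set φ := (B v0).comp W.subtype
    set ψ := (B u).comp W.subtype
    have hφ : φ ≠ 0 := fun h => hw2v ((Herm.eq_zero_comm hB).1 (LinearMap.congr_fun h ⟨w2, hw2⟩))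
    have hψ : ψ ≠ 0 := fun h => hw1u ((Herm.eq_zero_comm hB).1 (LinearMap.congr_fun h ⟨w1, hw1⟩))
    have key : ∀ φ : Dual F W, φ ≠ 0 → ∃ z : W, φ z = 1 := fun φ hφ => by
      obtain ⟨z, hz⟩ : ∃ z, φ z ≠ 0 := by by_contra! hc; exact hφ (LinearMap.ext hc)
      exact ⟨(φ z)⁻¹ • z, by rw [map_smul, smul_eq_mul, inv_mul_cancel₀ hz]⟩
    obtain ⟨c, hc1, hc2⟩ : ∃ c, ψ c = 1 ∧ φ c ≠ 0 := by
      obtain ⟨a, ha⟩ := key φ hφ
      obtain ⟨b, hb⟩ := key ψ hψ
      by_cases h1 : φ b = 0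
      · by_cases h2 : ψ a = 0
        · exact ⟨b + a, by rw [map_add, hb, h2, add_zero], by rw [map_add, h1, ha, zero_add]; exact one_ne_zero⟩
        · exact ⟨(ψ a)⁻¹ • a, by rw [map_smul, smul_eq_mul, inv_mul_cancel₀ h2], by
            rw [map_smul, ha, smul_eq_mul, mul_one]; exact inv_ne_zero h2⟩
      · exact ⟨b, hb, h1⟩
    let L : W →ₗ[F] W := LinearMap.transvection (φ - ψ) c
    have hL : ∀ z, ψ (L z) = φ z := fun z => by
      simp only [L, LinearMap.transvection.apply, map_add, map_smul, hc1, LinearMap.sub_apply, smul_eq_mul, mul_one]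
      ring
    have hinj : Function.Injective L := by
      rw [← LinearMap.ker_eq_bot, Submodule.eq_bot_iff]
      intro z hz
      have h0 : φ z = 0 := by rw [← hL, LinearMap.mem_ker.1 hz, map_zero]
      have hz' : z + (φ z - ψ z) • c = 0 := LinearMap.mem_ker.1 hz
      replace hz' : z = ψ z • c := by rw [h0, zero_sub] at hz'; linear_combination (norm := module) hz'
      have h1 : ψ z * φ c = 0 := by rw [← smul_eq_mul, ← map_smul, ← hz', h0]
      rw [hz', (mul_eq_zero.1 h1).resolve_right hc2, zero_smul]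
    exact ⟨LinearEquiv.ofInjectiveEndo L hinj, hL⟩
  set X := W ⊔ Submodule.span F {v0}
  obtain ⟨χ, hχ, hχW⟩ := W.exists_le_ker_of_notMem hv0W
  obtain ⟨A', hA''⟩ := LinearMap.exists_extend (W.subtype.comp A.toLinearMap)
  let Φ : V →ₗ[F] V :=
    (((χ v0)⁻¹ • χ).smulRight u) + A'.comp (LinearMap.id - ((χ v0)⁻¹ • χ).smulRight v0)
  have hΦW : ∀ z : W, Φ z = (A z : V) := fun z => by
    have h0 : χ z = 0 := LinearMap.mem_ker.1 (hχW z.2)
    have := LinearMap.congr_fun hA'' z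
    simpa [Φ, h0] using this
  have hΦv : Φ v0 = u := by simp [Φ, inv_mul_cancel₀ hχ]
  have hX : ∀ x : X, ∃ z : W, ∃ k : F, (x : V) = z + k • v0 := fun x => by
    obtain ⟨a, ha, b, hb, hab⟩ := Submodule.mem_sup.1 x.2
    obtain ⟨k, rfl⟩ := Submodule.mem_span_singleton.1 hb
    exact ⟨⟨a, ha⟩, k, hab.symm⟩
  obtain ⟨t, hti, htx⟩ := Herm.witt hB (X := X) (Φ.comp X.subtype) (by
      rw [← LinearMap.ker_eq_bot, Submodule.eq_bot_iff]
      intro x hx
      obtain ⟨z, k, hzk⟩ := hX x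
      rw [LinearMap.mem_ker, LinearMap.comp_apply, Submodule.coe_subtype, hzk, map_add, map_smul, hΦW, hΦv] at hx
      rcases eq_or_ne k 0 with rfl | hk
      · rw [zero_smul, add_zero] at hx hzk
        have : A z = 0 := Subtype.ext hx
        rw [A.map_eq_zero_iff] at this
        exact Subtype.ext (by rw [hzk, this]; rfl)
      · refine absurd ?_ hu'W
        have : u = -k⁻¹ • (A z : V) := by
          rw [eq_neg_of_add_eq_zero_left hx, smul_neg, neg_smul, neg_neg, smul_smul, inv_mul_cancel₀ hk, one_smul]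
        rw [this]; exact W.smul_mem _ (A z).2)
    (by
      intro x x'
      obtain ⟨z, k, hzk⟩ := hX x
      obtain ⟨z', k', hzk'⟩ := hX x'
      have e1 : ∀ z : W, B (A z : V) u = B (z : V) v0 := fun z => by rw [← hB.symm u, hA', hB.symm]
      simp only [LinearMap.comp_apply, Submodule.coe_subtype, hzk, hzk', map_add, map_smul, map_smulₛₗ, hΦW, hΦv,
        LinearMap.add_apply, LinearMap.smul_apply, hA', e1, smul_eq_mul, huu, hv0.1, hts _ (A z).2 _ (A z').2, hts _ z.2 _ z'.2])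
  have htW : ∀ w ∈ W, t w ∈ W := fun w hw => by
    have := htx ⟨w, Submodule.mem_sup_left hw⟩
    simp only [LinearMap.comp_apply, Submodule.coe_subtype] at this
    rw [this, show Φ w = _ from hΦW ⟨w, hw⟩]
    exact (A _).2
  have htv : t v0 = u := by
    have := htx ⟨v0, Submodule.mem_sup_right (Submodule.mem_span_singleton_self v0)⟩
    simpa [hΦv] using this
  -- repair the determinant
  have hδ : σ (LinearMap.det t.toLinearMap) * σ (σ (LinearMap.det t.toLinearMap)) = 1 := by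
    rw [hB.invol, mul_comm]; exact det_norm hB hti
  obtain ⟨r, hri, hrd, hrW, hrv⟩ : ∃ r : V ≃ₗ[F] V, (∀ x y, B (r x) (r y) = B x y) ∧
      LinearMap.det r.toLinearMap = σ (LinearMap.det t.toLinearMap) ∧ (∀ w ∈ W, r w ∈ W) ∧ r v0 = v0 := by
    by_cases hw' : ∃ w' ∈ W, w' ≠ 0 ∧ B v0 w' = 0
    · obtain ⟨w', hw'W, hw'0, hvw'⟩ := hw'
      have hns : w' ∉ Submodule.span F {x | x ∈ [v0]} := fun h => by
        rw [show {x : V | x ∈ [v0]} = {v0} by ext; simp] at h
        obtain ⟨k, hk⟩ := Submodule.mem_span_singleton.1 h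
        rcases eq_or_ne k 0 with rfl | hk0
        · exact hw'0 (by rw [← hk, zero_smul])
        · exact hv0W (by rw [← one_smul F v0, ← inv_mul_cancel₀ hk0, mul_smul, hk]; exact W.smul_mem _ hw'W)
      obtain ⟨k, hk, hk'⟩ := exists_perp hB hns
      obtain ⟨s, hs⟩ := Herm.exists_trace hB.toIsInvol (a := -B k k) (by rw [map_neg, Herm.fix_self hB])
      have hkw : B k w' = 1 := by rw [← hB.symm, hk', map_one]
      obtain ⟨f, hf, hff, hwf⟩ : ∃ f ∈ perp B [v0], B f f = 0 ∧ B w' f = 1 := by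
        refine ⟨k + s • w', Submodule.add_mem _ (mem_perp.2 fun x hx => hk x (Submodule.subset_span hx))
          (Submodule.smul_mem _ _ (mem_perp.2 fun x hx => ?_)), ?_, ?_⟩
        · simp only [List.mem_singleton] at hx
          subst hx; exact hvw'
        · simp only [map_add, map_smul, map_smulₛₗ, LinearMap.add_apply, LinearMap.smul_apply, smul_eq_mul, hkw, hk',
            hts _ hw'W _ hw'W]
          linear_combination hs
        · rw [map_add, map_smul, hk', hts _ hw'W _ hw'W, smul_zero, add_zero]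
      obtain ⟨r, hri, hrd, a, b, hr⟩ := exists_pair_scale hB (hts _ hw'W _ hw'W) hff hwf hδ
      refine ⟨r, hri, hrd, fun x hx => ?_, ?_⟩
      · rw [hr, hts _ hw'W _ hx, mul_zero, zero_smul, add_zero]; exact W.add_mem hx (W.smul_mem _ hw'W)
      · rw [hr, (Herm.eq_zero_comm hB).1 hvw', (Herm.eq_zero_comm hB).1 (mem_perp.1 hf v0 (by simp))]; simp
    · push Not at hw'
      obtain ⟨b, hb, hQb⟩ := exists_aniso_perp hB (w1 := w1) hv0.1 (hts _ hw1 _ hw1) hdim (fun h => by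
        by_cases h0 : w1 = 0
        · exact hw1u (by rw [h0]; simp)
        · exact hw' w1 hw1 h0 h)
      obtain ⟨r, hri, hrd, hr⟩ := exists_preflection hB hQb hδ
      have hw1' : B v0 w1 ≠ 0 := fun h => by
        by_cases h0 : w1 = 0
        · exact hw1u (by rw [h0]; simp)
        · exact hw' w1 hw1 h0 h
      refine ⟨r, hri, hrd, fun x hx => ?_, ?_⟩
      · have hx' : x = (B v0 x / B v0 w1) • w1 := by
          by_contra hne
          refine hw' _ (W.sub_mem hx (W.smul_mem _ hw1)) (sub_ne_zero.2 hne) ?_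
          rw [map_sub, map_smul, smul_eq_mul, div_mul_cancel₀ _ hw1', sub_self]
        have hbx : B b x = 0 := by
          rw [hx', map_smul, (Herm.eq_zero_comm hB).1 (mem_perp.1 hb w1 (by simp)), smul_zero]
        rw [hr, hbx, zero_div, mul_zero, zero_smul, add_zero]; exact hx
      · rw [hr, (Herm.eq_zero_comm hB).1 (mem_perp.1 hb v0 (by simp)), zero_div, mul_zero, zero_smul, add_zero]
  have hki : ∀ x y, B ((t * r) x) ((t * r) y) = B x y := fun x y => by rw [LinearEquiv.mul_apply, LinearEquiv.mul_apply, hti, hri]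
  have hkM : t * r ∈ M := hM _ hki (by
      rw [show (t * r).toLinearMap = t.toLinearMap ∘ₗ r.toLinearMap from rfl, LinearMap.det_comp, hrd]
      exact det_norm hB hti)
    (fun w hw => by rw [LinearEquiv.mul_apply]; exact htW _ (hrW w hw))
  have := map_mem_centres hB hv0 hkM hki
  rwa [LinearEquiv.mul_apply, hrv, htv] at this

end

/-- The maximality statement from dimension 4 on. -/
theorem maximal {F : Type*} [Field F] [Fintype F] (n q : ℕ) (hF : Fintype.card F = q ^ 2) (hn : 4 ≤ n) (W : Submodule F (Fin n → F)) (hW0 : W ≠ ⊥) (hW : Cfsg.Geo.IsTotallySingularFor (Cfsg.hermForm n F q) W) : Cfsg.Geo.IsMaximalIn (Cfsg.GU n F q ⊓ Cfsg.Geo.specialLinear (Fin n) F) (Cfsg.Geo.subspaceStabilizer W ⊓ (Cfsg.GU n F q ⊓ Cfsg.Geo.specialLinear (Fin n) F)) := by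
  classical
  obtain ⟨σ, hσq, hσ, -, -⟩ := exists_powHom hF
  set B := hermB n σ
  have hB : Herm.IsHerm B := hermB_isHerm hσ n
  have hdim : 4 ≤ Module.finrank F (Fin n → F) := by rw [Module.finrank_fin_fun]; exact hn
  have hts : ∀ x ∈ W, ∀ y ∈ W, B x y = 0 := fun x hx y hy => by
    rw [← hermForm_eq hσq]; exact hW y hy x hx
  have hstab : ∀ g : (Fin n → F) ≃ₗ[F] (Fin n → F), (∀ w ∈ W, g w ∈ W) →
      (glEquiv (Fin n) F).symm g ∈ Cfsg.Geo.subspaceStabilizer W := fun g h => by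
    show ∀ v, v ∈ (W : Set (Fin n → F)) ↔ ((glEquiv (Fin n) F).symm g : Matrix.GeneralLinearGroup (Fin n) F).1.mulVec v ∈ (W : Set (Fin n → F))
    intro v
    simp only [symm_mulVec, SetLike.mem_coe]
    refine ⟨h v, fun hv => ?_⟩
    have hmap : W.map g.toLinearMap = W :=
      Submodule.eq_of_le_of_finrank_eq (by rintro _ ⟨w, hw, rfl⟩; exact h w hw) (LinearEquiv.finrank_map_eq _ W)
    rw [← hmap] at hv
    obtain ⟨w, hw, e⟩ := hv
    exact g.injective e ▸ hw
  obtain ⟨w1, hw1, hw10⟩ := W.exists_mem_ne_zero_of_ne_bot hW0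
  refine isMaximalIn_suGL hσ hσq (by omega) _ ?_ fun M hK ⟨g, hgM, hgi, hgK⟩ => ?_
  · obtain ⟨f, -, hff, hwf⟩ := exists_singular_pairing hB [] (by simp only [List.length_nil]; omega) (a := w1)
      (by simpa using hw10) 1
    obtain ⟨c, hc0, hc⟩ := Herm.exists_skew hσ
    refine ⟨f, hff, c, by rw [hc]; ring, fun hk => ?_⟩
    have h1 : Herm.tvU (B := B) hff c w1 ∈ W := by
      have := (hk w1).1 hw1
      change (((glEquiv (Fin n) F).symm _ : Matrix.GeneralLinearGroup (Fin n) F) : Matrix (Fin n) (Fin n) F).mulVec _ ∈ W at this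
      rwa [symm_mulVec] at this
    have hne : B f w1 ≠ 0 := fun e => one_ne_zero (hwf.symm.trans ((Herm.eq_zero_comm hB).1 e))
    rw [Herm.tvU_apply, W.add_mem_iff_right hw1, W.smul_mem_iff (mul_ne_zero hc0 hne)] at h1
    exact one_ne_zero (hwf.symm.trans (hts _ hw1 _ h1))
  · obtain ⟨w0, hw0, hgw⟩ : ∃ w0 ∈ W, g w0 ∉ W := by
      by_contra! hc; exact hgK (hstab g hc)
    exact all_centres hB (by omega) W hts M (fun h hi hd hW => hK h hi hd (hstab h hW)) g hgM hgi hw0 hgw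

end Cfsg.Agent.ClassicalMax.SU4.Isotropic
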