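import Cfsg.Agent.ClassicalMax.SU4.OrthStrict

/-!
An overgroup of the orthogonal subfield group in which the transvections at rational points are rational is that
group: an outside element would give a family of cross ratios.
-/

set_option autoImplicit false
set_option linter.unusedSectionVars false
set_option linter.unusedSimpArgs false
set_option linter.style.haveILetI false

namespace Cfsg.Agent.ClassicalMax.SU4.Sub.Orth

open Module Cfsg.Agent.Classical Cfsg.Agent.ClassicalMax Cfsg.Agent.ClassicalMax.Subfield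

variable {F : Type*} [Field F] [Fintype F] {σ : F →+* F} {F₀ : Subfield F}
  {A : (Fin 4 → F) →ₛₗ[σ] (Fin 4 → F) →ₗ[F] F} {X : Subgroup ((Fin 4 → F) ≃ₗ[F] (Fin 4 → F))}

/-- a rational hyperbolic pair with an orthogonal anisotropic pair -/
structure Pln (F₀ : Subfield F) (A : (Fin 4 → F) →ₛₗ[σ] (Fin 4 → F) →ₗ[F] F) (x y u v : Fin 4 → F) : Prop where
  rx : RV F₀ x
  ry : RV F₀ y
  ru : RV F₀ u
  rv : RV F₀ v
  xx : A x x = 0
  yy : A y y = 0
  xy : A x y = 1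
  yx : A y x = 1
  xu : A x u = 0
  ux : A u x = 0
  xv : A x v = 0
  vx : A v x = 0
  yu : A y u = 0
  uy : A u y = 0
  yv : A y v = 0
  vy : A v y = 0
  uv : A u v = 0
  vu : A v u = 0
  qu : A u u ≠ 0
  qv : A v v ≠ 0

theorem Pln.x0 {x y u v : Fin 4 → F} (hP : Pln F₀ A x y u v) : x ≠ 0 := fun h => by simpa [h] using hP.xy

theorem Pln.y0 {x y u v : Fin 4 → F} (hP : Pln F₀ A x y u v) : y ≠ 0 := fun h => by simpa [h] using hP.xy

theorem Pln.u0 {x y u v : Fin 4 → F} (hP : Pln F₀ A x y u v) : u ≠ 0 := fun h => hP.qu (by simp [h])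

namespace Blk

variable {x y u v : Fin 4 → F} {h h' : (Fin 4 → F) ≃ₗ[F] (Fin 4 → F)} {α β γ δ α' β' γ' δ' : F}

theorem mul (hinv : ∀ a, a ∈ F₀ ↔ σ a = a) (H : Blk F₀ σ X x y u v h α β γ δ) (H' : Blk F₀ σ X x y u v h' α' β' γ' δ') :
    Blk F₀ σ X x y u v (h * h') (α' * α + β' * γ) (α' * β + β' * δ) (γ' * α + δ' * γ) (γ' * β + δ' * δ) := by
  refine ⟨mul_mem H.mem H'.mem, (hinv _).2 ?_, (hinv _).2 ?_, ?_, ?_, ?_, ?_, ?_, ?_, ?_⟩
  · rw [map_add, map_mul, map_mul, (hinv α).1 H.ha, (hinv α').1 H'.ha, H'.hb, H.hc]; ring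
  · rw [map_add, map_mul, map_mul, (hinv δ).1 H.hd, (hinv δ').1 H'.hd, H.hb, H'.hc]; ring
  · rw [map_add, map_mul, map_mul, (hinv δ).1 H.hd, (hinv α').1 H'.ha, H.hb, H'.hb]; ring
  · rw [map_add, map_mul, map_mul, (hinv α).1 H.ha, (hinv δ').1 H'.hd, H'.hc, H.hc]; ring
  · linear_combination (α' * δ' - β' * γ') * H.det + H'.det
  · rw [LinearEquiv.mul_apply, H'.hx, map_add, map_smul, map_smul, H.hx, H.hy]; module
  · rw [LinearEquiv.mul_apply, H'.hy, map_add, map_smul, map_smul, H.hx, H.hy]; module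
  · rw [LinearEquiv.mul_apply, H'.hu, H.hu]
  · rw [LinearEquiv.mul_apply, H'.hv, H.hv]

theorem inv (H : Blk F₀ σ X x y u v h α β γ δ) : Blk F₀ σ X x y u v h⁻¹ δ (-β) (-γ) α := by
  refine ⟨inv_mem H.mem, H.hd, H.ha, by rw [map_neg, H.hb], by rw [map_neg, H.hc], by linear_combination H.det,
    h.injective ?_, h.injective ?_, h.injective ?_, h.injective ?_⟩
  · rw [apply_inv, map_add, map_smul, map_smul, H.hx, H.hy]
    match_scalars
    · linear_combination -H.det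
    · ring
  · rw [apply_inv, map_add, map_smul, map_smul, H.hx, H.hy]
    match_scalars
    · linear_combination -H.det
    · ring
  · rw [apply_inv, H.hu]
  · rw [apply_inv, H.hv]

end Blk

namespace Real

variable {ξ : F} (hR : Real F₀ A X ξ)
include hR

theorem skew_eq_zero {a : F} (ha : a ∈ F₀) (hs : σ a = -a) : a = 0 := by
  rw [(hR.fix a).1 ha] at hs
  exact (mul_eq_zero.1 (show 2 * a = 0 by linear_combination hs)).resolve_left hR.two

theorem skew_div {a : F} (hs : σ a = -a) : a / ξ ∈ F₀ :=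
  (hR.fix _).2 (by rw [map_div₀, hs, hR.xs, neg_div_neg_eq])

theorem exists_obasis : ∃ a b c d, OBasis F₀ A a b c d := by
  have hO := hR.toOver
  obtain ⟨a, ha, qa⟩ : ∃ a, RV F₀ a ∧ A a a ≠ 0 := by
    by_contra! hc
    have h0 : ∀ i j : Fin 4, A (Pi.single i (1 : F)) (Pi.single j 1) = 0 := fun i j => by
      have h1 := hc _ ((rv_single i).add (rv_single j))
      rw [map_add, map_add, LinearMap.add_apply, LinearMap.add_apply, hc _ (rv_single i), hc _ (rv_single j),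
        ← hR.comm (rv_single i) (rv_single j), zero_add, add_zero, ← two_mul] at h1
      exact (mul_eq_zero.1 h1).resolve_left hR.two
    have : (Pi.single 0 1 : Fin 4 → F) = 0 := hO.eq_zero_of fun i => h0 i 0
    simpa using congrFun this 0
  obtain ⟨b, hb, hab, qb⟩ : ∃ b, RV F₀ b ∧ A a b = 0 ∧ A b b ≠ 0 := by
    obtain ⟨u, hu, hup, hu0⟩ := exists_avoid (F₀ := F₀) ![A a]
      (by intro i; fin_cases i; intro j; exact hO.form _ _ ha (rv_single j))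
      (![] : Fin 0 → Fin 4 → F) (fun j => j.elim0) (by simp)
    have hau : A a u = 0 := hup 0
    have hu0' : u ≠ 0 := fun e => hu0 (by rw [e]; exact zero_mem _)
    by_cases huu : A u u = 0
    swap
    · exact ⟨u, hu, hau, huu⟩
    obtain ⟨f, hf, -, huf, -⟩ := hO.partner hu huu hu0'
    set w := f - (A a f / A a a) • a with hw
    have hwR : RV F₀ w := hf.sub (ha.smul (F₀.div_mem (hO.form _ _ ha hf) (hO.form _ _ ha ha)))
    have haw : A a w = 0 := by simp [hw, qa]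
    have huw : A u w = 1 := by simp [hw, huf, hO.swap hau]
    by_cases hww : A w w = 0
    · refine ⟨u + w, hu.add hwR, by simp [hau, haw], fun h => hR.two ?_⟩
      simp [huu, hww, huw, ← hR.comm hu hwR] at h
      linear_combination h
    · exact ⟨w, hwR, haw, hww⟩
  obtain ⟨c, d, h⟩ := hR.exists_basis ha hb hab qa qb
  exact ⟨a, b, c, d, h⟩

theorem exists_sing : ∃ e, RV F₀ e ∧ e ≠ 0 ∧ A e e = 0 := by
  have hO := hR.toOver
  obtain ⟨a, b, c, d, hB⟩ := hR.exists_obasis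
  obtain ⟨s, hs, t, ht, hst⟩ := hR.conic (hO.form _ _ hB.ra hB.ra) hB.qa (hO.form _ _ hB.rb hB.rb) hB.qb
    (F₀.neg_mem (hO.form _ _ hB.rc hB.rc))
  refine ⟨s • a + t • b + c, ((hB.ra.smul hs).add (hB.rb.smul ht)).add hB.rc, fun h => hB.qc ?_, ?_⟩
  · have := congrArg (A c) h
    simpa [hB.ca, hB.cb] using this
  · simp [hB.ab, hB.ba, hB.ac, hB.ca, hB.bc, hB.cb, (hR.fix _).1 hs, (hR.fix _).1 ht]
    linear_combination hst

variable {x y u v : Fin 4 → F}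

/-- the torus of the plane -/
theorem blk_torus (hP : Pln F₀ A x y u v) {q : F} (hq : q ∈ F₀) (hq0 : q ≠ 0) :
    ∃ D, Blk F₀ σ X x y u v D q 0 0 q⁻¹ := by
  obtain ⟨D, hD, hDx, hDy, hD0⟩ := hR.torus hP.rx hP.ry hP.xx hP.yy hP.xy hq hq0
  exact ⟨D, hD, hq, F₀.inv_mem hq, by simp, by simp, by rw [mul_inv_cancel₀ hq0, zero_mul, sub_zero],
    by rw [hDx, zero_smul, add_zero], by rw [hDy, zero_smul, zero_add], hD0 _ hP.xu hP.yu, hD0 _ hP.xv hP.yv⟩

theorem blk_rat (hS : Strict F₀ A X) (hP : Pln F₀ A x y u v) {h : (Fin 4 → F) ≃ₗ[F] (Fin 4 → F)} {α β γ δ : F}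
    (H : Blk F₀ σ X x y u v h α β γ δ) (hr : Ratty F₀ h) : β = 0 ∧ γ = 0 := by
  have hrat := Ratty_rat_of_one hr hP.ru hP.u0 H.hu hP.ru
  have h1 := hR.form _ _ hP.rx (hrat _ hP.rx)
  have h2 := hR.form _ _ hP.ry (hrat _ hP.ry)
  rw [H.hx] at h1
  rw [H.hy] at h2
  simp [hP.xx, hP.xy] at h1
  simp [hP.yy, hP.yx] at h2
  exact ⟨hR.skew_eq_zero h1 H.hb, hR.skew_eq_zero h2 H.hc⟩

theorem blk_entries (hS : Strict F₀ A X) (hP : Pln F₀ A x y u v) {h : (Fin 4 → F) ≃ₗ[F] (Fin 4 → F)} {α β γ δ : F}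
    (H : Blk F₀ σ X x y u v h α β γ δ) : α ≠ 0 ∧ δ ≠ 0 ∧ (β = 0 ↔ γ = 0) := by
  have key : ∀ {p r : Fin 4 → F}, RV F₀ p → p ≠ 0 → A p p = 0 → RV F₀ r → h p ∈ F ∙ r → β = 0 ∧ γ = 0 :=
    fun hp hp0 hpp hr hm => hR.blk_rat hS hP H (hR.toOver.ratty_of_point hS H.mem hp hp0 hpp hr hm)
  refine ⟨fun h0 => ?_, fun h0 => ?_, fun h0 => ?_, fun h0 => ?_⟩
  · obtain ⟨hb, hc⟩ := key hP.rx hP.x0 hP.xx hP.ry (Submodule.mem_span_singleton.2 ⟨β, by rw [H.hx, h0, zero_smul, zero_add]⟩)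
    simpa [h0, hb] using H.det
  · obtain ⟨hb, hc⟩ := key hP.ry hP.y0 hP.yy hP.rx (Submodule.mem_span_singleton.2 ⟨γ, by rw [H.hy, h0, zero_smul, add_zero]⟩)
    simpa [h0, hb] using H.det
  · exact (key hP.rx hP.x0 hP.xx hP.rx (Submodule.mem_span_singleton.2 ⟨α, by rw [H.hx, h0, zero_smul, add_zero]⟩)).2
  · exact (key hP.ry hP.y0 hP.yy hP.ry (Submodule.mem_span_singleton.2 ⟨δ, by rw [H.hy, h0, zero_smul, zero_add]⟩)).1

/-- comparison of two block elements through the torus -/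
theorem compare (hS : Strict F₀ A X) (hP : Pln F₀ A x y u v) {h h' : (Fin 4 → F) ≃ₗ[F] (Fin 4 → F)}
    {α β γ δ α' β' γ' δ' : F} (H : Blk F₀ σ X x y u v h α β γ δ) (H' : Blk F₀ σ X x y u v h' α' β' γ' δ')
    {q : F} (hq : q ∈ F₀) (hq0 : q ≠ 0) :
    (α' * β = q * q * (β' * α) → q * q * (δ' * γ) = γ' * δ) ∧ q * q * (β' * γ) ≠ α' * δ := by
  obtain ⟨D, HD⟩ := hR.blk_torus hP hq hq0
  obtain ⟨-, hd, hbc⟩ := hR.blk_entries hS hP (Blk.mul hR.fix (Blk.mul hR.fix H'.inv HD) H)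
  have e : q * q⁻¹ = 1 := mul_inv_cancel₀ hq0
  refine ⟨fun h1 => ?_, fun h1 => hd ?_⟩
  · have h2 := hbc.1 (by linear_combination q⁻¹ * h1 + (q * β' * α) * e)
    linear_combination q * h2 + γ' * δ * e
  · linear_combination (-q⁻¹) * h1 + (q * β' * γ) * e

/-- a square ratio does not occur -/
theorem ratio_nsq (hS : Strict F₀ A X) (hP : Pln F₀ A x y u v) {h : (Fin 4 → F) ≃ₗ[F] (Fin 4 → F)} {α β γ δ : F}
    (H : Blk F₀ σ X x y u v h α β γ δ) {q : F} (hq : q ∈ F₀) (hq0 : q ≠ 0) : q * q * (β * γ) ≠ α * δ :=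
  (hR.compare hS hP H H hq hq0).2

/-- the composition rule -/
theorem ratio_step (hS : Strict F₀ A X) (hP : Pln F₀ A x y u v) {h : (Fin 4 → F) ≃ₗ[F] (Fin 4 → F)} {α β γ δ : F}
    (H : Blk F₀ σ X x y u v h α β γ δ) (hβ : β ≠ 0) (hγ : γ ≠ 0) {c : F} (hc : c * (β * γ) = α * δ) {k : F} (hk : k ∈ F₀)
    (hk0 : k ≠ 0) {T : F} (hT : T = k * k * (β * γ)) (h1 : 1 + c * T ≠ 0) :
    1 + T ≠ 0 ∧ (∃ (h' : (Fin 4 → F) ≃ₗ[F] (Fin 4 → F)) (α' β' γ' δ' : F), Blk F₀ σ X x y u v h' α' β' γ' δ' ∧ β' ≠ 0 ∧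
        γ' ≠ 0 ∧ (1 + T) * (1 + c * c * T) / ((1 + c * T) * (1 + c * T)) * (β' * γ') = α' * δ') ∧
      (∀ s ∈ F₀, s * s = (1 + c * T) / (1 + T) → (1 + T) * (1 + c * c * T) / ((1 + c * T) * (1 + c * T)) = c) ∧
      ∀ s ∈ F₀, s * s ≠ (1 + c * T) / (1 + T) / c := by
  obtain ⟨hα, hδ, -⟩ := hR.blk_entries hS hP H
  set k' := (k * α)⁻¹ with hk'
  have hk'0 : k' ≠ 0 := inv_ne_zero (mul_ne_zero hk0 hα)
  obtain ⟨D, HD⟩ := hR.blk_torus hP (F₀.inv_mem (F₀.mul_mem hk H.ha)) (inv_ne_zero (mul_ne_zero hk0 hα))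
  have H2 := Blk.mul hR.fix (Blk.mul hR.fix H HD) H
  obtain ⟨ha2, hd2, -⟩ := hR.blk_entries hS hP H2
  rw [← hk'] at H2 ha2 hd2
  have hW : β * γ ≠ 0 := mul_ne_zero hβ hγ
  have hc0 : c ≠ 0 := fun e => mul_ne_zero hα hδ (by rw [← hc, e, zero_mul])
  have ek : k * α * k' = 1 := mul_inv_cancel₀ (mul_ne_zero hk0 hα)
  have ek' : k'⁻¹ = k * α := by rw [hk', inv_inv]
  set a₂ := α * (k' * α + 0 * γ) + β * (0 * α + k'⁻¹ * γ) with ha₂
  set b₂ := α * (k' * β + 0 * δ) + β * (0 * β + k'⁻¹ * δ) with hb₂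
  set c₂ := γ * (k' * α + 0 * γ) + δ * (0 * α + k'⁻¹ * γ) with hc₂
  set d₂ := γ * (k' * β + 0 * δ) + δ * (0 * β + k'⁻¹ * δ) with hd₂
  have e1 : a₂ = k' * (α * α) * (1 + T) := by
    rw [ha₂, hT, ek']; linear_combination -(α * k * β * γ) * ek
  have e2 : b₂ = β * (k' * α) * (1 + c * T) := by
    rw [hb₂, hT, ek']; linear_combination -(β * δ * k * α) * ek - β * k' * α * k * k * hc
  have e3 : c₂ = γ * (k' * α) * (1 + c * T) := by
    rw [hc₂, hT, ek']; linear_combination -(γ * δ * k * α) * ek - γ * k' * α * k * k * hc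
  have e4 : d₂ = k' * (β * γ) * (1 + c * c * T) := by
    rw [hd₂, hT, ek']
    linear_combination -(δ * δ * k * α) * ek - k' * k * k * (c * (β * γ) + α * δ) * hc
  have hne : 1 + T ≠ 0 := fun e => ha2 (by rw [e1, e, mul_zero])
  have hkey := fun (s : F) (hs : s ∈ F₀) (hs0 : s ≠ 0) => hR.compare hS hP H H2 (F₀.inv_mem hs) (inv_ne_zero hs0)
  refine ⟨hne, ⟨_, a₂, b₂, c₂, d₂, H2, ?_, ?_, ?_⟩, fun s hs hss => ?_, fun s hs hss => ?_⟩
  · rw [e2]; exact mul_ne_zero (mul_ne_zero hβ (mul_ne_zero hk'0 hα)) h1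
  · rw [e3]; exact mul_ne_zero (mul_ne_zero hγ (mul_ne_zero hk'0 hα)) h1
  · rw [e1, e2, e3, e4, div_mul_eq_mul_div, div_eq_iff (mul_ne_zero h1 h1)]; ring
  · have hs0 : s ≠ 0 := fun e => div_ne_zero h1 hne (by rw [← hss, e, mul_zero])
    have h2 := (hkey s hs hs0).1 (by
      rw [e1, e2, ← mul_inv, hss, inv_div, div_mul_eq_mul_div, eq_div_iff h1]; ring)
    rw [e3, e4, ← mul_inv, hss, inv_div, div_mul_eq_mul_div, div_eq_iff h1] at h2
    rw [div_eq_iff (mul_ne_zero h1 h1)]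
    refine mul_right_cancel₀ (mul_ne_zero hW (mul_ne_zero hk'0 hγ)) ?_
    have hγα : α ≠ 0 := hα
    refine mul_left_cancel₀ hγα ?_
    linear_combination α * h2 - α * (1 + c * T) * (1 + c * T) * k' * γ * hc
  · have hs0 : s ≠ 0 := fun e => div_ne_zero (div_ne_zero h1 hne) hc0 (by rw [← hss, e, mul_zero])
    refine (hkey s hs hs0).2 ?_
    rw [e1, e2, ← mul_inv, hss, inv_div, div_div_eq_mul_div, div_mul_eq_mul_div, div_eq_iff h1]
    linear_combination k' * α * (1 + T) * (1 + c * T) * hc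

/-- the discriminant test -/
theorem ratio_crit (hS : Strict F₀ A X) (hP : Pln F₀ A x y u v) {h : (Fin 4 → F) ≃ₗ[F] (Fin 4 → F)} {α β γ δ : F}
    (H : Blk F₀ σ X x y u v h α β γ δ) (hβ : β ≠ 0) (hγ : γ ≠ 0) {c : F} (hc : c * (β * γ) = α * δ) {t : F} (ht : t ∈ F₀)
    (ht0 : t ≠ 0) : ∃ r ∈ F₀, r ≠ 0 ∧ r * r = (c * (ξ * ξ) * (t * t) + 1) ^ 2 - 4 * (ξ * ξ * (t * t)) := by
  have hO := hR.toOver
  obtain ⟨hα, hδ, -⟩ := hR.blk_entries hS hP H
  set s := t * ξ * δ / β with hs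
  have hsF : s ∈ F₀ := (hR.fix _).2 (by
    rw [hs, map_div₀, map_mul, map_mul, (hR.fix t).1 ht, (hR.fix δ).1 H.hd, hR.xs, H.hb]
    field_simp)
  obtain ⟨s₁, hs₁, s₂, hs₂, hw⟩ := hR.conic (hO.form _ _ hP.ru hP.ru) hP.qu (hO.form _ _ hP.rv hP.rv) hP.qv
    (F₀.neg_mem (F₀.mul_mem hR.two_mem hsF))
  set w := s₁ • u + s₂ • v with hwd
  have hwR : RV F₀ w := (hP.ru.smul hs₁).add (hP.rv.smul hs₂)
  have hxw : A x w = 0 := by simp [hwd, hP.xu, hP.xv]
  have hyw : A y w = 0 := by simp [hwd, hP.yu, hP.yv]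
  have hwx := hO.swap hxw
  have hwy := hO.swap hyw
  have fx := fun {z : F} (hz : z ∈ F₀) => (hR.fix z).1 hz
  set z := s • x + y + w with hz
  have hzz : A z z = 0 := by
    simp [hz, hP.xx, hP.yy, hP.xy, hP.yx, hxw, hyw, hwx, hwy, fx hsF]
    simp [hwd, hP.uv, hP.vu, fx hs₁, fx hs₂]
    linear_combination hw
  have hzR : RV F₀ z := ((hP.rx.smul hsF).add hP.ry).add hwR
  have hz0 : z ≠ 0 := fun e => by
    have := congrArg (A x) e
    simp [hz, hP.xx, hP.xy, hxw] at this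
  set b := (γ / ξ) • x + (s * β / ξ) • y with hb
  set a := (s * α) • x + δ • y + w with ha
  have m1 := hR.skew_div H.hc
  have m2 : s * β / ξ ∈ F₀ := by rw [mul_div_assoc]; exact F₀.mul_mem hsF (hR.skew_div H.hb)
  have hbR : RV F₀ b := (hP.rx.smul m1).add (hP.ry.smul m2)
  have haR : RV F₀ a := ((hP.rx.smul (F₀.mul_mem hsF H.ha)).add (hP.ry.smul H.hd)).add hwR
  have hhw : h w = w := by rw [hwd, map_add, map_smul, map_smul, H.hu, H.hv]
  have hhz : h z = a + ξ • b := by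
    rw [hz, map_add, map_add, map_smul, H.hx, H.hy, hhw, ha, hb, smul_add (ξ : F), smul_smul, smul_smul,
      mul_div_cancel₀ _ hR.x0, mul_div_cancel₀ _ hR.x0]
    module
  obtain ⟨r, hr, hr0, hrr⟩ := hR.disc hS H.mem (fun hh => hβ (hR.blk_rat hS hP H hh).1) hzR hz0 hzz haR hbR hhz
  have hab : A a b = (s * s * α * β + δ * γ) / ξ := by
    simp only [ha, hb, map_add, map_smul, map_smulₛₗ, LinearMap.add_apply, LinearMap.smul_apply, smul_eq_mul, hP.xx,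
      hP.yy, hP.xy, hP.yx, hwx, hwy, fx (F₀.mul_mem hsF H.ha), fx H.hd]
    ring
  have hbb : A b b = 2 * (s * β * γ) / (ξ * ξ) := by
    simp only [hb, map_add, map_smul, map_smulₛₗ, LinearMap.add_apply, LinearMap.smul_apply, smul_eq_mul, hP.xx,
      hP.yy, hP.xy, hP.yx, fx m1, fx m2]
    ring
  rw [hab, hbb, hs] at hrr
  refine ⟨r * ξ / (γ * δ), (hR.fix _).2 ?_, div_ne_zero (mul_ne_zero hr0 hR.x0) (mul_ne_zero hγ hδ), ?_⟩
  · rw [map_div₀, map_mul, map_mul, fx hr, fx H.hd, hR.xs, H.hc]; ring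
  have hx0 := hR.x0
  have hcc : c = α * δ / (β * γ) := by rw [← hc, mul_div_cancel_right₀ _ (mul_ne_zero hβ hγ)]
  rw [hcc]
  field_simp at hrr ⊢
  linear_combination hrr

/-- there is no outside element -/
theorem strict_false (hS : Strict F₀ A X) (hout : ∃ g ∈ X, ¬ Ratty F₀ g) : False := by
  classical
  have hO := hR.toOver
  obtain ⟨g, hg, hgr⟩ := hout
  have hgi := hO.iso hg
  obtain ⟨e, he, he0, hee⟩ := hR.exists_sing
  obtain ⟨f, a, b, c, d, hG⟩ := hR.exists_good hS hg hgr he he0 hee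
  obtain ⟨s, hs, t, ht, hs0, ht0, hst⟩ := hR.plane_hyperbolic hS hg hgr he he0 hee hG
  have hB := hG.basis
  have fs := (hR.fix s).1 hs
  have ft := (hR.fix t).1 ht
  have qa := hO.form _ _ hB.ra hB.ra
  set m := (2 * (s * s) * A a a)⁻¹ with hm
  have hmm : m * (2 * (s * s) * A a a) = 1 :=
    inv_mul_cancel₀ (mul_ne_zero (mul_ne_zero hR.two (mul_ne_zero hs0 hs0)) hB.qa)
  have hmF : m ∈ F₀ := F₀.inv_mem (F₀.mul_mem (F₀.mul_mem hR.two_mem (F₀.mul_mem hs hs)) qa)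
  have fm := (hR.fix m).1 hmF
  set x := s • a + t • b with hx
  set y := m • (s • a - t • b) with hy
  have hP : Pln F₀ A x y c d := by
    refine ⟨(hB.ra.smul hs).add (hB.rb.smul ht), ((hB.ra.smul hs).sub (hB.rb.smul ht)).smul hmF, hB.rc, hB.rd,
      ?_, ?_, ?_, ?_, ?_, ?_, ?_, ?_, ?_, ?_, ?_, ?_, hB.cd, hB.dc, hB.qc, hB.qd⟩ <;>
      simp [hx, hy, hB.ab, hB.ba, hB.ac, hB.ca, hB.ad, hB.da, hB.bc, hB.cb, hB.bd, hB.db, fs, ft, fm]
    · linear_combination hst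
    · exact Or.inr (by linear_combination hst)
    · linear_combination hmm - m * hst
    · linear_combination hmm - m * hst
  have hdec : ∀ z, A c z = 0 → A d z = 0 → z = A y z • x + A x z • y := fun z h1 h2 => by
    conv_lhs => rw [hB.decomp z]
    rw [h1, h2, zero_div, zero_div, zero_smul, zero_smul, add_zero, add_zero]
    have hbb : A b b = -(A a a * (s * s)) / (t * t) := by field_simp; linear_combination hst
    simp only [hx, hy, map_add, map_sub, map_smulₛₗ, LinearMap.add_apply, LinearMap.sub_apply, LinearMap.smul_apply,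
      smul_eq_mul, map_mul, fs, ft, fm, smul_add, smul_sub, smul_smul]
    have hqa := hB.qa
    have h2' := hR.two
    match_scalars
    · rw [hm]; field_simp; ring
    · rw [hm, hbb]; field_simp; ring
  clear_value x y
  -- the moved pair
  have hirr : ∀ {r : Fin 4 → F}, RV F₀ r → r ≠ 0 → A r r = 0 → ∀ (k : F) (w : Fin 4 → F), RV F₀ w → g r ≠ k • w :=
    fun hr hr0 hrr k w hw h => hO.irrational hS hg hgr hr hr0 hrr w hw (Submodule.mem_span_singleton.2 ⟨k, h.symm⟩)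
  have hf0 : f ≠ 0 := fun h => by simpa [h] using hG.ef
  have hpt : ∀ {r : Fin 4 → F}, RV F₀ r → r ≠ 0 → A r r = 0 → A c (g r) = 0 → A d (g r) = 0 →
      ∃ p τ : F, p ≠ 0 ∧ τ ≠ 0 ∧ σ τ = -τ ∧ g r = p • (x + τ • y) := fun {r} hr hr0 hrr h1 h2 => by
    have hd := hdec _ h1 h2
    set p₁ := A y (g r)
    set p₂ := A x (g r)
    have n1 : p₁ ≠ 0 := fun h => hirr hr hr0 hrr p₂ y hP.ry (by rw [hd, h, zero_smul, zero_add])
    have n2 : p₂ ≠ 0 := fun h => hirr hr hr0 hrr p₁ x hP.rx (by rw [hd, h, zero_smul, add_zero])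
    refine ⟨p₁, p₂ / p₁, n1, div_ne_zero n2 n1, ?_, by rw [hd, smul_add, smul_smul, mul_div_cancel₀ _ n1]⟩
    have h0 := hgi r r
    rw [hrr, hd] at h0
    simp [hP.xx, hP.yy, hP.xy, hP.yx] at h0
    rw [map_div₀, ← neg_div, div_eq_div_iff ((map_ne_zero σ).2 n1) n1]
    linear_combination h0
  obtain ⟨p, τ₀, hp, hτ₀, hτ₀s, hge⟩ := hpt he he0 hee hG.ec hG.ed
  obtain ⟨p', τ₁, hp', hτ₁, hτ₁s, hgf⟩ := hpt hG.rf hf0 hG.ff hG.fc hG.fd
  have hne : τ₁ - τ₀ ≠ 0 := fun h => by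
    have h1 := hgi e f
    rw [hG.ef, hge, hgf, sub_eq_zero.1 h] at h1
    simp [hP.xx, hP.yy, hP.xy, hP.yx, hτ₀s] at h1
    exact one_ne_zero (α := F) (by linear_combination -h1)
  obtain ⟨k, hk, hk0, hk1⟩ := hR.exists_k
  have fk := (hR.fix k).1 hk
  obtain ⟨D, hDX, hDe, hDf, hD0⟩ := hR.torus he hG.rf hee hG.ff hG.ef hk hk0
  set h := g * D * g⁻¹ with hh
  have hhX : h ∈ X := mul_mem (mul_mem hg hDX) (inv_mem hg)
  have hfix : ∀ z, A z (g e) = 0 → A z (g f) = 0 → h z = z := fun z h1 h2 => by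
    conv_lhs => rw [← apply_inv g z]
    rw [hh, conj_apply, hD0 _ (hO.swap (by rwa [← hgi, apply_inv])) (hO.swap (by rwa [← hgi, apply_inv])), apply_inv]
  have h0 : h (x + τ₀ • y) = k • (x + τ₀ • y) := by
    have : h (g e) = k • g e := by rw [hh, conj_apply, hDe, map_smul]
    rw [hge, map_smul, smul_comm k] at this
    exact (smul_right_injective _ hp) this
  have h1 : h (x + τ₁ • y) = k⁻¹ • (x + τ₁ • y) := by
    have : h (g f) = k⁻¹ • g f := by rw [hh, conj_apply, hDf, map_smul]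
    rw [hgf, map_smul, smul_comm k⁻¹] at this
    exact (smul_right_injective _ hp') this
  rw [map_add, map_smul] at h0 h1
  set α := (k * τ₁ - τ₀ / k) / (τ₁ - τ₀) with hα
  set β := τ₀ * τ₁ * (k - k⁻¹) / (τ₁ - τ₀) with hβ
  set γ := (k⁻¹ - k) / (τ₁ - τ₀) with hγ
  set δ := (τ₁ / k - k * τ₀) / (τ₁ - τ₀) with hδ
  have hhy : h y = γ • x + δ • y := by
    have e1 : (τ₁ - τ₀) • h y = (k⁻¹ - k) • x + (τ₁ / k - k * τ₀) • y := by
      linear_combination (norm := module) h1 - h0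
    rw [← inv_smul_smul₀ hne (h y), e1, smul_add, smul_smul, smul_smul, ← div_eq_inv_mul, ← div_eq_inv_mul]
  have hhx : h x = α • x + β • y := by
    rw [show h x = k • (x + τ₀ • y) - τ₀ • h y by rw [← h0]; abel, hhy, hα, hβ, hγ, hδ]
    match_scalars <;> field_simp <;> ring
  have hkk : k - k⁻¹ ≠ 0 := fun e => hk1 (by linear_combination k * e + mul_inv_cancel₀ hk0)
  have hB0 : β ≠ 0 := div_ne_zero (mul_ne_zero (mul_ne_zero hτ₀ hτ₁) hkk) hne
  have hC0 : γ ≠ 0 := div_ne_zero (fun e => hkk (by linear_combination -e)) hne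
  have hdi : σ (τ₁ - τ₀)⁻¹ = -(τ₁ - τ₀)⁻¹ := by
    rw [map_inv₀, map_sub, hτ₀s, hτ₁s, neg_sub_neg, ← neg_sub τ₁, inv_neg]
  have H : Blk F₀ σ X x y c d h α β γ δ := by
    refine ⟨hhX, (hR.fix _).2 ?_, (hR.fix _).2 ?_, ?_, ?_, ?_, hhx, hhy, hfix c hG.ec hG.fc, hfix d hG.ed hG.fd⟩
    · rw [hα, div_eq_mul_inv _ (τ₁ - τ₀), map_mul, hdi, map_sub, map_mul, map_div₀, fk, hτ₀s, hτ₁s]; ring
    · rw [hδ, div_eq_mul_inv _ (τ₁ - τ₀), map_mul, hdi, map_sub, map_div₀, map_mul, fk, hτ₀s, hτ₁s]; ring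
    · rw [hβ, div_eq_mul_inv _ (τ₁ - τ₀), map_mul, hdi, map_mul, map_mul, map_sub, map_inv₀, fk, hτ₀s, hτ₁s]; ring
    · rw [hγ, div_eq_mul_inv _ (τ₁ - τ₀), map_mul, hdi, map_sub, map_inv₀, fk]; ring
    · rw [hα, hβ, hγ, hδ]; field_simp; ring
  -- the family
  haveI : Fintype F₀ := Fintype.ofFinite F₀
  let Cr : F₀ → Prop := fun c' => ∃ (h' : (Fin 4 → F) ≃ₗ[F] (Fin 4 → F)) (α' β' γ' δ' : F),
    Blk F₀ σ X x y c d h' α' β' γ' δ' ∧ β' ≠ 0 ∧ γ' ≠ 0 ∧ (c' : F) * (β' * γ') = α' * δ'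
  have hfam : OrthArith.Family (⟨ξ * ξ, hR.sq_mem⟩ : F₀) Cr := by
    constructor
    · rintro ⟨r, hr⟩
      exact hR.nsq r.2 (congrArg Subtype.val hr).symm
    · rintro c' ⟨h', α', β', γ', δ', H', hb', hc', e'⟩
      obtain ⟨ha', hd', -⟩ := hR.blk_entries hS hP H'
      refine ⟨fun h0 => mul_ne_zero ha' hd' (by rw [← e', h0]; simp), fun h0 => ?_⟩
      rw [h0] at e'
      simp at e'
      exact one_ne_zero (α := F) (by linear_combination -H'.det - e')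
    · rintro c' ⟨h', α', β', γ', δ', H', hb', hc', e'⟩ ⟨r, rfl⟩
      obtain ⟨ha', hd', -⟩ := hR.blk_entries hS hP H'
      refine absurd e' (hR.ratio_nsq hS hP H' r.2 fun h0 => mul_ne_zero ha' hd' ?_)
      rw [← e']
      simp [h0]
    · rintro c' ⟨h', α', β', γ', δ', H', hb', hc', e'⟩ v hv
      obtain ⟨r, hr, hr0, hrr⟩ := hR.ratio_crit hS hP H' hb' hc' e' v.2 (fun h0 => hv (Subtype.ext h0))
      exact ⟨⟨r, hr⟩, fun h0 => hr0 (congrArg Subtype.val h0), Subtype.ext (by push_cast; exact hrr)⟩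
    · rintro c' ⟨h', α', β', γ', δ', H', hb', hc', e'⟩ k hk' T hT
      by_cases h1 : 1 + c' * T = 0
      · exact Or.inl h1
      have hW : (c' : F) - 1 = (β' * γ')⁻¹ := by
        refine eq_inv_of_mul_eq_one_left ?_
        linear_combination e' + H'.det
      obtain ⟨hne', hC, hs1, hs2⟩ := hR.ratio_step hS hP H' hb' hc' e' k.2 (fun h0 => hk' (Subtype.ext h0))
        (T := (T : F)) (by rw [hT]; push_cast; rw [hW, div_inv_eq_mul]) (fun h0 => h1 (Subtype.ext (by push_cast; exact h0)))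
      refine Or.inr (Or.inr ⟨fun h0 => hne' (by simpa using congrArg Subtype.val h0), ?_, ?_, ?_⟩)
      · show ∃ _, _
        push_cast
        exact hC
      · rintro ⟨r, hr⟩
        exact Subtype.ext (by push_cast; exact hs1 r r.2 (by simpa using (congrArg Subtype.val hr).symm))
      · rintro ⟨r, hr⟩
        exact absurd (by simpa using (congrArg Subtype.val hr).symm) (hs2 r r.2)
  refine OrthArith.no_family (fun h2 => hR.two ?_) ?_ hfam (c := ⟨α * δ / (β * γ),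
    F₀.div_mem (F₀.mul_mem H.ha H.hd) ((hR.fix _).2 (by rw [map_mul, H.hb, H.hc, neg_mul_neg]))⟩)
    ⟨h, α, β, γ, δ, H, hB0, hC0, div_mul_cancel₀ _ (mul_ne_zero hB0 hC0)⟩
  · exact congrArg Subtype.val h2
  · rw [← Nat.card_eq_fintype_card]; exact hR.five

end Real

end Cfsg.Agent.ClassicalMax.SU4.Sub.Orth
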