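import Cfsg.Agent.ClassicalMax.SU4.OrthFamily

/-!
The orthogonal subfield groups are maximal in the four-dimensional special unitary group in odd characteristic.
-/

set_option autoImplicit false
set_option linter.unusedSectionVars false
set_option linter.unusedSimpArgs false
set_option linter.style.haveILetI false

namespace Cfsg.Agent.ClassicalMax.SU4.Sub.Orth

open Module Cfsg.Agent.Classical Cfsg.Agent.ClassicalMax Cfsg.Agent.ClassicalMax.Subfield

variable {F : Type*} [Field F] [Fintype F] {σ : F →+* F} {F₀ : Subfield F}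
  {A : (Fin 4 → F) →ₛₗ[σ] (Fin 4 → F) →ₗ[F] F} {X : Subgroup ((Fin 4 → F) ≃ₗ[F] (Fin 4 → F))}

namespace Real

variable {ξ : F} (hR : Real F₀ A X ξ)
include hR

/-- all rational isotropic vectors are centres -/
theorem rat_centres (hout : ∃ g ∈ X, ¬ Ratty F₀ g) {u : Fin 4 → F} (hu : RV F₀ u) (huu : A u u = 0) :
    u ∈ Unitary.centres A X := by
  classical
  have hO := hR.toOver
  have hA := hO.herm
  obtain ⟨v, c, hv, hv0, hvv, hc, hcX, hcF⟩ : ∃ (v : Fin 4 → F) (c : F), RV F₀ v ∧ v ≠ 0 ∧ A v v = 0 ∧ c + σ c = 0 ∧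
      Tv A v c ∈ X ∧ c ∉ F₀ := by
    by_contra hno
    push Not at hno
    exact hR.strict_false (fun v c hv hv0 hvv hc hcX => hno v c hv hv0 hvv hc hcX) hout
  have hc0 : c ≠ 0 := fun h => hcF (by rw [h]; exact F₀.zero_mem)
  have fx := fun {z : F} (hz : z ∈ F₀) => (hR.fix z).1 hz
  -- the full group at the first point
  obtain ⟨f, hf, hff, hvf, -⟩ := hO.partner hv hvv hv0
  have hsq : ∀ x ∈ F₀, Tv A v (c * (x * x)) ∈ X := fun x hx => by
    by_cases hx0 : x = 0
    · rw [hx0, mul_zero, mul_zero, Tv_zero hvv]; exact one_mem _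
    obtain ⟨s, hs, hsv, -, -⟩ := hR.torus hv hf hvv hff hvf hx hx0
    have := hO.conj_Tv_mem hs hvv hcX
    rwa [hsv, Tv_smul hvv, fx hx] at this
  have hvC : v ∈ Unitary.centres A X := ⟨hvv, fun hv' c' hc' => by
    have hr : c' / c ∈ F₀ := (hR.fix _).2 (by
      rw [map_div₀, eq_neg_of_add_eq_zero_right hc', eq_neg_of_add_eq_zero_right hc, neg_div_neg_eq])
    obtain ⟨x, hx, y, hy, hxy⟩ := hR.conic F₀.one_mem one_ne_zero F₀.one_mem one_ne_zero hr
    have h1 := mul_mem (hsq x hx) (hsq y hy)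
    rw [← Tv_add hvv] at h1
    rw [← Tv_eq hv']
    convert h1 using 2
    rw [one_mul, one_mul, eq_div_iff hc0] at hxy
    linear_combination -hxy⟩
  -- transport
  have step : ∀ {v u : Fin 4 → F}, RV F₀ v → RV F₀ u → A v v = 0 → A u u = 0 → A v u ≠ 0 →
      v ∈ Unitary.centres A X → u ∈ Unitary.centres A X := by
    intro v u hv hu hvv huu hne hvC
    have hr := hO.form _ _ hv hu
    set f := (A v u)⁻¹ • u with hf
    have hfR : RV F₀ f := hu.smul (F₀.inv_mem hr)
    have hff : A f f = 0 := by simp [hf, huu]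
    have hvf : A v f = 1 := by simp [hf, hne]
    have hfv : A f v = 1 := by rw [← hR.comm hv hfR, hvf]
    have q1 : A (v + f) (v + f) ≠ 0 := by
      simp [hvv, hff, hvf, hfv]
      intro h; exact hR.two (by linear_combination h)
    have q2 : A (v - f) (v - f) = -2 := by simp [hvv, hff, hvf, hfv]; ring
    obtain ⟨z, w, hB⟩ := hR.exists_basis (hv.add hfR) (hv.sub hfR) (by simp [hvv, hff, hvf, hfv]) q1
      (by rw [q2]; exact neg_ne_zero.2 hR.two)
    have hzf : A z f = 0 := by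
      have h1 := hB.ca
      have h2 := hB.cb
      rw [map_add] at h1
      rw [map_sub] at h2
      exact (mul_eq_zero.1 (show 2 * A z f = 0 by linear_combination h1 - h2)).resolve_left hR.two
    obtain ⟨s, hs, -, hsx⟩ := hR.refl2 hB.rc (hv.sub hfR) hB.qc (by rw [q2]; exact neg_ne_zero.2 hR.two)
    have e1 : refl A (v - f) v = f := by
      rw [refl, q2, show A (v - f) v = -1 by simp [hvv, hfv],
        show 2 * (-1 : F) / -2 = 1 by rw [mul_neg_one, neg_div_neg_eq, div_self hR.two]]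
      module
    have hsv : s v = f := by rw [hsx, e1, refl_fix hzf]
    have h1 := Unitary.map_mem_centres hA hvC hs (hO.iso hs)
    rw [hsv] at h1
    have h2 := Unitary.smul_mem_centres hA h1 (A v u)
    rwa [hf, smul_inv_smul₀ hne] at h2
  by_cases hu0 : u = 0
  · rw [hu0]
    simpa using Unitary.smul_mem_centres hA hvC 0
  by_cases hne : A v u ≠ 0
  · exact step hv hu hvv huu hne hvC
  push Not at hne
  obtain ⟨i, hi⟩ := exists_basis_ne hA hv0
  obtain ⟨j, hj⟩ := exists_basis_ne hA hu0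
  obtain ⟨z, hz, hzv, hzu⟩ := exists_both (RV F₀) (fun _ _ => RV.add) (A v) (A u) (rv_single i) (rv_single j) hi hj
  set t := A z z / (2 * A v z) with ht
  have htF : t ∈ F₀ := F₀.div_mem (hO.form _ _ hz hz) (F₀.mul_mem hR.two_mem (hO.form _ _ hv hz))
  set h := z - t • v with hh
  have hhh : A h h = 0 := by
    simp [hh, hvv, ← hR.comm hv hz, fx htF]
    rw [ht]
    field_simp [hR.two]
    ring
  have hhR : RV F₀ h := hz.sub (hv.smul htF)
  have hvh : A v h ≠ 0 := by simp [hh, hvv, hzv]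
  have huh : A u h ≠ 0 := by simp [hh, hO.swap hne, hzu]
  refine step hhR hu hhh huu ?_ (step hv hhR hvv hhh hvh hvC)
  rwa [← hR.comm hu hhR]

/-- isotropic vectors in split rational planes are centres -/
theorem plane_centre (hout : ∃ g ∈ X, ¬ Ratty F₀ g) {a b : Fin 4 → F} (ha : RV F₀ a) (hb : RV F₀ b)
    (hw : A (a + ξ • b) (a + ξ • b) = 0)
    (h : A b b = 0 ∨ ∃ r ∈ F₀, r * r = A a b * A a b - ξ * ξ * (A b b * A b b)) :
    a + ξ • b ∈ Unitary.centres A X := by
  have hO := hR.toOver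
  have hA := hO.herm
  have fx := fun {z : F} (hz : z ∈ F₀) => (hR.fix z).1 hz
  have hC := fun {u : Fin 4 → F} (hu : RV F₀ u) (huu : A u u = 0) => hR.rat_centres hout hu huu
  have hQ := hR.split_iso ha hb hw
  have hba := (hR.comm ha hb).symm
  have hβ := hO.form _ _ ha hb
  by_cases hbb : A b b = 0
  · have haa : A a a = 0 := by rw [hQ, hbb, mul_zero]
    by_cases hab : A a b = 0
    · refine ⟨hw, fun hv c hc => ?_⟩
      have hcs := eq_neg_of_add_eq_zero_right hc
      have hl : c * ξ ∈ F₀ := (hR.fix _).2 (by rw [map_mul, hcs, hR.xs, neg_mul_neg])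
      have h1 := ((hC ha haa).2 haa c hc)
      have h2 := hO.sg_rat (e := a) (w := (c * ξ) • b) ha (hb.smul hl) haa (by simp [hab]) F₀.zero_mem (by simp [hbb])
      have h3 := ((hC hb hbb).2 hbb (c * (ξ * σ ξ)) (by
        rw [map_mul, map_mul, hO.invol, hR.xs]
        linear_combination -(ξ * ξ) * hc))
      have h4 := mul_mem h1 (mul_mem h2 h3)
      convert h4 using 1
      refine LinearEquiv.ext fun x => ?_
      rw [LinearEquiv.mul_apply, LinearEquiv.mul_apply, Herm.tvU_apply, Herm.tvU_apply, Herm.tvU_apply,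
        sg_apply haa (by simp [hab]) (by simp [hba, hab])]
      simp [haa, hbb, hab, hba, fx hl, hR.xs, hcs]
      module
    · have h1 := Unitary.move_mem_centres hA (hC ha haa) (hC hb hbb) (c := ξ / A a b)
        (by rw [map_div₀, hR.xs, fx hβ, neg_div, add_neg_cancel])
      rwa [hba, div_mul_cancel₀ _ hab] at h1
  · obtain ⟨r, hr, hrr⟩ := h.resolve_left hbb
    have hqb := hO.form _ _ hb hb
    have hr0 : r ≠ 0 := fun h0 => hbb (hR.eq_zero_of_sq hβ hqb (by rw [h0, zero_mul] at hrr; linear_combination -hrr)).2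
    set x := A b b • a - (A a b + r) • b with hx
    set y := A b b • a - (A a b - r) • b with hy
    have hxR : RV F₀ x := (ha.smul hqb).sub (hb.smul (F₀.add_mem hβ hr))
    have hyR : RV F₀ y := (ha.smul hqb).sub (hb.smul (F₀.sub_mem hβ hr))
    have hxx : A x x = 0 := by
      simp [hx, hba, fx hqb, fx hβ, fx hr, hQ]
      linear_combination A b b * hrr
    have hyy : A y y = 0 := by
      simp [hy, hba, fx hqb, fx hβ, fx hr, hQ]
      linear_combination A b b * hrr
    have hxy : A x y = -(2 * (r * r) * A b b) := by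
      simp [hx, hy, hba, fx hqb, fx hβ, fx hr, hQ]
      linear_combination A b b * hrr
    set d := A a b + r + ξ * A b b with hd
    set n := -(A a b - r + ξ * A b b) with hn
    have hd0 : d ≠ 0 := fun e => by
      have := congrArg σ e
      rw [hd, map_add, map_add, map_mul, hR.xs, fx hqb, fx hβ, fx hr, map_zero] at this
      rw [hd] at e
      exact mul_ne_zero (mul_ne_zero hR.two hR.x0) hbb (by linear_combination e - this)
    have hxy0 : A x y ≠ 0 := by rw [hxy]; exact neg_ne_zero.2 (mul_ne_zero (mul_ne_zero hR.two (mul_ne_zero hr0 hr0)) hbb)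
    have h1 := Unitary.move_mem_centres hA (hC hyR hyy) (hC hxR hxx) (c := n / d / A x y) (by
      have hσd : σ d = A a b + r - ξ * A b b := by
        rw [hd, map_add, map_add, map_mul, hR.xs, fx hqb, fx hβ, fx hr]; ring
      have hσn : σ n = -(A a b - r - ξ * A b b) := by
        rw [hn, map_neg, map_add, map_sub, map_mul, hR.xs, fx hqb, fx hβ, fx hr]; ring
      have hd' : σ d ≠ 0 := (map_ne_zero σ).2 hd0
      rw [hσd] at hd'
      rw [map_div₀, map_div₀, fx (hO.form _ _ hxR hyR), ← add_div, hσn, hσd, div_add_div _ _ hd0 hd', hn, hd]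
      rw [show (-(A a b - r + ξ * A b b)) * (A a b + r - ξ * A b b) + (A a b + r + ξ * A b b) * -(A a b - r - ξ * A b b) = 0 by
        linear_combination 2 * hrr]
      simp)
    rw [div_mul_cancel₀ _ hxy0] at h1
    have h2 := Unitary.smul_mem_centres hA h1 (d / (2 * r * A b b))
    convert h2 using 1
    rw [hx, hy, smul_add, smul_smul, smul_sub, smul_sub, smul_smul, smul_smul, smul_smul, smul_smul]
    have h2' := hR.two
    have e : d / (2 * r * A b b) * (n / d) = n / (2 * r * A b b) := by field_simp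
    rw [e, hd, hn]
    match_scalars <;> field_simp <;> ring

/-- all isotropic vectors are centres -/
theorem all_centres (hout : ∃ g ∈ X, ¬ Ratty F₀ g) {w : Fin 4 → F} (hw : A w w = 0) : w ∈ Unitary.centres A X := by
  have hO := hR.toOver
  have hA := hO.herm
  have fx := fun {z : F} (hz : z ∈ F₀) => (hR.fix z).1 hz
  by_cases hw0 : w = 0
  · rw [hw0]
    exact hR.rat_centres hout (fun _ => F₀.zero_mem) (by simp)
  obtain ⟨e, he, hee, hew⟩ : ∃ e, RV F₀ e ∧ A e e = 0 ∧ A e w ≠ 0 := by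
    obtain ⟨v, hv, hv0, hvv⟩ := hR.exists_sing
    by_cases hvw : A v w = 0
    swap
    · exact ⟨v, hv, hvv, hvw⟩
    obtain ⟨i, hi⟩ := exists_basis_ne hA hv0
    obtain ⟨j, hj⟩ := exists_basis_ne hA hw0
    obtain ⟨z, hz, hzv, hzw⟩ := exists_both (RV F₀) (fun _ _ => RV.add) (A v) (A w) (rv_single i) (rv_single j) hi hj
    set t := A z z / (2 * A v z) with ht
    have htF : t ∈ F₀ := F₀.div_mem (hO.form _ _ hz hz) (F₀.mul_mem hR.two_mem (hO.form _ _ hv hz))
    refine ⟨z - t • v, hz.sub (hv.smul htF), ?_, fun h => hzw ?_⟩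
    · simp [hvv, ← hR.comm hv hz, fx htF]
      rw [ht]
      field_simp [hR.two]
      ring
    · simp [hvw] at h
      exact hO.swap h
  obtain ⟨a, b, ha, hb, hab⟩ := hR.split w
  set m₁ := A e a with hm₁
  set m₂ := A e b with hm₂
  set ν := ξ * ξ with hν
  set β := A a b with hβd
  set Q := A b b with hQd
  have g1 := hO.form _ _ he ha
  have g2 := hO.form _ _ he hb
  have g3 := hO.form _ _ ha hb
  have g4 := hO.form _ _ hb hb
  have g5 := hR.sq_mem
  have hewv : A e w = m₁ + ξ * m₂ := by rw [hab, map_add, map_smul, smul_eq_mul]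
  set N := m₁ * m₁ - ν * (m₂ * m₂) with hN
  set B := β * (m₁ * m₁ + ν * (m₂ * m₂)) - 2 * ν * Q * (m₁ * m₂) with hB
  have hN0 : N ≠ 0 := fun h => by
    obtain ⟨h1, h2⟩ := hR.eq_zero_of_sq g1 g2 (by linear_combination h)
    exact hew (by rw [hewv]; simp only [hm₁, hm₂, h1, h2]; ring)
  have hNF : N ∈ F₀ := F₀.sub_mem (F₀.mul_mem g1 g1) (F₀.mul_mem g5 (F₀.mul_mem g2 g2))
  obtain ⟨k, hk, hk0⟩ : ∃ k ∈ F₀, B - N * k ≠ 0 := by
    by_cases hB0 : B = 0
    · exact ⟨1, F₀.one_mem, by rw [hB0, mul_one, zero_sub]; exact neg_ne_zero.2 hN0⟩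
    · exact ⟨0, F₀.zero_mem, by rwa [mul_zero, sub_zero]⟩
  set D₀ := β * β - ν * (Q * Q) with hD₀
  set s := (k * k - D₀) / (2 * (B - N * k)) with hs
  have hBF : B ∈ F₀ := F₀.sub_mem (F₀.mul_mem g3 (F₀.add_mem (F₀.mul_mem g1 g1) (F₀.mul_mem g5 (F₀.mul_mem g2 g2))))
    (F₀.mul_mem (F₀.mul_mem (F₀.mul_mem hR.two_mem g5) g4) (F₀.mul_mem g1 g2))
  have hsF : s ∈ F₀ := F₀.div_mem (F₀.sub_mem (F₀.mul_mem hk hk) (F₀.sub_mem (F₀.mul_mem g3 g3)
    (F₀.mul_mem g5 (F₀.mul_mem g4 g4)))) (F₀.mul_mem hR.two_mem (F₀.sub_mem hBF (F₀.mul_mem hNF hk)))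
  have hse : s * (2 * (B - N * k)) = k * k - D₀ := div_mul_cancel₀ _ (mul_ne_zero hR.two hk0)
  set a' := a + (ν * s * m₂) • e with ha'
  set b' := b + (s * m₁) • e with hb'
  have ha'R : RV F₀ a' := ha.add (he.smul (F₀.mul_mem (F₀.mul_mem g5 hsF) g2))
  have hb'R : RV F₀ b' := hb.add (he.smul (F₀.mul_mem hsF g1))
  have hc : ξ * s + σ (ξ * s) = 0 := by rw [map_mul, hR.xs, fx hsF, neg_mul, add_neg_cancel]
  have hp : a' + ξ • b' = w + (ξ * s * A e w) • e := by
    rw [hewv, ha', hb', hab, hν]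
    module
  have hpp : A (a' + ξ • b') (a' + ξ • b') = 0 := by
    rw [hp, ← Tv_apply hee (ξ * s) w, (hO.Tv_mem_suG hee hc).1, hw]
  have haeb : A a e = m₁ ∧ A b e = m₂ := ⟨(hR.comm ha he).trans rfl, (hR.comm hb he).trans rfl⟩
  have hP := hR.plane_centre hout ha'R hb'R hpp (Or.inr ⟨k + N * s, F₀.add_mem hk (F₀.mul_mem hNF hsF), by
    have f1 : σ m₁ = m₁ := fx g1
    have f2 : σ m₂ = m₂ := fx g2
    have f5 : σ ν = ν := fx g5
    have e1 : A a' b' = β + s * (m₁ * m₁ + ν * (m₂ * m₂)) := by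
      simp [ha', hb', hee, haeb.1, haeb.2, ← hm₁, ← hm₂, ← hβd, f5, fx hsF, f2]
      ring
    have e2 : A b' b' = Q + 2 * s * (m₁ * m₂) := by
      simp [hb', hee, haeb.2, ← hm₂, ← hQd, fx hsF, f1]
      ring
    rw [e1, e2, ← hν]
    rw [hD₀, hB, hN] at hse
    rw [hN]
    linear_combination -hse⟩)
  have h1 := Unitary.move_mem_centres hA hP (hR.rat_centres hout he hee) (c := -(ξ * s))
    (by rw [map_neg, ← neg_add, hc, neg_zero])
  rw [hp, map_add, map_smul, hee, smul_zero, add_zero] at h1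
  convert h1 using 1
  module

end Real

/-- orthogonal subfield groups -/
theorem maximal {F : Type*} [Field F] [Fintype F] (q : ℕ) (hF : Fintype.card F = q ^ 2) (hodd : Odd q) (h5 : 5 ≤ q)
    (F₀ : Subfield F) (P : Matrix.GeneralLinearGroup (Fin 4) F) (hcard : Fintype.card F = Nat.card F₀ ^ 2)
    (hP : Cfsg.Geo.IsFormRationalStructure (Cfsg.hermForm 4 F q) F₀ 1 P) :
    Cfsg.Geo.IsMaximalIn (Cfsg.GU 4 F q ⊓ Cfsg.Geo.specialLinear (Fin 4) F)
      (Cfsg.Geo.subfieldSubgroup F₀ P ⊓ (Cfsg.GU 4 F q ⊓ Cfsg.Geo.specialLinear (Fin 4) F)) := by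
  classical
  obtain ⟨σ, hσq, hσ, -, -⟩ := exists_powHom hF
  have hfix := mem_iff_fix hσ hcard hσq hF
  have h2 : (2 : F) ≠ 0 := fun h => by
    have hr : ringChar F = 2 := by
      haveI : CharP F 2 := CharTwo.of_one_ne_zero_of_two_eq_zero one_ne_zero h
      exact ringChar.eq F 2
    have := FiniteField.even_card_iff_char_two.1 hr
    rw [hF] at this
    have h3 := hodd.pow (n := 2)
    rw [Nat.odd_iff] at h3
    omega
  have hc5 : 5 ≤ Nat.card F₀ := by
    rw [hF] at hcard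
    exact h5.trans (Nat.pow_left_injective (by norm_num) hcard).le
  obtain ⟨ξ', hξ'⟩ := Herm.exists_moved hσ
  set ξ := ξ' - σ ξ' with hξ
  have hx0 : ξ ≠ 0 := sub_ne_zero.2 (Ne.symm hξ')
  have hxs : σ ξ = -ξ := by rw [hξ, map_sub, hσ.invol, neg_sub]
  set A := Subfield.Unit.formP (n := 4) σ 1 P with hAd
  have hAeq : ∀ x y, A x y = hermB 4 σ (glEquiv (Fin 4) F P x) (glEquiv (Fin 4) F P y) := fun x y => one_mul _
  have hform : ∀ u v, RV F₀ u → RV F₀ v → A u v ∈ F₀ := fun u v hu hv => by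
    have := hP v u hv hu
    rw [one_mul, hermForm_eq hσq] at this
    rw [hAeq]; exact this
  have hO : Herm.IsHerm A → ∀ X : Subgroup ((Fin 4 → F) ≃ₗ[F] (Fin 4 → F)), X ≤ Herm.suG A →
      (∀ s ∈ Herm.suG A, Ratty F₀ s → s ∈ X) → Real F₀ A X ξ := fun hA X hle hrat => by
    refine ⟨⟨hA, fun a ha => by rw [(hfix a).1 ha]; exact ha, hform, fun a ha has => ⟨a / 2, ?_, ?_⟩, fun z hz => ?_,
      fun z hz _ => (hfix z).2 hz, hle, hrat⟩, hfix, h2, hc5, hx0, hxs⟩
    · exact F₀.div_mem ha (by rw [← one_add_one_eq_two]; exact F₀.add_mem F₀.one_mem F₀.one_mem)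
    · rw [map_div₀, has, map_ofNat, ← add_div, ← two_mul, mul_div_cancel_left₀ _ h2]
    · have h1 := (hfix _).1 (hz 1 F₀.one_mem)
      rw [one_mul, map_sub, hσ.invol] at h1
      exact (hfix z).2 (mul_left_cancel₀ h2 (by linear_combination h1))
  refine isMaximalIn_sub hσ hσq F₀ P ?_ fun hA X hle hrat hout v hv => (hO hA X hle hrat).all_centres hout hv
  have hA : Herm.IsHerm A :=
    { toIsInvol := hσ
      symm := fun a b => by rw [hAeq, hAeq]; exact (hermB_isHerm hσ 4).symm _ _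
      nondeg := Subfield.Unit.formP_nd hσ one_ne_zero P }
  have hR := hO hA _ le_rfl fun s hs _ => hs
  obtain ⟨e, he, he0, hee⟩ := hR.exists_sing
  obtain ⟨f, hf, -, hef, hfe⟩ := hR.toOver.partner he hee he0
  refine ⟨e, ξ, hee, by rw [hxs, add_neg_cancel], fun h => ?_⟩
  have h1 := hR.form _ _ hf (ratty_Tv hee h hf)
  rw [hef, mul_one, map_smul, hfe, smul_eq_mul, mul_one] at h1
  exact hR.moved ((hfix ξ).1 h1)

end Cfsg.Agent.ClassicalMax.SU4.Sub.Orth
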