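import Cfsg.Agent.ClassicalMax.SU4.OrthTools
import Cfsg.Agent.ClassicalMax.SU4.OrthArith

/-!
If no transvection at a rational point lies in an overgroup of the orthogonal subfield group, the overgroup is that
group: a moved point spans a hyperbolic rational plane with anisotropic orthogonal, and the elements preserving such a
plane would give an impossible family of cross ratios.
-/

set_option autoImplicit false
set_option linter.unusedSectionVars false
set_option linter.unusedSimpArgs false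
set_option linter.style.haveILetI false

namespace Cfsg.Agent.ClassicalMax.SU4.Sub.Orth

open Module Cfsg.Agent.Classical Cfsg.Agent.ClassicalMax Cfsg.Agent.ClassicalMax.Subfield

variable {F : Type*} [Field F] [Fintype F] {σ : F →+* F} {F₀ : Subfield F}
  {A : (Fin 4 → F) →ₛₗ[σ] (Fin 4 → F) →ₗ[F] F} {X : Subgroup ((Fin 4 → F) ≃ₗ[F] (Fin 4 → F))}

/-- the image of a hyperbolic pair spans an orthogonal complement of two rational vectors -/
structure Good (F₀ : Subfield F) (A : (Fin 4 → F) →ₛₗ[σ] (Fin 4 → F) →ₗ[F] F) (g : (Fin 4 → F) ≃ₗ[F] (Fin 4 → F))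
    (e f a b c d : Fin 4 → F) : Prop where
  rf : RV F₀ f
  ff : A f f = 0
  ef : A e f = 1
  fe : A f e = 1
  basis : OBasis F₀ A a b c d
  ec : A c (g e) = 0
  ed : A d (g e) = 0
  fc : A c (g f) = 0
  fd : A d (g f) = 0
  perp : ∀ y, A (g e) y = 0 → A (g f) y = 0 → A a y = 0 ∧ A b y = 0

/-- an element acting on a plane with real diagonal and skew off-diagonal entries -/
structure Blk (F₀ : Subfield F) (σ : F →+* F) (X : Subgroup ((Fin 4 → F) ≃ₗ[F] (Fin 4 → F))) (x y u v : Fin 4 → F)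
    (h : (Fin 4 → F) ≃ₗ[F] (Fin 4 → F)) (α β γ δ : F) : Prop where
  mem : h ∈ X
  ha : α ∈ F₀
  hd : δ ∈ F₀
  hb : σ β = -β
  hc : σ γ = -γ
  det : α * δ - β * γ = 1
  hx : h x = α • x + β • y
  hy : h y = γ • x + δ • y
  hu : h u = u
  hv : h v = v

namespace Real

variable {ξ : F} (hR : Real F₀ A X ξ)
include hR

theorem rat_of_fix (hS : Strict F₀ A X) {u : (Fin 4 → F) ≃ₗ[F] (Fin 4 → F)} (hu : u ∈ X) {e : Fin 4 → F}
    (he : RV F₀ e) (he0 : e ≠ 0) (hee : A e e = 0) (h : u e = e) : ∀ z, RV F₀ z → RV F₀ (u z) :=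
  Ratty_rat_of_one (hR.toOver.ratty_of_point hS hu he he0 hee he (h.symm ▸ Submodule.mem_span_singleton_self e)) he he0 h he

theorem sq_prod {a b : F} (ha : a ∈ F₀) (hb : b ∈ F₀) (hna : ∀ x ∈ F₀, x * x ≠ a) (hnb : ∀ x ∈ F₀, x * x ≠ b) :
    ∃ r ∈ F₀, r * r = a * b := by
  haveI : Fintype F₀ := Fintype.ofFinite F₀
  obtain ⟨r, hr⟩ := OrthArith.mul_nonsquare (K := F₀) (a := ⟨a, ha⟩) (b := ⟨b, hb⟩)
    (fun ⟨x, hx⟩ => hna x x.2 (congrArg Subtype.val hx).symm) (fun ⟨x, hx⟩ => hnb x x.2 (congrArg Subtype.val hx).symm)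
  exact ⟨r, r.2, (congrArg Subtype.val hr).symm⟩

theorem exists_k : ∃ k ∈ F₀, k ≠ 0 ∧ k * k ≠ 1 := by
  classical
  haveI : Fintype F₀ := Fintype.ofFinite F₀
  obtain ⟨k, -, hk⟩ := Finset.exists_mem_notMem_of_card_lt_card (s := ({0, 1, -1} : Finset F₀)) (t := Finset.univ)
    (lt_of_le_of_lt Finset.card_le_three (by rw [Finset.card_univ, ← Nat.card_eq_fintype_card]; have := hR.five; omega))
  simp only [Finset.mem_insert, Finset.mem_singleton, not_or] at hk
  refine ⟨k, k.2, fun h => hk.1 (Subtype.ext h), fun h => ?_⟩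
  rcases mul_self_eq_one_iff.1 h with e | e
  · exact hk.2.1 (Subtype.ext e)
  · exact hk.2.2 (Subtype.ext e)

/-- the plane of a moved point is not totally singular -/
theorem not_tot (hS : Strict F₀ A X) {g : (Fin 4 → F) ≃ₗ[F] (Fin 4 → F)} (hg : g ∈ X) (hgr : ¬ Ratty F₀ g)
    {e a b : Fin 4 → F} (he : RV F₀ e) (he0 : e ≠ 0) (hee : A e e = 0) (ha : RV F₀ a) (hb : RV F₀ b)
    (hab : g e = a + ξ • b) : ¬ (A b b = 0 ∧ A a b = 0) := by
  rintro ⟨hbb, hab0⟩
  have hO := hR.toOver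
  have hgi := hO.iso hg
  obtain ⟨ha0, hn⟩ := hR.indep (fun r hr => hO.irrational hS hg hgr he he0 hee r hr) ha hb hab
  have hb0 : b ≠ 0 := fun h => hn (by rw [h]; exact zero_mem _)
  have hna : a ∉ F ∙ b := fun h' => by
    obtain ⟨c, hc⟩ := Submodule.mem_span_singleton.1 h'
    have hc0 : c ≠ 0 := by rintro rfl; exact ha0 (by rw [← hc, zero_smul])
    exact hn (Submodule.mem_span_singleton.2 ⟨c⁻¹, by rw [← hc, inv_smul_smul₀ hc0]⟩)
  have hba0 : A b a = 0 := hO.swap hab0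
  have haa : A a a = 0 := by
    rw [hR.split_iso ha hb (by rw [← hab, hgi, hee]), hbb, mul_zero]
  set p := g e with hp
  have hap : A a p = 0 := by rw [hab]; simp [haa, hab0]
  have hbp : A b p = 0 := by rw [hab]; simp [hba0, hbb]
  set u := g⁻¹ * sg A a b 0 * g with hu
  have huX : u ∈ X := mul_mem (mul_mem (inv_mem hg) (hO.sg_rat ha hb haa hab0 F₀.zero_mem (by simp [hbb]))) hg
  have hux : ∀ x, u x = x + A a (g x) • g⁻¹ b - A b (g x) • g⁻¹ a := fun x => by
    rw [hu, LinearEquiv.mul_apply, LinearEquiv.mul_apply, sg_apply haa hab0 hba0, map_sub, map_add, map_smul, map_smul,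
      inv_apply, zero_mul, add_zero]
  have hue : u e = e := by rw [hux, ← hp, hap, hbp]; simp
  have hurat := hR.rat_of_fix hS huX he he0 hee hue
  obtain ⟨y₁, hy₁, hby₁, hay₁⟩ := hR.exists_dual hb ha hb0 hna
  obtain ⟨y₂, hy₂, hay₂, hby₂⟩ := hR.exists_dual ha hb ha0 hn
  obtain ⟨i, hi⟩ : ∃ i, u (Pi.single i 1) - Pi.single i 1 ∉ F ∙ e := by
    by_contra! hc
    have hall : ∀ x, u x - x ∈ F ∙ e := fun x => by
      rw [eq_sum_single x, map_sum, ← Finset.sum_sub_distrib]
      refine sum_mem fun i _ => ?_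
      rw [map_smul, ← smul_sub]
      exact Submodule.smul_mem _ _ (hc i)
    have h1 := hall (g⁻¹ y₁)
    rw [hux, apply_inv, hay₁, hby₁, one_smul, zero_smul, sub_zero, add_sub_cancel_left] at h1
    obtain ⟨t, ht⟩ := Submodule.mem_span_singleton.1 h1
    refine hO.irrational hS hg hgr he he0 hee b hb ?_
    have hbt : b = t • g e := by rw [← map_smul, ht, apply_inv]
    have ht0 : t ≠ 0 := fun h0 => hb0 (by rw [hbt, h0, zero_smul])
    exact Submodule.mem_span_singleton.2 ⟨t⁻¹, by rw [hbt, inv_smul_smul₀ ht0]⟩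
  set z := u (Pi.single i 1) - Pi.single i 1 with hz
  have hzR : RV F₀ z := (hurat _ (rv_single i)).sub (rv_single i)
  set γ := -A b (g (Pi.single i 1))
  set δ := A a (g (Pi.single i 1))
  have hgz : g z = γ • a + δ • b := by
    rw [hz, hux, map_sub, map_sub, map_add, map_smul, map_smul, apply_inv, apply_inv]
    module
  have hgzz : A (g z) (g z) = 0 := by rw [hgz]; simp [haa, hbb, hab0, hba0]
  have hzz : A z z = 0 := by rw [← hgi, hgzz]
  have hpz : A p (g z) = 0 := by rw [hgz, hab]; simp [haa, hbb, hab0, hba0]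
  have hez : A e z = 0 := by rw [← hgi, ← hp, hpz]
  set T := g * sg A e z 0 * g⁻¹ with hT
  have hTX : T ∈ X := mul_mem (mul_mem hg (hO.sg_rat he hzR hee hez F₀.zero_mem (by simp [hzz]))) (inv_mem hg)
  have hpp : A p p = 0 := by rw [hp, hgi, hee]
  have hTe : T = sg A p (g z) 0 := by rw [hT, sg_conj hgi hee hez (hO.swap hez)]
  have hTx : ∀ x, T x = x + A p x • g z - A (g z) x • p := fun x => by
    rw [hTe, sg_apply hpp hpz (hO.swap hpz), zero_mul, add_zero]
  have hTa : T a = a := by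
    rw [hTx, hab, hgz]; simp [haa, hbb, hab0, hba0]
  have hTrat := hR.rat_of_fix hS hTX ha ha0 haa hTa
  have hTs : ∀ x, RV F₀ x → RV F₀ ((A p x * γ - A (g z) x) • a + (A p x * δ - A (g z) x * ξ) • b) := fun x hx => by
    have h1 := (hTrat x hx).sub hx
    rw [hTx] at h1
    convert h1 using 1
    rw [hgz, hab]
    module
  obtain ⟨c₁, d₁⟩ := hR.coef ha hb ha0 hn (hTs y₁ hy₁)
  obtain ⟨c₂, d₂⟩ := hR.coef ha hb ha0 hn (hTs y₂ hy₂)
  simp [hab, hgz, hay₁, hby₁, hay₂, hby₂, hR.xs] at c₁ d₁ c₂ d₂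
  have hγ : σ γ = γ := by
    have := (hR.fix _).1 c₁
    rw [map_sub, hO.invol] at this
    exact mul_left_cancel₀ hR.two (by linear_combination this)
  rw [hγ] at d₁
  have hr := (hR.fix _).1 d₁
  simp only [map_sub, map_mul, hγ, hR.xs] at hr
  have hδ : σ δ = δ - 2 * (γ * ξ) := by linear_combination hr
  have h4 := (hR.fix _).1 d₂
  simp only [map_add, map_sub, map_neg, map_mul, hO.invol, hR.xs] at h4
  have hsum : σ δ + δ = 0 :=
    (mul_eq_zero.1 (show 2 * ξ * (σ δ + δ) = 0 by linear_combination h4)).resolve_left (mul_ne_zero hR.two hR.x0)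
  have hd : δ = γ * ξ := mul_left_cancel₀ hR.two (by linear_combination hsum - hδ)
  refine hi ?_
  rw [Submodule.mem_span_singleton]
  exact ⟨γ, g.injective (by rw [map_smul, ← hp, hab, hgz, hd, smul_add, smul_smul])⟩

/-- the image of a hyperbolic pair -/
theorem exists_good (hS : Strict F₀ A X) {g : (Fin 4 → F) ≃ₗ[F] (Fin 4 → F)} (hg : g ∈ X) (hgr : ¬ Ratty F₀ g)
    {e : Fin 4 → F} (he : RV F₀ e) (he0 : e ≠ 0) (hee : A e e = 0) : ∃ f a b c d, Good F₀ A g e f a b c d := by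
  have hO := hR.toOver
  have hgi := hO.iso hg
  obtain ⟨a₀, b₀, ha₀, hb₀, hab⟩ := hR.split (g e)
  have hnt := hR.not_tot hS hg hgr he he0 hee ha₀ hb₀ hab
  have hQ := hR.split_iso ha₀ hb₀ (by rw [← hab, hgi, hee])
  have hba := (hR.comm ha₀ hb₀).symm
  obtain ⟨a, b, s, t, ha, hb, hab', qa, qb, hp⟩ : ∃ a b : Fin 4 → F, ∃ s t : F, RV F₀ a ∧ RV F₀ b ∧ A a b = 0 ∧
      A a a ≠ 0 ∧ A b b ≠ 0 ∧ g e = s • a + t • b := by
    have hs₀ := hO.form _ _ ha₀ hb₀
    have hq₀ := hO.form _ _ hb₀ hb₀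
    by_cases hbb : A b₀ b₀ = 0
    · have hab0 : A a₀ b₀ ≠ 0 := fun h => hnt ⟨hbb, h⟩
      have haa : A a₀ a₀ = 0 := by rw [hQ, hbb, mul_zero]
      refine ⟨a₀ + b₀, a₀ - b₀, (1 + ξ) / 2, (1 - ξ) / 2, ha₀.add hb₀, ha₀.sub hb₀, by simp [haa, hbb, hba], ?_, ?_, ?_⟩
      · simp [haa, hbb, hba]
        intro h; exact mul_ne_zero hR.two hab0 (by linear_combination h)
      · simp [haa, hbb, hba]
        intro h; exact mul_ne_zero hR.two hab0 (by linear_combination -h)
      · rw [hab]; match_scalars <;> field_simp [hR.two] <;> ring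
    · set r := A a₀ b₀ / A b₀ b₀ with hr
      have hrF : r ∈ F₀ := F₀.div_mem hs₀ hq₀
      refine ⟨a₀ - r • b₀, b₀, 1, ξ + r, ha₀.sub (hb₀.smul hrF), hb₀, ?_, ?_, hbb, by rw [hab]; module⟩
      · simp [hr, hbb, (hR.fix _).1 hs₀, (hR.fix _).1 hq₀]
      · intro h
        simp [(hR.fix r).1 hrF, hba] at h
        rw [hQ, hr] at h
        field_simp at h
        have := hR.eq_zero_of_sq hs₀ hq₀ (by linear_combination -h)
        exact hbb this.2
  have hba' := hO.swap hab'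
  obtain ⟨c, d, hB⟩ := hR.exists_basis ha hb hab' qa qb
  have hcp : A c (g e) = 0 := by rw [hp]; simp [hB.ca, hB.cb]
  have hdp : A d (g e) = 0 := by rw [hp]; simp [hB.da, hB.db]
  obtain ⟨S, hSX, -, hSx⟩ := hR.refl2 hB.rc hB.rd hB.qc hB.qd
  set u := g⁻¹ * S * g with hu
  have huX : u ∈ X := mul_mem (mul_mem (inv_mem hg) hSX) hg
  have hue : u e = e := by
    rw [hu, LinearEquiv.mul_apply, LinearEquiv.mul_apply, hSx, refl_fix hdp, refl_fix hcp, inv_apply]
  have hurat := hR.rat_of_fix hS huX he he0 hee hue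
  obtain ⟨f₀, hf₀, -, hef₀, -⟩ := hO.partner he hee he0
  set w := (2 : F)⁻¹ • (f₀ + u f₀) with hw
  have hwR : RV F₀ w := (hf₀.add (hurat f₀ hf₀)).smul (F₀.inv_mem hR.two_mem)
  have hew : A e w = 1 := by
    have h1 : A e (u f₀) = 1 := by
      conv_lhs => rw [← hue]
      rw [hO.iso huX, hef₀]
    rw [hw, map_smul, map_add, hef₀, h1, smul_eq_mul, one_add_one_eq_two, inv_mul_cancel₀ hR.two]
  have hwe : A w e = 1 := by rw [← hR.comm he hwR, hew]
  have hSc : ∀ z, A c (S z) = -A c z ∧ A d (S z) = -A d z := fun z => by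
    rw [hSx]
    simp only [refl, map_sub, map_smul, smul_eq_mul, hB.cd, hB.dc, mul_zero, sub_zero,
      div_mul_cancel₀ _ hB.qc, div_mul_cancel₀ _ hB.qd]
    exact ⟨by ring, by ring⟩
  have hgw : g w = (2 : F)⁻¹ • (g f₀ + S (g f₀)) := by
    rw [hw, map_smul, map_add, hu, LinearEquiv.mul_apply, LinearEquiv.mul_apply, apply_inv]
  have hcw : A c (g w) = 0 := by rw [hgw, map_smul, map_add, (hSc _).1, add_neg_cancel, smul_zero]
  have hdw : A d (g w) = 0 := by rw [hgw, map_smul, map_add, (hSc _).2, add_neg_cancel, smul_zero]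
  obtain ⟨μ, hμF, hμ⟩ := hO.self_half hwR
  set f := w - μ • e with hf
  have hfR : RV F₀ f := hwR.sub (he.smul hμF)
  have hef : A e f = 1 := by simp [hf, hew, hee]
  refine ⟨f, a, b, c, d, hfR, ?_, hef, by rw [← hR.comm he hfR, hef], hB, hcp, hdp, by simp [hf, hcw, hcp],
    by simp [hf, hdw, hdp], fun y h1 h2 => ?_⟩
  · simp [hf, hew, hwe, hee]
    linear_combination -hμ
  · have hfd := hB.decomp (g f)
    rw [show A c (g f) = 0 by simp [hf, hcw, hcp], show A d (g f) = 0 by simp [hf, hdw, hdp], zero_div, zero_div,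
      zero_smul, zero_smul, add_zero, add_zero] at hfd
    set s' := A a (g f) / A a a
    set t' := A b (g f) / A b b
    have hD : s * t' - t * s' ≠ 0 := fun h0 => by
      have h3 : s' • g e = s • g f := by
        rw [hp, hfd, smul_add, smul_add, smul_smul, smul_smul, smul_smul, smul_smul]
        congr 1
        · rw [mul_comm]
        · congr 1; linear_combination -h0
      have h4 := congrArg (A (g e)) h3
      rw [map_smul, map_smul, hgi, hgi, hee, hef, smul_zero, smul_eq_mul, mul_one] at h4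
      have h5 : t' • g e = t • g f := by
        rw [hp, hfd, smul_add, smul_add, smul_smul, smul_smul, smul_smul, smul_smul]
        congr 1
        · congr 1; linear_combination h0
        · rw [mul_comm]
      have h6 := congrArg (A (g e)) h5
      rw [map_smul, map_smul, hgi, hgi, hee, hef, smul_zero, smul_eq_mul, mul_one] at h6
      exact he0 (g.map_eq_zero_iff.1 (by rw [hp, ← h4, ← h6, zero_smul, zero_smul, add_zero]))
    have hσD : σ (s * t' - t * s') ≠ 0 := (map_ne_zero σ).2 hD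
    rw [hp] at h1
    rw [hfd] at h2
    simp only [map_add, map_smulₛₗ, LinearMap.add_apply, LinearMap.smul_apply, smul_eq_mul] at h1 h2
    rw [map_sub, map_mul, map_mul] at hσD
    exact ⟨(mul_eq_zero.1 (show _ * A a y = 0 by linear_combination σ t' * h1 - σ t * h2)).resolve_left hσD,
      (mul_eq_zero.1 (show _ * A b y = 0 by linear_combination σ s * h2 - σ s' * h1)).resolve_left hσD⟩

/-- the orthogonal of the plane of a moved point is anisotropic -/
theorem perp_aniso (hS : Strict F₀ A X) {g : (Fin 4 → F) ≃ₗ[F] (Fin 4 → F)} (hg : g ∈ X) (hgr : ¬ Ratty F₀ g)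
    {e f a b c d : Fin 4 → F} (he : RV F₀ e) (he0 : e ≠ 0) (hee : A e e = 0) (hG : Good F₀ A g e f a b c d)
    {z : Fin 4 → F} (hz : RV F₀ z) (haz : A a z = 0) (hbz : A b z = 0) (hzz : A z z = 0) : z = 0 := by
  by_contra hz0
  have hO := hR.toOver
  have hgi := hO.iso hg
  obtain ⟨k, hk, hk0, hk1⟩ := hR.exists_k
  obtain ⟨D, hDX, hDe, hDf, hD0⟩ := hR.torus he hG.rf hee hG.ff hG.ef hk hk0
  set D' := g * D * g⁻¹ with hD'
  have hD'X : D' ∈ X := mul_mem (mul_mem hg hDX) (inv_mem hg)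
  have hzc : z = (A c z / A c c) • c + (A d z / A d d) • d := by
    conv_lhs => rw [hG.basis.decomp z]
    rw [haz, hbz, zero_div, zero_div, zero_smul, zero_smul, zero_add, zero_add]
  have hperp : ∀ y, A c (g y) = 0 → A d (g y) = 0 → A y (g⁻¹ z) = 0 := fun y h1 h2 => by
    rw [← hgi, apply_inv, hzc, map_add, map_smul, map_smul, hO.swap h1, hO.swap h2, smul_zero, smul_zero, add_zero]
  have hD'z : D' z = z := by
    conv_lhs => rw [← apply_inv g z]
    rw [hD', conj_apply, hD0 _ (hperp e hG.ec hG.ed) (hperp f hG.fc hG.fd), apply_inv]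
  have hrat := hR.rat_of_fix hS hD'X hz hz0 hzz hD'z
  have hirr : ∀ r, RV F₀ r → g e ∉ F ∙ r := fun r hr => hO.irrational hS hg hgr he he0 hee r hr
  obtain ⟨a₀, b₀, ha₀, hb₀, hab⟩ := hR.split (g e)
  obtain ⟨ha00, -⟩ := hR.indep hirr ha₀ hb₀ hab
  have hpe : D' (g e) = k • g e := by rw [hD', conj_apply, hDe, map_smul]
  have ha1 : D' a₀ = k • a₀ := by
    rw [hab, map_add, map_smul, smul_add] at hpe
    set a' := D' a₀ - k • a₀
    have ha' : RV F₀ a' := (hrat _ ha₀).sub (ha₀.smul hk)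
    set b' := D' b₀ - k • b₀
    have hb' : RV F₀ b' := (hrat _ hb₀).sub (hb₀.smul hk)
    have h0 : a' + ξ • b' = 0 := by
      rw [show a' + ξ • b' = (D' a₀ + ξ • D' b₀) - (k • a₀ + k • ξ • b₀) by simp only [a', b']; module, hpe, sub_self]
    refine sub_eq_zero.1 (funext fun i => ?_)
    have h1 : a' i + ξ * b' i = 0 := congrFun h0 i
    have h2 : σ (a' i) + σ ξ * σ (b' i) = 0 := by rw [← map_mul, ← map_add, h1, map_zero]
    rw [hR.xs, (hR.fix _).1 (ha' i), (hR.fix _).1 (hb' i)] at h2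
    show a' i = 0
    exact (mul_eq_zero.1 (show 2 * a' i = 0 by linear_combination h1 + h2)).resolve_left hR.two
  set w := g⁻¹ a₀ with hw
  have hgw : g w = a₀ := by rw [hw, apply_inv]
  have hDw : D w = k • w := by
    refine g.injective ?_
    rw [← conj_apply (g := g) (t := D) w, hgw, ← hD', map_smul, hgw, ha1]
  have hk1' : k ≠ 1 := fun h => hk1 (by rw [h, one_mul])
  set rest := w - A f w • e - A e w • f with hrest
  have hDr : D rest = rest := hD0 _ (by simp [hrest, hee, hG.ef]) (by simp [hrest, hG.ff, hG.fe])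
  have hwe : w = rest + A f w • e + A e w • f := by rw [hrest]; abel
  have h1 := hDw
  rw [hwe, map_add, map_add, map_smul, map_smul, hDr, hDe, hDf] at h1
  have h2 := congrArg (A e) h1
  have her : A e rest = 0 := by simp [hrest, hee, hG.ef]
  simp [her, hee, hG.ef] at h2
  have hew0 : A e w = 0 := by
    by_contra hne
    refine hk1 ?_
    field_simp at h2
    first
      | linear_combination h2
      | linear_combination -h2
      | exact mul_left_cancel₀ hne (by linear_combination -h2)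
      | exact mul_left_cancel₀ hne (by linear_combination h2)
  rw [hew0, zero_smul, zero_smul, add_zero, add_zero, smul_add, smul_smul, smul_smul, mul_comm (A f w)] at h1
  have hr0 : rest = 0 := by
    by_contra hne
    exact hk1' (smul_left_injective F hne (show (fun c : F => c • rest) k = (fun c : F => c • rest) 1 by
      simp only [one_smul]; exact (add_right_cancel h1).symm))
  have hwe' : w = A f w • e := by
    conv_lhs => rw [hwe, hr0, hew0, zero_smul, zero_add, add_zero]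
  have hae : a₀ = A f w • g e := by rw [← hgw, ← map_smul, ← hwe']
  have hfw : A f w ≠ 0 := fun h => ha00 (by rw [hae, h, zero_smul])
  exact hirr a₀ ha₀ (Submodule.mem_span_singleton.2 ⟨(A f w)⁻¹, by rw [hae, inv_smul_smul₀ hfw]⟩)

/-- the orthogonal of the original pair is anisotropic -/
theorem pair_aniso (hS : Strict F₀ A X) {g : (Fin 4 → F) ≃ₗ[F] (Fin 4 → F)} (hg : g ∈ X) (hgr : ¬ Ratty F₀ g)
    {e f a b c d : Fin 4 → F} (he : RV F₀ e) (he0 : e ≠ 0) (hee : A e e = 0) (hG : Good F₀ A g e f a b c d)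
    {w : Fin 4 → F} (hw : RV F₀ w) (hew : A e w = 0) (hfw : A f w = 0) (hww : A w w = 0) : w = 0 := by
  by_contra hw0
  have hO := hR.toOver
  have hgi := hO.iso hg
  have hB := hG.basis
  have haniso := fun {z : Fin 4 → F} (hz : RV F₀ z) => hR.perp_aniso hS hg hgr he he0 hee hG (z := z) hz
  set v := c + d with hv
  have hQv : A v v = A c c + A d d := by simp [hv, hB.cd, hB.dc]
  have qv : A v v ≠ 0 := fun h => hB.qc (by
    have h0 := haniso (hB.rc.add hB.rd) (by simp [hB.ac, hB.ad]) (by simp [hB.bc, hB.bd]) h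
    have := congrArg (A c) h0
    simpa [hB.cd] using this)
  obtain ⟨R, hRX, -, hRx⟩ := hR.refl2 hB.rc (hB.rc.add hB.rd) hB.qc qv
  set u := g⁻¹ * R * g with hu
  have huX : u ∈ X := mul_mem (mul_mem (inv_mem hg) hRX) hg
  have hfix : ∀ y, A c (g y) = 0 → A d (g y) = 0 → u y = y := fun y h1 h2 => by
    rw [hu, LinearEquiv.mul_apply, LinearEquiv.mul_apply, hRx, refl_fix (c := c + d) (by simp [h1, h2]), refl_fix h1,
      inv_apply]
  have hue := hfix e hG.ec hG.ed
  have huf := hfix f hG.fc hG.fd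
  have hurat := hR.rat_of_fix hS huX he he0 hee hue
  -- no real eigenvector off the pair
  have rot : ∀ (y : Fin 4 → F) (α : F), α ∈ F₀ → A e y = 0 → A f y = 0 → u y = α • y → y = 0 := by
    intro y α hα h1 h2 h3
    obtain ⟨h4, h5⟩ := hG.perp (g y) (by rw [hgi, h1]) (by rw [hgi, h2])
    set s := A c (g y) / A c c
    set t := A d (g y) / A d d
    have hy : g y = s • c + t • d := by
      conv_lhs => rw [hB.decomp (g y)]
      rw [h4, h5, zero_div, zero_div, zero_smul, zero_smul, zero_add, zero_add]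
    set k := 2 * (s * A c c + t * A d d) / (A c c + A d d) with hk
    have hkq : k * (A c c + A d d) = 2 * (s * A c c + t * A d d) := div_mul_cancel₀ _ (hQv ▸ qv)
    have e1 : refl A v (g y) = (s - k) • c + (t - k) • d := by
      rw [refl, hQv, show A v (g y) = s * A c c + t * A d d by rw [hy, hv]; simp [hB.cd, hB.dc], ← hk, hy, hv]
      module
    have e2 : refl A c ((s - k) • c + (t - k) • d) = (k - s) • c + (t - k) • d := by
      rw [refl, show A c ((s - k) • c + (t - k) • d) = (s - k) * A c c by simp [hB.cd],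
        show 2 * ((s - k) * A c c) / A c c = 2 * (s - k) by rw [← mul_assoc, mul_div_cancel_right₀ _ hB.qc]]
      module
    have h6 : R (g y) = α • g y := by
      have := congrArg g h3
      rwa [hu, LinearEquiv.mul_apply, LinearEquiv.mul_apply, apply_inv, map_smul] at this
    rw [hRx, e1, e2, hy, smul_add, smul_smul, smul_smul] at h6
    have c1 := congrArg (A c) h6
    have c2 := congrArg (A d) h6
    simp [hB.cd, hB.dc, hB.qc, hB.qd] at c1 c2
    have hz2 : k * ((1 - α) * (1 - α) * A c c + (1 + α) * (1 + α) * A d d) = 0 := by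
      linear_combination (-(1 - α) * (1 + α)) * hkq + (2 * (1 - α) * A c c) * c1 - (2 * (1 + α) * A d d) * c2
    have hk0 : k = 0 := by
      refine (mul_eq_zero.1 hz2).resolve_right fun h => ?_
      have hαs := (hR.fix α).1 hα
      have h0 := haniso (z := (1 - α) • c + (1 + α) • d)
        ((hB.rc.smul (F₀.sub_mem F₀.one_mem hα)).add (hB.rd.smul (F₀.add_mem F₀.one_mem hα)))
        (by simp [hB.ac, hB.ad]) (by simp [hB.bc, hB.bd]) (by simp [hB.cd, hB.dc, hαs]; linear_combination h)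
      have a1 := congrArg (A c) h0
      have a2 := congrArg (A d) h0
      simp [hB.cd, hB.dc, hB.qc, hB.qd] at a1 a2
      exact hR.two (by linear_combination a1 + a2)
    rw [hk0] at c1 c2 hkq
    rw [zero_mul] at hkq
    have hsum : s * A c c + t * A d d = 0 := (mul_eq_zero.1 hkq.symm).resolve_left hR.two
    have hst : s = 0 ∧ t = 0 := by
      by_cases hs : s = 0
      · refine ⟨hs, (mul_eq_zero.1 (show t * A d d = 0 by rw [hs] at hsum; linear_combination hsum)).resolve_right hB.qd⟩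
      · exfalso
        have ha1 : (1 + α) * s = 0 := by linear_combination -c1
        have hα1 := (mul_eq_zero.1 ha1).resolve_right hs
        have ht2 : 2 * t = 0 := by linear_combination c2 + t * hα1
        have ht := (mul_eq_zero.1 ht2).resolve_left hR.two
        rw [ht] at hsum
        exact hs ((mul_eq_zero.1 (show s * A c c = 0 by linear_combination hsum)).resolve_right hB.qc)
    rw [hst.1, hst.2, zero_smul, zero_smul, add_zero] at hy
    exact g.map_eq_zero_iff.1 hy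
  obtain ⟨w₁, hw₁, -, hww₁, -⟩ := hO.partner hw hww hw0
  set w₂ := w₁ - A f w₁ • e - A e w₁ • f with hw₂
  have hw₂R : RV F₀ w₂ := (hw₁.sub (he.smul (hO.form _ _ hG.rf hw₁))).sub (hG.rf.smul (hO.form _ _ he hw₁))
  have he2 : A e w₂ = 0 := by simp [hw₂, hee, hG.ef]
  have hf2 : A f w₂ = 0 := by simp [hw₂, hG.ff, hG.fe]
  have hw2 : A w w₂ = 1 := by simp [hw₂, hww₁, hO.swap hew, hO.swap hfw]
  have hw2' : A w₂ w = 1 := by rw [← hR.comm hw hw₂R, hw2]
  obtain ⟨μ, hμF, hμ⟩ := hO.self_half hw₂R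
  set w' := w₂ - μ • w with hw'
  have hF : Frame F₀ A e w f w' := by
    refine ⟨he, hw, hG.rf, hw₂R.sub (hw.smul hμF), hee, hww, hG.ff, ?_, hG.ef, hG.fe, by simp [hw', hw2, hww],
      by simp [hw', hw2', hww], hew, hO.swap hew, by simp [hw', hf2, hfw], hO.swap (by simp [hw', hf2, hfw]),
      by simp [hw', he2, hew], hO.swap (by simp [hw', he2, hew]), hO.swap hfw, hfw⟩
    simp [hw', hw2, hw2', hww]
    linear_combination -hμ
  have huv : ∀ y, A e y = 0 → A f y = 0 → u y = A w' (u y) • w + A w (u y) • w' := fun y h1 h2 => by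
    conv_lhs => rw [hF.decomp (u y)]
    have a1 : A e (u y) = 0 := by
      conv_lhs => rw [← hue]
      rw [hO.iso huX, h1]
    have a2 : A f (u y) = 0 := by
      conv_lhs => rw [← huf]
      rw [hO.iso huX, h2]
    rw [a1, a2]
    simp
  have huw := hurat w hw
  have huw' := hurat w' hF.rf₂
  have r1 : A w (u w) ∈ F₀ := hO.form _ _ hw huw
  have r2 : A w' (u w) ∈ F₀ := hO.form _ _ hF.rf₂ huw
  have e1 := huv w hew hfw
  set p₁ := A w' (u w)
  set p₂ := A w (u w)
  have hsing : p₁ * p₂ = 0 := by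
    have h := hO.iso huX w w
    rw [e1, hww] at h
    simp [hF.e22, hF.f22, hF.h22, hF.g22, (hR.fix _).1 r1, (hR.fix _).1 r2] at h
    exact (mul_eq_zero.1 (show 2 * (p₁ * p₂) = 0 by linear_combination h)).resolve_left hR.two
  rcases mul_eq_zero.1 hsing with h | h
  swap
  · rw [h, zero_smul, add_zero] at e1
    exact hw0 (rot w p₁ r2 hew hfw e1)
  rw [h, zero_smul, zero_add] at e1
  have hp20 : p₂ ≠ 0 := fun h2 => hw0 (u.map_eq_zero_iff.1 (by rw [e1, h2, zero_smul]))
  have e2 := huv w' hF.ef12 hF.f12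
  set q₁ := A w' (u w') with hq₁
  set q₂ := A w (u w')
  have r3 : q₁ ∈ F₀ := hO.form _ _ hF.rf₂ huw'
  have r4 : q₂ ∈ F₀ := hO.form _ _ hw huw'
  have h21 : p₂ * q₁ = 1 := by
    have h' := hO.iso huX w w'
    rw [e1, e2, hF.h22] at h'
    simp [hF.e22, hF.f22, hF.h22, hF.g22, (hR.fix _).1 r1] at h'
    exact h'
  have hq2 : q₂ = 0 := by
    have hq : q₁ * q₂ = 0 := by
      have h' := hO.iso huX w' w'
      rw [e2, hF.f22] at h'
      simp [hF.e22, hF.f22, hF.h22, hF.g22, (hR.fix _).1 r3, (hR.fix _).1 r4] at h'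
      exact (mul_eq_zero.1 (show 2 * (q₁ * q₂) = 0 by linear_combination h')).resolve_left hR.two
    exact (mul_eq_zero.1 hq).resolve_left (fun h0 => by rw [h0, mul_zero] at h21; exact zero_ne_one h21)
  rw [hq2, zero_smul, add_zero] at e2
  have h3 : u (w + p₂ • w') = (1 : F) • (w + p₂ • w') := by
    rw [map_add, map_smul, e1, e2, smul_smul, h21, one_smul, one_smul, add_comm]
  have h4 := congrArg (A w) (rot _ 1 F₀.one_mem (by simp [hew, hF.ef12]) (by simp [hfw, hF.f12]) h3)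
  simp [hww, hF.h22] at h4
  exact hp20 h4

/-- there are no two orthogonal rational singular points -/
theorem no_orth (hS : Strict F₀ A X) (hout : ∃ g ∈ X, ¬ Ratty F₀ g) {u w : Fin 4 → F} (hu : RV F₀ u) (hw : RV F₀ w)
    (huu : A u u = 0) (hww : A w w = 0) (huw : A u w = 0) (hu0 : u ≠ 0) : w ∈ F ∙ u := by
  obtain ⟨g, hg, hgr⟩ := hout
  obtain ⟨f, a, b, c, d, hG⟩ := hR.exists_good hS hg hgr hu hu0 huu
  have hwu := hR.toOver.swap huw
  have h := hR.pair_aniso hS hg hgr hu hu0 huu hG (w := w - A f w • u)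
    (hw.sub (hu.smul (hR.form _ _ hG.rf hw))) (by simp [huw, huu]) (by simp [hG.fe]) (by simp [hww, huu, huw, hwu])
  rw [sub_eq_zero.1 h]
  exact Submodule.smul_mem _ _ (Submodule.mem_span_singleton_self u)

/-- the plane of a moved point is hyperbolic -/
theorem plane_hyperbolic (hS : Strict F₀ A X) {g : (Fin 4 → F) ≃ₗ[F] (Fin 4 → F)} (hg : g ∈ X) (hgr : ¬ Ratty F₀ g)
    {e f a b c d : Fin 4 → F} (he : RV F₀ e) (he0 : e ≠ 0) (hee : A e e = 0) (hG : Good F₀ A g e f a b c d) :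
    ∃ s ∈ F₀, ∃ t ∈ F₀, s ≠ 0 ∧ t ≠ 0 ∧ A a a * (s * s) + A b b * (t * t) = 0 := by
  have hO := hR.toOver
  have hB := hG.basis
  have fx := fun {x : F} (hx : x ∈ F₀) => (hR.fix x).1 hx
  have qa := hO.form _ _ hB.ra hB.ra
  have qb := hO.form _ _ hB.rb hB.rb
  have qc := hO.form _ _ hB.rc hB.rc
  have qd := hO.form _ _ hB.rd hB.rd
  by_cases hex : ∃ m ∈ F₀, m * m = -(A a a * A b b)
  · obtain ⟨m, hm, hmm⟩ := hex
    refine ⟨m, hm, A a a, qa, fun h => ?_, hB.qa, by linear_combination A a a * hmm⟩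
    rw [h, zero_mul, eq_comm, neg_eq_zero] at hmm
    exact mul_ne_zero hB.qa hB.qb hmm
  push Not at hex
  exfalso
  have hcd : ∀ m ∈ F₀, m * m ≠ -(A c c * A d d) := fun m hm h => by
    have h0 := hR.perp_aniso hS hg hgr he he0 hee hG (z := m • c + A c c • d) ((hB.rc.smul hm).add (hB.rd.smul qc))
      (by simp [hB.ac, hB.ad]) (by simp [hB.bc, hB.bd]) (by simp [hB.cd, hB.dc, fx hm, fx qc]; linear_combination A c c * h)
    have := congrArg (A d) h0
    simp [hB.dc, hB.qc, hB.qd] at this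
  obtain ⟨m, hm, hmm⟩ := hR.sq_prod (F₀.neg_mem (F₀.mul_mem qa qb)) (F₀.neg_mem (F₀.mul_mem qc qd)) hex hcd
  obtain ⟨s, hs, t, ht, hst⟩ := hR.conic qc hB.qc qd hB.qd (F₀.neg_mem qa)
  set r := m / (A a a * (A c c * A d d)) with hr
  have hrF : r ∈ F₀ := F₀.div_mem hm (F₀.mul_mem qa (F₀.mul_mem qc qd))
  have hr2 : r * r * (A a a * (A c c * A d d)) = A b b := by
    rw [hr]; field_simp [hB.qa, hB.qb, hB.qc, hB.qd]; linear_combination hmm
  set z₁ := a + (s • c + t • d) with hz₁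
  set z₂ := b + r • ((-(t * A d d)) • c + (s * A c c) • d) with hz₂
  have hz₁R : RV F₀ z₁ := hB.ra.add ((hB.rc.smul hs).add (hB.rd.smul ht))
  have hz₂R : RV F₀ z₂ := hB.rb.add (((hB.rc.smul (F₀.neg_mem (F₀.mul_mem ht qd))).add
    (hB.rd.smul (F₀.mul_mem hs qc))).smul hrF)
  have h11 : A z₁ z₁ = 0 := by
    simp [hz₁, hB.ac, hB.ca, hB.ad, hB.da, hB.cd, hB.dc, fx hs, fx ht]
    linear_combination hst
  have h22 : A z₂ z₂ = 0 := by
    simp [hz₂, hB.bc, hB.cb, hB.bd, hB.db, hB.cd, hB.dc, fx hs, fx ht, fx hrF, fx qc, fx qd]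
    linear_combination (r * r * A c c * A d d) * hst - hr2
  have h12 : A z₁ z₂ = 0 := by
    simp [hz₁, hz₂, hB.ab, hB.ac, hB.ad, hB.cb, hB.db, hB.cd, hB.dc, fx hs, fx ht]
    ring
  have hz0 : z₁ ≠ 0 := fun h => hB.qa (by simpa [hz₁, hB.ac, hB.ad] using congrArg (A a) h)
  obtain ⟨k, hk⟩ := Submodule.mem_span_singleton.1 (hR.no_orth hS ⟨g, hg, hgr⟩ hz₁R hz₂R h11 h22 h12 hz0)
  have hk0 := congrArg (A a) hk
  simp [hz₁, hz₂, hB.ab, hB.ac, hB.ad, hB.qa] at hk0
  rw [hk0, zero_smul] at hk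
  have := congrArg (A b) hk.symm
  simp [hz₂, hB.bc, hB.bd] at this
  exact hB.qb this

/-- the discriminant of a moved point -/
theorem disc (hS : Strict F₀ A X) {g : (Fin 4 → F) ≃ₗ[F] (Fin 4 → F)} (hg : g ∈ X) (hgr : ¬ Ratty F₀ g)
    {e a₀ b₀ : Fin 4 → F} (he : RV F₀ e) (he0 : e ≠ 0) (hee : A e e = 0) (ha₀ : RV F₀ a₀) (hb₀ : RV F₀ b₀)
    (hab : g e = a₀ + ξ • b₀) :
    ∃ r ∈ F₀, r ≠ 0 ∧ r * r = A a₀ b₀ * A a₀ b₀ - ξ * ξ * (A b₀ b₀ * A b₀ b₀) := by
  have hO := hR.toOver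
  obtain ⟨f, a, b, c, d, hG⟩ := hR.exists_good hS hg hgr he he0 hee
  obtain ⟨s, hs, t, ht, hs0, ht0, hst⟩ := hR.plane_hyperbolic hS hg hgr he he0 hee hG
  have hB := hG.basis
  have fx := fun {x : F} (hx : x ∈ F₀) => (hR.fix x).1 hx
  have hzero : ∀ y, RV F₀ y → A y (a₀ + ξ • b₀) = 0 → A y a₀ = 0 ∧ A y b₀ = 0 := fun y hy h => by
    rw [map_add, map_smul, smul_eq_mul] at h
    have h' := congrArg σ h
    rw [map_add, map_mul, hR.xs, fx (hO.form _ _ hy ha₀), fx (hO.form _ _ hy hb₀), map_zero] at h'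
    exact ⟨(mul_eq_zero.1 (show 2 * A y a₀ = 0 by linear_combination h + h')).resolve_left hR.two,
      (mul_eq_zero.1 (show 2 * ξ * A y b₀ = 0 by linear_combination h - h')).resolve_left (mul_ne_zero hR.two hR.x0)⟩
  obtain ⟨hca, hcb⟩ := hzero c hB.rc (by rw [← hab]; exact hG.ec)
  obtain ⟨hda, hdb⟩ := hzero d hB.rd (by rw [← hab]; exact hG.ed)
  have ea := hB.decomp a₀
  have eb := hB.decomp b₀
  rw [hca, hda, zero_div, zero_div, zero_smul, zero_smul, add_zero, add_zero] at ea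
  rw [hcb, hdb, zero_div, zero_div, zero_smul, zero_smul, add_zero, add_zero] at eb
  set p₁ := A a a₀ / A a a
  set p₂ := A b a₀ / A b b
  set q₁ := A a b₀ / A a a
  set q₂ := A b b₀ / A b b
  have m1 : p₁ ∈ F₀ := F₀.div_mem (hO.form _ _ hB.ra ha₀) (hO.form _ _ hB.ra hB.ra)
  have m2 : p₂ ∈ F₀ := F₀.div_mem (hO.form _ _ hB.rb ha₀) (hO.form _ _ hB.rb hB.rb)
  have m3 : q₁ ∈ F₀ := F₀.div_mem (hO.form _ _ hB.ra hb₀) (hO.form _ _ hB.ra hB.ra)
  have m4 : q₂ ∈ F₀ := F₀.div_mem (hO.form _ _ hB.rb hb₀) (hO.form _ _ hB.rb hB.rb)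
  have hQ := hR.split_iso ha₀ hb₀ (by rw [← hab, hO.iso hg, hee])
  set r := (p₁ * q₂ - p₂ * q₁) * (A a a * s / t)
  have hrr : r * r = A a₀ b₀ * A a₀ b₀ - ξ * ξ * (A b₀ b₀ * A b₀ b₀) := by
    have hk : A a a * s / t * (A a a * s / t) = -(A a a * A b b) := by
      field_simp
      linear_combination A a a * hst
    rw [show ξ * ξ * (A b₀ b₀ * A b₀ b₀) = A a₀ a₀ * A b₀ b₀ by rw [hQ]; ring,
      show r * r = (p₁ * q₂ - p₂ * q₁) * (p₁ * q₂ - p₂ * q₁) * (A a a * s / t * (A a a * s / t)) by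
        simp only [r]; ring, hk, ea, eb]
    simp [hB.ab, hB.ba, fx m1, fx m2, fx m3, fx m4]
    ring
  refine ⟨r, F₀.mul_mem (F₀.sub_mem (F₀.mul_mem m1 m4) (F₀.mul_mem m2 m3))
    (F₀.div_mem (F₀.mul_mem (hO.form _ _ hB.ra hB.ra) hs) ht), fun h0 => ?_, hrr⟩
  rw [h0, zero_mul] at hrr
  obtain ⟨h1, h2⟩ := hR.eq_zero_of_sq (hO.form _ _ ha₀ hb₀) (hO.form _ _ hb₀ hb₀) (by linear_combination -hrr)
  exact hR.not_tot hS hg hgr he he0 hee ha₀ hb₀ hab ⟨h2, h1⟩

end Real

end Cfsg.Agent.ClassicalMax.SU4.Sub.Orth
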