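import Cfsg.Agent.ClassicalMax.SU4.SubFrame

/-!
Rational geometry of the four-dimensional orthogonal structure inside a Hermitian space: orthogonal bases, products
of two reflections, and split coordinates.
-/

set_option autoImplicit false
set_option linter.unusedSectionVars false
set_option linter.unusedSimpArgs false
set_option linter.style.haveILetI false

namespace Cfsg.Agent.ClassicalMax.SU4.Sub.Orth

open Module Cfsg.Agent.Classical Cfsg.Agent.ClassicalMax Cfsg.Agent.ClassicalMax.Subfield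

variable {F : Type*} [Field F] [Fintype F] {σ : F →+* F} {F₀ : Subfield F}
  {A : (Fin 4 → F) →ₛₗ[σ] (Fin 4 → F) →ₗ[F] F} {X : Subgroup ((Fin 4 → F) ≃ₗ[F] (Fin 4 → F))}

/-- the extra hypotheses for the orthogonal types -/
structure Real (F₀ : Subfield F) (A : (Fin 4 → F) →ₛₗ[σ] (Fin 4 → F) →ₗ[F] F)
    (X : Subgroup ((Fin 4 → F) ≃ₗ[F] (Fin 4 → F))) (ξ : F) : Prop extends Over F₀ A X where
  fix : ∀ a, a ∈ F₀ ↔ σ a = a
  two : (2 : F) ≠ 0
  five : 5 ≤ Nat.card F₀
  x0 : ξ ≠ 0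
  xs : σ ξ = -ξ

/-- reflection -/
noncomputable def refl (A : (Fin 4 → F) →ₛₗ[σ] (Fin 4 → F) →ₗ[F] F) (c x : Fin 4 → F) : Fin 4 → F :=
  x - (2 * A c x / A c c) • c

theorem refl_fix {c x : Fin 4 → F} (h : A c x = 0) : refl A c x = x := by simp [refl, h]

/-- an orthogonal rational basis -/
structure OBasis (F₀ : Subfield F) (A : (Fin 4 → F) →ₛₗ[σ] (Fin 4 → F) →ₗ[F] F) (a b c d : Fin 4 → F) : Prop where
  ra : RV F₀ a
  rb : RV F₀ b
  rc : RV F₀ c
  rd : RV F₀ d
  qa : A a a ≠ 0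
  qb : A b b ≠ 0
  qc : A c c ≠ 0
  qd : A d d ≠ 0
  ab : A a b = 0
  ba : A b a = 0
  ac : A a c = 0
  ca : A c a = 0
  ad : A a d = 0
  da : A d a = 0
  bc : A b c = 0
  cb : A c b = 0
  bd : A b d = 0
  db : A d b = 0
  cd : A c d = 0
  dc : A d c = 0

theorem OBasis.decomp {a b c d : Fin 4 → F} (h : OBasis F₀ A a b c d) (x : Fin 4 → F) :
    x = (A a x / A a a) • a + (A b x / A b b) • b + (A c x / A c c) • c + (A d x / A d d) • d := by
  have hli : LinearIndependent F ![a, b, c, d] := by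
    rw [Fintype.linearIndependent_iff]
    intro g hg
    rw [Fin.sum_univ_four] at hg
    replace hg : g 0 • a + g 1 • b + g 2 • c + g 3 • d = 0 := hg
    have h1 := congrArg (A a) hg
    have h2 := congrArg (A b) hg
    have h3 := congrArg (A c) hg
    have h4 := congrArg (A d) hg
    simp [h.ab, h.ba, h.ac, h.ca, h.ad, h.da, h.bc, h.cb, h.bd, h.db, h.cd, h.dc, h.qa, h.qb, h.qc, h.qd] at h1 h2 h3 h4
    intro i
    fin_cases i <;> assumption
  have htop := hli.span_eq_top_of_card_eq_finrank' (by rw [Fintype.card_fin, Module.finrank_fin_fun])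
  obtain ⟨g, rfl⟩ := (Submodule.mem_span_range_iff_exists_fun _).1 (htop ▸ Submodule.mem_top : x ∈ _)
  simp [Fin.sum_univ_four, h.ab, h.ba, h.ac, h.ca, h.ad, h.da, h.bc, h.cb, h.bd, h.db, h.cd, h.dc, h.qa, h.qb, h.qc, h.qd]

namespace Real

variable {ξ : F} (hR : Real F₀ A X ξ)
include hR

theorem two_mem : (2 : F) ∈ F₀ := by rw [← one_add_one_eq_two]; exact F₀.add_mem F₀.one_mem F₀.one_mem

theorem comm {a b : Fin 4 → F} (ha : RV F₀ a) (hb : RV F₀ b) : A a b = A b a := by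
  rw [← hR.toOver.symm' a b]; exact ((hR.fix _).1 (hR.form _ _ ha hb)).symm

theorem moved : σ ξ ≠ ξ := fun h => by
  rw [hR.xs] at h
  exact hR.x0 ((mul_eq_zero.1 (show 2 * ξ = 0 by linear_combination -h)).resolve_left hR.two)

theorem sq_mem : ξ * ξ ∈ F₀ := (hR.fix _).2 (by rw [map_mul, hR.xs, neg_mul_neg])

theorem nsq {x : F} (hx : x ∈ F₀) : x * x ≠ ξ * ξ := fun h => by
  rcases mul_self_eq_mul_self_iff.1 h with e | e
  · exact hR.moved (by rw [← e]; exact (hR.fix x).1 hx)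
  · exact hR.moved ((hR.fix ξ).1 (by rw [show ξ = -x by rw [e, neg_neg]]; exact F₀.neg_mem hx))

theorem eq_zero_of_sq {x y : F} (hx : x ∈ F₀) (hy : y ∈ F₀) (h : x * x = ξ * ξ * (y * y)) : x = 0 ∧ y = 0 := by
  by_cases hy0 : y = 0
  · exact ⟨mul_self_eq_zero.1 (by rw [h, hy0]; ring), hy0⟩
  · exact absurd (by field_simp; linear_combination h) (hR.nsq (x := x / y) (F₀.div_mem hx hy))

theorem coef {a b : Fin 4 → F} (ha : RV F₀ a) (hb : RV F₀ b) (ha0 : a ≠ 0) (hn : b ∉ F ∙ a) {s t : F}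
    (h : RV F₀ (s • a + t • b)) : s ∈ F₀ ∧ t ∈ F₀ := by
  have hn' : a ∉ F ∙ b := fun h' => by
    obtain ⟨c, hc⟩ := Submodule.mem_span_singleton.1 h'
    have hc0 : c ≠ 0 := by rintro rfl; exact ha0 (by rw [← hc, zero_smul])
    exact hn (Submodule.mem_span_singleton.2 ⟨c⁻¹, by rw [← hc, inv_smul_smul₀ hc0]⟩)
  obtain ⟨f, hf, hfa, hfb⟩ := exists_rf_one hb ha hn'
  obtain ⟨g, hg, hgb, hga⟩ := exists_rf_one ha hb hn
  exact ⟨by simpa [hfa, hfb] using hf.apply h, by simpa [hga, hgb] using hg.apply h⟩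

theorem indep {p a b : Fin 4 → F} (hp : ∀ r, RV F₀ r → p ∉ F ∙ r) (ha : RV F₀ a) (hb : RV F₀ b) (e : p = a + ξ • b) :
    a ≠ 0 ∧ b ∉ F ∙ a := by
  have ha0 : a ≠ 0 := fun h0 => hp b hb (Submodule.mem_span_singleton.2 ⟨ξ, by rw [e, h0, zero_add]⟩)
  refine ⟨ha0, fun h => ?_⟩
  obtain ⟨c, hc⟩ := Submodule.mem_span_singleton.1 h
  exact hp a ha (Submodule.mem_span_singleton.2 ⟨1 + ξ * c, by rw [e, ← hc, add_smul, one_smul, smul_smul]⟩)

theorem split (p : Fin 4 → F) : ∃ a b : Fin 4 → F, RV F₀ a ∧ RV F₀ b ∧ p = a + ξ • b :=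
  exists_split hR.fix hR.toOver.invol hR.moved p

theorem split_iso {a b : Fin 4 → F} (ha : RV F₀ a) (hb : RV F₀ b) (h : A (a + ξ • b) (a + ξ • b) = 0) :
    A a a = ξ * ξ * A b b := by
  simp only [map_add, map_smul, map_smulₛₗ, LinearMap.add_apply, LinearMap.smul_apply, smul_eq_mul, hR.xs,
    ← hR.comm ha hb] at h
  linear_combination h

/-- a pair of rational vectors dual to two independent ones -/
theorem exists_dual {u w : Fin 4 → F} (hu : RV F₀ u) (hw : RV F₀ w) (hu0 : u ≠ 0) (hn : w ∉ F ∙ u) :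
    ∃ x, RV F₀ x ∧ A u x = 0 ∧ A w x = 1 := by
  have hO := hR.toOver
  obtain ⟨j, hj⟩ := exists_basis_ne hO.herm hu0
  obtain ⟨i, hi⟩ : ∃ i, A w (Pi.single i 1 - (A u (Pi.single i 1) / A u (Pi.single j 1)) • Pi.single j 1) ≠ 0 := by
    by_contra! hc
    set t := A w (Pi.single j 1) / A u (Pi.single j 1)
    have hw' : w = σ t • u := sub_eq_zero.1 (hO.herm.nondeg _ fun y => by
      rw [eq_sum_single y, map_sum]
      refine Finset.sum_eq_zero fun i _ => ?_
      have h1 := hc i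
      rw [map_sub, map_smul, smul_eq_mul, sub_eq_zero] at h1
      simp [hO.invol, h1, t]
      right
      field_simp
      ring)
    exact hn (Submodule.mem_span_singleton.2 ⟨σ t, hw'.symm⟩)
  set y := Pi.single i (1 : F) - (A u (Pi.single i 1) / A u (Pi.single j 1)) • Pi.single j 1 with hy
  have hyR : RV F₀ y := (rv_single i).sub ((rv_single j).smul
    (F₀.div_mem (hO.form _ _ hu (rv_single i)) (hO.form _ _ hu (rv_single j))))
  refine ⟨(A w y)⁻¹ • y, hyR.smul (F₀.inv_mem (hO.form _ _ hw hyR)), ?_,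
    by rw [map_smul, smul_eq_mul, inv_mul_cancel₀ hi]⟩
  have huy : A u y = 0 := by rw [hy, map_sub, map_smul, smul_eq_mul, div_mul_cancel₀ _ hj, sub_self]
  rw [map_smul, huy, smul_zero]

/-- completing two orthogonal anisotropic vectors to a basis -/
theorem exists_basis {a b : Fin 4 → F} (ha : RV F₀ a) (hb : RV F₀ b) (hab : A a b = 0) (qa : A a a ≠ 0)
    (qb : A b b ≠ 0) : ∃ c d, OBasis F₀ A a b c d := by
  have hO := hR.toOver
  have hba := hO.swap hab
  obtain ⟨c, hc, hac, hbc, qc⟩ : ∃ c, RV F₀ c ∧ A a c = 0 ∧ A b c = 0 ∧ A c c ≠ 0 := by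
    obtain ⟨u, hu, hup, hu0⟩ := exists_avoid (F₀ := F₀) ![A a, A b]
      (by intro i; fin_cases i <;> intro j; exacts [hO.form _ _ ha (rv_single j), hO.form _ _ hb (rv_single j)])
      (![] : Fin 0 → Fin 4 → F) (fun j => j.elim0) (by simp)
    have hu0' : u ≠ 0 := fun e => hu0 (by rw [e]; exact zero_mem _)
    have hau : A a u = 0 := hup 0
    have hbu : A b u = 0 := hup 1
    by_cases huu : A u u = 0
    swap
    · exact ⟨u, hu, hau, hbu, huu⟩
    obtain ⟨f, hf, -, huf, -⟩ := hO.partner hu huu hu0'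
    set w := f - (A a f / A a a) • a - (A b f / A b b) • b with hw
    have hwR : RV F₀ w := (hf.sub (ha.smul (F₀.div_mem (hO.form _ _ ha hf) (hO.form _ _ ha ha)))).sub
      (hb.smul (F₀.div_mem (hO.form _ _ hb hf) (hO.form _ _ hb hb)))
    have haw : A a w = 0 := by simp [hw, hab, qa]
    have hbw : A b w = 0 := by simp [hw, hba, qb]
    have huw : A u w = 1 := by simp [hw, huf, hO.swap hau, hO.swap hbu]
    by_cases hww : A w w = 0
    · refine ⟨u + w, hu.add hwR, by simp [hau, haw], by simp [hbu, hbw], fun h => hR.two ?_⟩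
      simp [huu, hww, huw, ← hR.comm hu hwR] at h
      linear_combination h
    · exact ⟨w, hwR, haw, hbw, hww⟩
  have hca := hO.swap hac
  have hcb := hO.swap hbc
  obtain ⟨d, hd, hdp, hd0⟩ := exists_avoid (F₀ := F₀) ![A a, A b, A c]
    (by intro i; fin_cases i <;> intro j
        exacts [hO.form _ _ ha (rv_single j), hO.form _ _ hb (rv_single j), hO.form _ _ hc (rv_single j)])
    (![] : Fin 0 → Fin 4 → F) (fun j => j.elim0) (by simp)
  have had : A a d = 0 := hdp 0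
  have hbd : A b d = 0 := hdp 1
  have hcd : A c d = 0 := hdp 2
  have hd0' : d ≠ 0 := fun e => hd0 (by rw [e]; exact zero_mem _)
  refine ⟨c, d, ha, hb, hc, hd, qa, qb, qc, fun hdd => hd0' ?_, hab, hba, hac, hca, had, hO.swap had, hbc, hcb, hbd,
    hO.swap hbd, hcd, hO.swap hcd⟩
  have hli : LinearIndependent F ![a, b, c, d] := by
    rw [Fintype.linearIndependent_iff]
    intro g hg
    rw [Fin.sum_univ_four] at hg
    replace hg : g 0 • a + g 1 • b + g 2 • c + g 3 • d = 0 := hg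
    have h1 := congrArg (A a) hg
    have h2 := congrArg (A b) hg
    have h3 := congrArg (A c) hg
    simp [hab, hba, hac, hca, had, hbc, hcb, hbd, hcd, qa, qb, qc] at h1 h2 h3
    rw [h1, h2, h3] at hg
    simp [hd0'] at hg
    intro i
    fin_cases i <;> assumption
  have htop := hli.span_eq_top_of_card_eq_finrank' (by rw [Fintype.card_fin, Module.finrank_fin_fun])
  refine hO.herm.nondeg _ fun y => ?_
  obtain ⟨g, rfl⟩ := (Submodule.mem_span_range_iff_exists_fun _).1 (htop ▸ Submodule.mem_top : y ∈ _)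
  simp [Fin.sum_univ_four, hO.swap had, hO.swap hbd, hO.swap hcd, hdd]

theorem refl2 {c d : Fin 4 → F} (hc : RV F₀ c) (hd : RV F₀ d) (hcc : A c c ≠ 0) (hdd : A d d ≠ 0) :
    ∃ s ∈ X, (∀ z, RV F₀ z → RV F₀ (s z)) ∧ ∀ x, s x = refl A c (refl A d x) := by
  have hO := hR.toOver
  have hm : (-1 : F) * σ (-1) = 1 := by simp
  obtain ⟨r₁, h1i, h1d, h1⟩ := Unitary.exists_preflection hO.herm hcc hm
  obtain ⟨r₂, h2i, h2d, h2⟩ := Unitary.exists_preflection hO.herm hdd hm
  have e1 : ∀ x, r₁ x = refl A c x := fun x => by rw [h1, refl]; module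
  have e2 : ∀ x, r₂ x = refl A d x := fun x => by rw [h2, refl]; module
  have hr : ∀ {a : Fin 4 → F}, RV F₀ a → ∀ z, RV F₀ z → RV F₀ (refl A a z) := fun {a} ha z hz =>
    hz.sub (ha.smul (F₀.div_mem (F₀.mul_mem hR.two_mem (hO.form _ _ ha hz)) (hO.form _ _ ha ha)))
  have hrat : ∀ z, RV F₀ z → RV F₀ ((r₁ * r₂) z) := fun z hz => by
    rw [LinearEquiv.mul_apply, e1, e2]
    exact hr hc _ (hr hd _ hz)
  refine ⟨r₁ * r₂, hO.rat _ (Unitary.mem_suG hO.herm (fun a b => by
    rw [LinearEquiv.mul_apply, LinearEquiv.mul_apply, h1i, h2i]) ?_) (hO.ratty_of_rat hrat), hrat,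
    fun x => by rw [LinearEquiv.mul_apply, e1, e2]⟩
  rw [show (r₁ * r₂).toLinearMap = r₁.toLinearMap ∘ₗ r₂.toLinearMap from rfl, LinearMap.det_comp, h1d, h2d]
  ring

/-- the split torus of a hyperbolic pair -/
theorem torus {e f : Fin 4 → F} (he : RV F₀ e) (hf : RV F₀ f) (hee : A e e = 0) (hff : A f f = 0) (hef : A e f = 1)
    {k : F} (hk : k ∈ F₀) (hk0 : k ≠ 0) :
    ∃ s ∈ X, s e = k • e ∧ s f = k⁻¹ • f ∧ ∀ z, A e z = 0 → A f z = 0 → s z = z := by
  have hfe : A f e = 1 := by rw [← hR.comm he hf, hef]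
  have hks := (hR.fix k).1 hk
  have q1 : A (e - f) (e - f) ≠ 0 := by
    simp [hee, hff, hef, hfe]
    intro h; exact hR.two (by linear_combination -h)
  have q2 : A (e - k • f) (e - k • f) ≠ 0 := by
    simp [hee, hff, hef, hfe, hks]
    intro h; exact mul_ne_zero hR.two hk0 (by linear_combination -h)
  obtain ⟨s, hs, -, hsx⟩ := hR.refl2 (he.sub hf) (he.sub (hf.smul hk)) q1 q2
  have h2k := mul_ne_zero hR.two hk0
  have a1 : A (e - f) (e - f) = -2 := by simp [hee, hff, hef, hfe]; ring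
  have a2 : A (e - k • f) (e - k • f) = -(2 * k) := by simp [hee, hff, hef, hfe, hks]; ring
  have b1 : A (e - k • f) e = -k := by simp [hee, hfe, hks]
  have b2 : A (e - k • f) f = 1 := by simp [hff, hef]
  have c1 : A (e - f) e = -1 := by simp [hee, hfe]
  have c2 : A (e - f) f = 1 := by simp [hff, hef]
  refine ⟨s, hs, ?_, ?_, fun z h1 h2 => ?_⟩
  · have e1 : refl A (e - k • f) e = k • f := by
      rw [refl, a2, b1, show 2 * -k / -(2 * k) = 1 by rw [mul_neg, neg_div_neg_eq, div_self h2k]]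
      module
    rw [hsx, e1, refl, map_smul, c2, a1, smul_eq_mul,
      show 2 * (k * 1) / (-2 : F) = -k by rw [mul_one, div_neg, mul_div_cancel_left₀ _ hR.two]]
    module
  · have e1 : refl A (e - k • f) f = k⁻¹ • e := by
      rw [refl, a2, b2, show 2 * (1 : F) / -(2 * k) = -k⁻¹ by rw [mul_one, div_neg, div_mul_eq_div_div, div_self hR.two, one_div],
        neg_smul, sub_neg_eq_add, smul_sub, smul_smul, inv_mul_cancel₀ hk0, one_smul]
      abel
    rw [hsx, e1, refl, map_smul, c1, a1, smul_eq_mul,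
      show 2 * (k⁻¹ * -1) / (-2 : F) = k⁻¹ by rw [mul_neg_one, mul_neg, neg_div_neg_eq, mul_div_cancel_left₀ _ hR.two]]
    module
  · rw [hsx, refl_fix (c := e - k • f) (by simp [h1, h2]), refl_fix (c := e - f) (by simp [h1, h2])]

omit hR in
theorem conj_apply {g t : (Fin 4 → F) ≃ₗ[F] (Fin 4 → F)} (x : Fin 4 → F) : (g * t * g⁻¹) (g x) = g (t x) := by
  rw [LinearEquiv.mul_apply, LinearEquiv.mul_apply, inv_apply]

/-- rational values of a binary form -/
theorem conic {P R c : F} (hP : P ∈ F₀) (hP0 : P ≠ 0) (hRm : R ∈ F₀) (hR0 : R ≠ 0) (hc : c ∈ F₀) :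
    ∃ x ∈ F₀, ∃ y ∈ F₀, P * (x * x) + R * (y * y) = c := by
  haveI : Fintype F₀ := Fintype.ofFinite F₀
  have hodd : Fintype.card F₀ % 2 = 1 := by
    by_contra h
    have : ringChar F₀ = 2 := FiniteField.even_card_iff_char_two.2 (by omega)
    haveI := ringChar.of_eq this
    exact hR.two (congrArg Subtype.val (CharTwo.two_eq_zero (R := F₀)))
  have hP' : (⟨P, hP⟩ : F₀) ≠ 0 := fun h => hP0 (congrArg Subtype.val h)
  have hR' : (⟨R, hRm⟩ : F₀) ≠ 0 := fun h => hR0 (congrArg Subtype.val h)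
  obtain ⟨x, y, hxy⟩ := FiniteField.exists_root_sum_quadratic
    (f := Polynomial.C (⟨P, hP⟩ : F₀) * Polynomial.X ^ 2 + Polynomial.C (-⟨c, hc⟩ : F₀))
    (g := Polynomial.C (⟨R, hRm⟩ : F₀) * Polynomial.X ^ 2)
    (by rw [Polynomial.degree_add_eq_left_of_degree_lt (lt_of_le_of_lt Polynomial.degree_C_le (by
          rw [Polynomial.degree_C_mul_X_pow 2 hP']; norm_num)), Polynomial.degree_C_mul_X_pow 2 hP']
        rfl)
    (Polynomial.degree_C_mul_X_pow 2 hR') hodd
  simp only [Polynomial.eval_add, Polynomial.eval_mul, Polynomial.eval_C, Polynomial.eval_pow, Polynomial.eval_X] at hxy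
  have hxy' : P * (x : F) ^ 2 + -c + R * (y : F) ^ 2 = 0 := congrArg Subtype.val hxy
  exact ⟨x, x.2, y, y.2, by linear_combination hxy'⟩

end Real

end Cfsg.Agent.ClassicalMax.SU4.Sub.Orth
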