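import Cfsg.Agent.ClassicalMax.SU4.SubOdd

/-!
Subfield groups of odd prime degree in four-dimensional special unitary groups: the case of characteristic two and
the maximality theorem.
-/

set_option autoImplicit false
set_option linter.unusedSectionVars false
set_option linter.unusedSimpArgs false
set_option linter.style.haveILetI false

namespace Cfsg.Agent.ClassicalMax.SU4.Sub.Odd

open Module Cfsg.Agent.Classical Cfsg.Agent.ClassicalMax Cfsg.Agent.ClassicalMax.Subfield

variable {F : Type*} [Field F] [Fintype F] {σ : F →+* F} {F₀ : Subfield F}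
  {A : (Fin 4 → F) →ₛₗ[σ] (Fin 4 → F) →ₗ[F] F} {X : Subgroup ((Fin 4 → F) ≃ₗ[F] (Fin 4 → F))} {k β : F} {r : ℕ}

namespace OddDeg

variable (hD : OddDeg F₀ A X k β r)
include hD

/-- a rational vector orthogonal to one and paired with another -/
theorem partner_perp {u w : Fin 4 → F} (hu : RV F₀ u) (hw : RV F₀ w) (huw : A u w = 0) (hww : A w w = 0)
    (hu0 : u ≠ 0) (hn : w ∉ F ∙ u) :
    ∃ f, RV F₀ f ∧ A f f = 0 ∧ A u f = 0 ∧ A w f = 1 ∧ A f w = 1 := by
  have hO := hD.toOver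
  obtain ⟨j, hj⟩ := exists_basis_ne hO.herm hu0
  obtain ⟨i, hi⟩ : ∃ i, A w (Pi.single i 1 - (A u (Pi.single i 1) / A u (Pi.single j 1)) • Pi.single j 1) ≠ 0 := by
    by_contra! hc
    set t := A w (Pi.single j 1) / A u (Pi.single j 1)
    have hw' : w = σ t • u := sub_eq_zero.1 (hO.herm.nondeg _ fun y => by
      rw [eq_sum_single y, map_sum]
      refine Finset.sum_eq_zero fun i _ => ?_
      have h1 := hc i
      rw [map_sub, map_smul, smul_eq_mul, sub_eq_zero] at h1
      simp [hO.invol, h1, t]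
      right
      field_simp
      ring)
    exact hn (Submodule.mem_span_singleton.2 ⟨σ t, hw'.symm⟩)
  set y := Pi.single i (1 : F) - (A u (Pi.single i 1) / A u (Pi.single j 1)) • Pi.single j 1 with hy
  have hyR : RV F₀ y := (rv_single i).sub ((rv_single j).smul
    (F₀.div_mem (hO.form _ _ hu (rv_single i)) (hO.form _ _ hu (rv_single j))))
  have huy : A u y = 0 := by rw [hy, map_sub, map_smul, smul_eq_mul, div_mul_cancel₀ _ hj, sub_self]
  set z := (A w y)⁻¹ • y with hz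
  have hzR : RV F₀ z := hyR.smul (F₀.inv_mem (hO.form _ _ hw hyR))
  have hwz : A w z = 1 := by rw [hz, map_smul, smul_eq_mul, inv_mul_cancel₀ hi]
  have hzw : A z w = 1 := by rw [← hO.symm', hwz, map_one]
  have huz : A u z = 0 := by rw [hz, map_smul, huy, smul_zero]
  obtain ⟨μ, hμ, hμz⟩ := hO.self_half hzR
  refine ⟨z - μ • w, hzR.sub (hw.smul hμ), ?_, by simp [huz, huw], by simp [hwz, hww], by simp [hzw, hww]⟩
  simp [hwz, hzw, hww]
  linear_combination -hμz

/-- a transvection on a rational totally isotropic line has a rational centre -/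
theorem seg (hS : Strict F₀ A X) {u w : Fin 4 → F} (hu : RV F₀ u) (hw : RV F₀ w) (huu : A u u = 0) (hww : A w w = 0)
    (huw : A u w = 0) (hu0 : u ≠ 0) (hn : w ∉ F ∙ u) {s c : F} (hc : c + σ c = 0) (hc0 : c ≠ 0)
    (h : Tv A (w + s • u) c ∈ X) : s ∈ F₀ := by
  have hO := hD.toOver
  have hwu := hO.swap huw
  obtain ⟨f, hf, hff, huf, hwf, hfw⟩ := hD.partner_perp hu hw huw hww hu0 hn
  have hyy : A (w + s • u) (w + s • u) = 0 := by simp [huu, hww, huw, hwu]
  have hall : ∀ x ∈ F₀, Tv A (w + (s + x) • u) c ∈ X := fun x hx => by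
    have hew : A u (-σ x • f) = 0 := by simp [huf]
    have hg := hO.sg_rat hu (hf.smul (F₀.neg_mem (hO.stab x hx))) huu hew F₀.zero_mem (by simp [hff])
    have e : sg A u (-σ x • f) 0 (w + s • u) = w + (s + x) • u := by
      rw [sg_apply huu hew (hO.swap hew)]
      simp [huu, huw, hfw, hO.swap huf, hO.invol]
      module
    rw [← e]
    exact hO.conj_Tv_mem hg hyy h
  -- the parameter is rational
  have hcF : c ∈ F₀ := by
    obtain ⟨μ, hμF, hμ⟩ := hO.half 1 F₀.one_mem (map_one σ)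
    have e := Tv_diff huu hww huw hwu c s (-μ) 1
    rw [show -c * (-μ * σ 1 + 1 * σ (-μ)) = c by rw [map_one, map_neg]; linear_combination c * hμ] at e
    refine hS u c hu hu0 huu hc ?_
    rw [← e]
    refine mul_mem (mul_mem (mul_mem ?_ ?_) (inv_mem ?_)) (inv_mem h)
    · exact hall _ (F₀.neg_mem hμF)
    · exact hall _ F₀.one_mem
    · rw [add_assoc]; exact hall _ (F₀.add_mem (F₀.neg_mem hμF) F₀.one_mem)
  have hrat : ∀ x ∈ F₀, Tv A (w + x • u) c ∈ X := fun x hx =>
    hO.Tv_rat (hw.add (hu.smul hx)) (by simp [huu, hww, huw, hwu]) hcF hc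
  have htr : ∀ x ∈ F₀, s * σ x + x * σ s ∈ F₀ := fun x hx => by
    have e := Tv_diff huu hww huw hwu c 0 s x
    simp only [zero_add] at e
    have hm : Tv A u (-c * (s * σ x + x * σ s)) ∈ X := by
      rw [← e]
      exact mul_mem (mul_mem (mul_mem h (hrat x hx)) (inv_mem (hall x hx))) (inv_mem (hrat 0 F₀.zero_mem))
    have hsk : -c * (s * σ x + x * σ s) + σ (-c * (s * σ x + x * σ s)) = 0 := by
      rw [map_mul, map_neg, map_add, map_mul, map_mul, hO.invol, hO.invol]
      linear_combination (-(s * σ x + x * σ s)) * hc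
    have h1 := F₀.div_mem (hS u _ hu hu0 huu hsk hm) (F₀.neg_mem hcF)
    rwa [mul_div_cancel_left₀ _ (neg_ne_zero.2 hc0)] at h1
  have : σ s ∈ F₀ := hO.ext _ fun y hy => by
    have h1 := F₀.mul_mem hD.kF (htr (y / k) (F₀.div_mem hy hD.kF))
    convert h1 using 1
    simp [hD.ks, hO.invol]
    field_simp [hD.k0]
    ring
  simpa [hO.invol] using hO.stab _ this

/-- the centraliser of a rational involution is rational -/
theorem commute_rat (h2 : (2 : F) = 0) (hS : Strict F₀ A X) {z h : (Fin 4 → F) ≃ₗ[F] (Fin 4 → F)} (hz : z ∈ X)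
    (hzr : Ratty F₀ z) (hz1 : z ≠ 1) (hz2 : z * z = 1) (hh : h ∈ X) (hc : h * z = z * h) : Ratty F₀ h := by
  classical
  have hO := hD.toOver
  haveI : CharP F 2 := CharTwo.of_one_ne_zero_of_two_eq_zero one_ne_zero h2
  have hzz : ∀ x, z (z x) = x := fun x => LinearEquiv.congr_fun hz2 x
  -- the involution is rational
  have hzR : ∀ y, RV F₀ y → RV F₀ (z y) := by
    obtain ⟨c, hc0, hci⟩ := hzr
    have hL : ∀ y, RV F₀ y → RV F₀ (c • z y) := fun y hy => RV.map (L := c • z.toLinearMap) (fun i => hci i) hy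
    set e : Fin 4 → F := Pi.single 0 1 with he
    have h1 := hL _ (hL e (rv_single 0))
    rw [map_smul, hzz, smul_smul] at h1
    have hcc : c * c ∈ F₀ := rv_scalar (rv_single 0) h1 (fun h => by simpa [he] using congrFun h 0) rfl
    haveI : Fintype F₀ := Fintype.ofFinite F₀
    obtain ⟨⟨y, hy⟩, hyc⟩ := FiniteField.isSquare_of_char_two (F := F₀) (by
      refine ringChar.eq_iff.2 (CharTwo.of_one_ne_zero_of_two_eq_zero one_ne_zero ?_)
      exact Subtype.ext h2) ⟨c * c, hcc⟩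
    have hcy : c = y := by
      have e1 : c * c = y * y := congrArg Subtype.val hyc
      rcases mul_self_eq_mul_self_iff.1 e1 with e2 | e2
      · exact e2
      · rwa [CharTwo.neg_eq] at e2
    intro v hv
    have := (hL v hv).smul (F₀.inv_mem (hcy ▸ hy : c ∈ F₀))
    rwa [smul_smul, inv_mul_cancel₀ hc0, one_smul] at this
  let N : (Fin 4 → F) →ₗ[F] (Fin 4 → F) := z.toLinearMap + LinearMap.id
  have hN : ∀ x, N x = z x + x := fun _ => rfl
  have hadd : ∀ x : Fin 4 → F, x + x = 0 := fun x => funext fun i => CharTwo.add_self_eq_zero _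
  have hNN : ∀ x, N (N x) = 0 := fun x => by rw [hN, hN, map_add, hzz, add_comm x, hadd]
  have himg : ∀ x y, A (N x) (N y) = 0 := fun x y => by
    have h1 : A (z x) y = A x (z y) := by rw [← hO.iso hz x (z y), hzz]
    have e : A (N x) (N y) = A x (N (N y)) := by
      simp only [hN, map_add, LinearMap.add_apply, hzz]
      rw [hO.iso hz, h1]
      try ring
    rw [e, hNN, map_zero]
  have hrN : ∀ i, RV F₀ (N (Pi.single i 1)) := fun i => (hzR _ (rv_single i)).add (rv_single i)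
  obtain ⟨i, hi⟩ : ∃ i, N (Pi.single i 1) ≠ 0 := by
    by_contra! hc'
    refine hz1 (LinearEquiv.ext fun x => ?_)
    have h0 : N x = 0 := by rw [eq_sum_single x, map_sum]; simp [hc']
    show z x = x
    rw [hN] at h0
    rw [← add_zero (z x), ← hadd x, ← add_assoc, h0, zero_add]
  set r₀ := N (Pi.single i 1) with hr₀
  have hcz : ∀ x, h (z x) = z (h x) := fun x => LinearEquiv.congr_fun hc x
  have hp : h r₀ = N (h (Pi.single i 1)) := by rw [hr₀, hN, hN, map_add, hcz]
  by_cases hall : ∀ j, N (Pi.single j 1) ∈ F ∙ r₀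
  · refine hO.ratty_of_point hS hh (hrN i) hi (himg _ _) (hrN i) ?_
    rw [hp, eq_sum_single (h (Pi.single i 1)), map_sum]
    exact sum_mem fun j _ => by rw [map_smul]; exact Submodule.smul_mem _ _ (hall j)
  push Not at hall
  obtain ⟨j, hj⟩ := hall
  set r₁ := N (Pi.single j 1) with hr₁
  have hr1 : r₁ ≠ 0 := fun e => hj (by rw [e]; exact zero_mem _)
  have hn0 : r₀ ∉ F ∙ r₁ := fun hm => by
    obtain ⟨t, ht⟩ := Submodule.mem_span_singleton.1 hm
    have ht0 : t ≠ 0 := by rintro rfl; exact hi (by rw [← ht, zero_smul])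
    exact hj (Submodule.mem_span_singleton.2 ⟨t⁻¹, by rw [← ht, inv_smul_smul₀ ht0]⟩)
  obtain ⟨g₀, hg₀, -, hg10, hg00, -⟩ := hD.partner_perp (hrN j) (hrN i) (himg _ _) (himg _ _) hr1 hn0
  obtain ⟨g₁, hg₁, -, hg01, hg11, -⟩ := hD.partner_perp (hrN i) (hrN j) (himg _ _) (himg _ _) hi hj
  replace hg10 : A r₁ g₀ = 0 := hg10
  replace hg00 : A r₀ g₀ = 1 := hg00
  replace hg01 : A r₀ g₁ = 0 := hg01
  replace hg11 : A r₁ g₁ = 1 := hg11
  let T : (Fin 4 → F) →ₗ[F] (Fin 2 → F) := LinearMap.pi ![A r₁, A r₀]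
  have hT : LinearMap.range T = ⊤ := eq_top_iff.2 fun c _ => ⟨c 0 • g₁ + c 1 • g₀, funext fun l => by
    fin_cases l <;> simp [T, hg₁, hg10, hg00, hg01, hg11]⟩
  set W := Submodule.span F (Set.range ![r₁, r₀]) with hW
  have hWle : W ≤ LinearMap.ker T := Submodule.span_le.2 (by
    rintro _ ⟨l, rfl⟩
    refine LinearMap.mem_ker.2 (funext fun m => ?_)
    fin_cases l <;> fin_cases m <;> exact himg _ _)
  have hli : LinearIndependent F ![r₁, r₀] := by
    rw [LinearIndependent.pair_iff]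
    intro s t e
    have e1 := congrArg (fun x => A x g₁) e
    have e2 := congrArg (fun x => A x g₀) e
    simp [hg11, hg01, hg10, hg00] at e1 e2
    exact ⟨by simpa using e1, by simpa using e2⟩
  have hdim : finrank F (LinearMap.ker T) ≤ finrank F W := by
    have h1 := T.finrank_range_add_finrank_ker
    rw [hT, finrank_top, Module.finrank_fin_fun, Module.finrank_fin_fun] at h1
    rw [hW, finrank_span_eq_card hli, Fintype.card_fin]
    omega
  have hpW : h r₀ ∈ W := by
    rw [Submodule.eq_of_le_of_finrank_le hWle hdim, hp]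
    refine LinearMap.mem_ker.2 (funext fun m => ?_)
    fin_cases m <;> exact himg _ _
  obtain ⟨s, t, hst⟩ := Submodule.mem_span_pair.1 (by
    rw [hW, Matrix.range_cons, Matrix.range_cons, Matrix.range_empty, Set.union_empty, Set.singleton_union] at hpW
    exact hpW)
  rcases eq_or_ne t 0 with rfl | ht
  · refine hO.ratty_of_point hS hh (hrN i) hi (himg _ _) (hrN j) ?_
    rw [← hst, zero_smul, add_zero]
    exact Submodule.smul_mem _ _ (Submodule.mem_span_singleton_self _)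
  have hone : (1 : F) + σ 1 = 0 := by rw [map_one]; exact CharTwo.add_self_eq_zero 1
  have h1 := hO.conj_Tv_mem hh (himg _ _) (hO.Tv_rat (hrN i) (himg _ _) F₀.one_mem hone)
  have hpt : h r₀ = t • (r₀ + (s / t) • r₁) := by
    rw [smul_add, smul_smul, mul_div_cancel₀ _ ht, ← hst]; abel
  rw [hpt, Tv_smul (by simp [himg, r₀, r₁]), one_mul] at h1
  have hts : t * σ t + σ (t * σ t) = 0 := by rw [map_mul, hO.invol, mul_comm (σ t)]; exact CharTwo.add_self_eq_zero _
  have hsF := hD.seg hS (hrN j) (hrN i) (himg _ _) (himg _ _) (himg _ _) hr1 hn0 hts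
    (mul_ne_zero ht ((map_ne_zero σ).2 ht)) h1
  refine hO.ratty_of_point hS hh (hrN i) hi (himg _ _) ((hrN i).add ((hrN j).smul hsF)) ?_
  rw [hpt]
  exact Submodule.smul_mem _ _ (Submodule.mem_span_singleton_self _)

/-- in characteristic two strictness forces rationality -/
theorem strict_even (h2 : (2 : F) = 0) (hS : Strict F₀ A X) {g : (Fin 4 → F) ≃ₗ[F] (Fin 4 → F)} (hg : g ∈ X)
    (hgr : ¬ Ratty F₀ g) : False := by
  classical
  have hO := hD.toOver
  haveI : CharP F 2 := CharTwo.of_one_ne_zero_of_two_eq_zero one_ne_zero h2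
  haveI : Finite ((Fin 4 → F) ≃ₗ[F] (Fin 4 → F)) :=
    Finite.of_injective (fun g => (g : (Fin 4 → F) → (Fin 4 → F))) DFunLike.coe_injective
  have hone : (1 : F) + σ 1 = 0 := by rw [map_one]; exact CharTwo.add_self_eq_zero 1
  obtain ⟨e₁, e₂, f₁, f₂, hF⟩ := hD.exists_frame
  set s := Tv A e₁ 1 * Tv A e₂ 1 with hsd
  set p := g e₁ with hpd
  have hpp : A p p = 0 := by rw [hpd, hO.iso hg, hF.e11]
  set T := Tv A p 1 with hTd
  have hsX : s ∈ X := mul_mem (hO.Tv_rat hF.re₁ hF.e11 F₀.one_mem hone) (hO.Tv_rat hF.re₂ hF.e22 F₀.one_mem hone)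
  have hTX : T ∈ X := hO.conj_Tv_mem hg hF.e11 (hO.Tv_rat hF.re₁ hF.e11 F₀.one_mem hone)
  have hs_apply : ∀ x, s x = x + A e₁ x • e₁ + A e₂ x • e₂ := fun x => by
    rw [hsd, LinearEquiv.mul_apply, Tv_apply hF.e11, Tv_apply hF.e22]
    simp [hF.e12]
    abel
  have hadd : ∀ x : Fin 4 → F, x + x = 0 := fun x => funext fun i => CharTwo.add_self_eq_zero _
  have hs2 : s * s = 1 := LinearEquiv.ext fun x => by
    rw [LinearEquiv.mul_apply, hs_apply, hs_apply]
    simp [hF.e11, hF.e22, hF.e12, hF.e21]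
    rw [show x + A e₁ x • e₁ + A e₂ x • e₂ + A e₁ x • e₁ + A e₂ x • e₂ =
      x + (A e₁ x • e₁ + A e₁ x • e₁) + (A e₂ x • e₂ + A e₂ x • e₂) by abel, hadd, hadd, add_zero, add_zero]
  have hT2 : T * T = 1 := by rw [hTd, ← Tv_add hpp, CharTwo.add_self_eq_zero, Tv_zero hpp]
  have hsr : Ratty F₀ s := hO.ratty_of_rat fun x hx => by
    rw [hs_apply]
    exact (hx.add (hF.re₁.smul (hO.form _ _ hF.re₁ hx))).add (hF.re₂.smul (hO.form _ _ hF.re₂ hx))
  have hs1 : s ≠ 1 := fun e => by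
    have h1 := LinearEquiv.congr_fun e f₁
    rw [hs_apply, hF.h11, hF.ef21, one_smul, zero_smul, add_zero] at h1
    exact hF.ne_zero (add_eq_left.1 h1)
  have hTr : Ratty F₀ T := by
    rcases Sp4.exists_common_commute hs2 hT2 with ⟨c, hc, hcs⟩ | ⟨z, hz, hz1, hz2, hsz, hTz⟩
    · exfalso
      have hcX : c ∈ X := (Subgroup.closure_le (K := X)).2
        (by rintro x (rfl | rfl) <;> [exact hsX; exact hTX]) hc
      rw [hTd, Tv_conj (hO.iso hcX) hpp] at hcs
      set q := c p with hq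
      have hqq : A q q = 0 := by rw [hq, hO.iso hcX, hpp]
      have h1 := LinearEquiv.congr_fun hcs f₁
      have h2 := LinearEquiv.congr_fun hcs f₂
      rw [hs_apply, Tv_apply hqq, hF.h11, hF.ef21, one_smul, zero_smul, add_zero, one_mul, add_right_inj] at h1
      rw [hs_apply, Tv_apply hqq, hF.ef12, hF.h22, one_smul, zero_smul, add_zero, one_mul, add_right_inj] at h2
      have h3 := congrArg (A f₁) h2
      rw [hF.fe12, map_smul, smul_eq_mul] at h3
      rcases mul_eq_zero.1 h3.symm with h4 | h4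
      · have := hF.cyc.ne_zero
        exact this (by rw [h2, h4, zero_smul])
      · have h5 := congrArg (A f₁) h1
        rw [hF.g11, map_smul, smul_eq_mul, h4, mul_zero] at h5
        exact one_ne_zero h5
    · have hzX : z ∈ X := (Subgroup.closure_le (K := X)).2
        (by rintro x (rfl | rfl) <;> [exact hsX; exact hTX]) hz
      exact hD.commute_rat h2 hS hzX (hD.commute_rat h2 hS hsX hsr hs1 hs2 hzX hsz.symm) hz1 hz2 hTX hTz
  have hp0 : p ≠ 0 := fun e => hF.ne_zero (g.map_eq_zero_iff.1 e)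
  obtain ⟨l, hl⟩ := exists_basis_ne hO.herm hp0
  have h1 := ratty_Tv hpp hTr (rv_single (F₀ := F₀) l)
  rw [one_mul] at h1
  exact hO.irrational hS hg hgr hF.re₁ hF.ne_zero hF.e11 _ h1
    (Submodule.mem_span_singleton.2 ⟨(A p (Pi.single l 1))⁻¹, by rw [← hpd, inv_smul_smul₀ hl]⟩)

/-- an element outside gives all centres -/
theorem all_centres (hout : ∃ g ∈ X, ¬ Ratty F₀ g) {w : Fin 4 → F} (hw : A w w = 0) : w ∈ Unitary.centres A X := by
  obtain ⟨g, hg, hgr⟩ := hout
  by_cases hS : Strict F₀ A X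
  · by_cases h2 : (2 : F) = 0
    · exact (hD.strict_even h2 hS hg hgr).elim
    · exact (hD.strict_odd h2 hS hg hgr).elim
  · simp only [Strict, not_forall] at hS
    obtain ⟨v, c, hv, hv0, hvv, hc, hcX, hcF⟩ := hS
    exact hD.full_of_extra hv hv0 hvv hc hcX hcF hw

end OddDeg

/-- subfield groups of odd prime degree -/
theorem maximal {F : Type*} [Field F] [Fintype F] (q : ℕ) (hF : Fintype.card F = q ^ 2) (F₀ : Subfield F) (r : ℕ)
    (P : Matrix.GeneralLinearGroup (Fin 4) F) (hr : r.Prime) (hro : Odd r) (hcard : Fintype.card F = Nat.card F₀ ^ r)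
    (hP : Cfsg.Geo.IsFormRationalStructure (Cfsg.hermForm 4 F q) F₀ 1 P) :
    Cfsg.Geo.IsMaximalIn (Cfsg.GU 4 F q ⊓ Cfsg.Geo.specialLinear (Fin 4) F)
      (Cfsg.Geo.subfieldSubgroup F₀ P ⊓ (Cfsg.GU 4 F q ⊓ Cfsg.Geo.specialLinear (Fin 4) F)) := by
  classical
  haveI : Fintype F₀ := Fintype.ofFinite F₀
  obtain ⟨σ, hσq, hσ, hfix, hq⟩ := exists_powHom hF
  set L := Herm.fixField σ with hL
  set Φ := F₀.comap L.subtype with hΦ
  have hstab : ∀ a ∈ F₀, σ a ∈ F₀ := fun a ha => by rw [hσq]; exact F₀.pow_mem ha q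
  set A := Subfield.Unit.formP (n := 4) σ 1 P with hAd
  have hAeq : ∀ x y, A x y = hermB 4 σ (glEquiv (Fin 4) F P x) (glEquiv (Fin 4) F P y) := fun x y => one_mul _
  have hform : ∀ u v, RV F₀ u → RV F₀ v → A u v ∈ F₀ := fun u v hu hv => by
    have := hP v u hv hu
    rw [one_mul, hermForm_eq hσq] at this
    rw [hAeq]; exact this
  -- the involution is not trivial on the subfield
  have h0 : 1 < Nat.card F₀ := Finite.one_lt_card
  obtain ⟨b, hb, hbσ⟩ : ∃ b ∈ F₀, σ b ≠ b := by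
    by_contra! hc
    have hle : F₀ ≤ L := fun a ha => hc a ha
    letI : Algebra F₀ L := (Subfield.inclusion hle).toAlgebra
    have h1 := Module.natCard_eq_pow_finrank (K := F₀) (V := L)
    rw [hfix] at h1
    have h2 : Nat.card F₀ ^ r = Nat.card F₀ ^ (finrank F₀ L * 2) := by rw [pow_mul, ← h1, ← hcard, hF]
    have h3 := Nat.pow_right_injective h0 h2
    exact absurd hro (Nat.not_odd_iff_even.2 ⟨finrank F₀ L, by omega⟩)
  set k := b - σ b with hkd
  have hkF : k ∈ F₀ := F₀.sub_mem hb (hstab b hb)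
  have hk0 : k ≠ 0 := sub_ne_zero.2 (Ne.symm hbσ)
  have hk : σ k = -k := by rw [hkd, map_sub, hσ.invol, neg_sub]
  let σ₀ : F₀ →+* F₀ := (σ.comp F₀.subtype).codRestrict F₀ fun a => hstab a a.2
  have hσ₀ : Herm.IsInvol σ₀ :=
    ⟨fun h => hbσ (congrArg Subtype.val (RingHom.congr_fun h ⟨b, hb⟩)), fun a => Subtype.ext (hσ.invol a)⟩
  have hhalf : ∀ a ∈ F₀, σ a = a → ∃ μ ∈ F₀, μ + σ μ = a := fun a ha has => by
    obtain ⟨μ, hμ⟩ := Herm.exists_trace hσ₀ (a := ⟨a, ha⟩) (Subtype.ext has)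
    exact ⟨μ, μ.2, congrArg Subtype.val hμ⟩
  have hnrm : ∀ a ∈ F₀, σ a = a → ∃ θ ∈ F₀, θ * σ θ = a := fun a ha has => by
    obtain ⟨μ, hμ⟩ := Herm.exists_norm hσ₀ (a := ⟨a, ha⟩) (Subtype.ext has)
    exact ⟨μ, μ.2, congrArg Subtype.val hμ⟩
  have hext : ∀ z : F, (∀ x ∈ F₀, x * z - σ (x * z) ∈ F₀) → z ∈ F₀ := fun z hz => by
    have h1 := hz 1 F₀.one_mem
    have h2 := hz b hb
    rw [one_mul] at h1
    have h3 := F₀.div_mem (F₀.sub_mem h2 (F₀.mul_mem (hstab b hb) h1)) hkF
    rwa [show b * z - σ (b * z) - σ b * (z - σ z) = z * k by rw [hkd, map_mul]; ring, mul_div_cancel_right₀ _ hk0] at h3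
  have hcardL : Nat.card L = Nat.card Φ ^ r := by
    have hΦc : Nat.card Φ = Nat.card (Herm.fixField σ₀) := Nat.card_congr
      { toFun := fun x => ⟨⟨((x : L) : F), x.2⟩, Subtype.ext (x : L).2⟩
        invFun := fun y => ⟨⟨((y : F₀) : F), congrArg Subtype.val y.2⟩, (y : F₀).2⟩
        left_inv := fun x => rfl
        right_inv := fun y => rfl }
    have h1 := Herm.card_eq_fix_sq hσ₀
    rw [← hΦc] at h1
    have h2 := Herm.card_eq_fix_sq hσ
    rw [Nat.card_eq_fintype_card (α := F), hcard, h1, ← pow_mul, mul_comm 2 r, pow_mul] at h2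
    exact (Nat.pow_left_injective (by norm_num) h2).symm
  have hset : Herm.IsHerm A → ∀ X, X ≤ Herm.suG A → (∀ s ∈ Herm.suG A, Ratty F₀ s → s ∈ X) → OddDeg F₀ A X k b r :=
    fun hA X hle hrat => ⟨⟨hA, hstab, hform, hhalf, hext, fun z hz h => by
      have := F₀.div_mem (h k hkF hk) hkF
      rwa [mul_div_cancel_left₀ _ hk0] at this, hle, hrat⟩, hkF, hk0, hk, hb, hbσ, hr, hro, hcardL, hnrm⟩
  refine isMaximalIn_sub hσ hσq F₀ P ?_ fun hA X hle hrat hout v hv => (hset hA X hle hrat).all_centres hout hv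
  have hA : Herm.IsHerm A :=
    { toIsInvol := hσ
      symm := fun a b => by rw [hAeq, hAeq]; exact (hermB_isHerm hσ 4).symm _ _
      nondeg := Subfield.Unit.formP_nd hσ one_ne_zero P }
  obtain ⟨e₁, e₂, f₁, f₂, hG⟩ := (hset hA (Herm.suG A) le_rfl fun s hs _ => hs).exists_frame
  obtain ⟨z, hzs, hzF⟩ : ∃ z : F, σ z = z ∧ z ∉ F₀ := by
    by_contra! hc
    have h2 : Nat.card Φ = Nat.card L := Nat.card_congr (Equiv.subtypeUnivEquiv fun x : L => hc x x.2)
    rw [h2] at hcardL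
    have h1 : 1 < Nat.card L := Finite.one_lt_card
    exact hr.ne_one (Nat.pow_right_injective h1 ((pow_one _).trans hcardL)).symm
  refine ⟨e₁, k * z, hG.e11, by rw [map_mul, hk, hzs]; ring, fun h => hzF ?_⟩
  have h1 := ratty_Tv hG.e11 h hG.rf₁
  rw [hG.h11, mul_one] at h1
  have h3 := F₀.div_mem (rv_scalar hG.re₁ h1 hG.ne_zero rfl) hkF
  rwa [mul_div_cancel_left₀ _ hk0] at h3

end Cfsg.Agent.ClassicalMax.SU4.Sub.Odd
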