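import Cfsg.Agent.ClassicalMax.SU4.SubTools

/-!
Rational frames of two hyperbolic pairs and the parameters of transvections at their vectors: one irrational
parameter gives all of them, and then every isotropic vector is a centre.
-/

set_option autoImplicit false
set_option linter.unusedSectionVars false
set_option linter.unusedSimpArgs false
set_option linter.style.haveILetI false

namespace Cfsg.Agent.ClassicalMax.SU4.Sub

open Module Cfsg.Agent.Classical Cfsg.Agent.ClassicalMax Cfsg.Agent.ClassicalMax.Subfield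

section General

variable {F V : Type*} [Field F] [AddCommGroup V] [Module F V] {σ : F →+* F} {A : V →ₛₗ[σ] V →ₗ[F] F}

theorem Tv_inv {v : V} (h : A v v = 0) (c : F) : (Tv A v c)⁻¹ = Tv A v (-c) :=
  inv_eq_of_mul_eq_one_right (by rw [← Tv_add h, add_neg_cancel, Tv_zero h])

/-- second difference of transvections along a totally isotropic line -/
theorem Tv_diff {u w : V} (hu : A u u = 0) (hw : A w w = 0) (huw : A u w = 0) (hwu : A w u = 0) (c m x y : F) :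
    Tv A (w + (m + x) • u) c * Tv A (w + (m + y) • u) c * (Tv A (w + (m + x + y) • u) c)⁻¹ * (Tv A (w + m • u) c)⁻¹ =
      Tv A u (-c * (x * σ y + y * σ x)) := by
  have hz : ∀ a : F, A (w + a • u) (w + a • u) = 0 := fun a => by simp [hu, hw, huw, hwu]
  refine LinearEquiv.ext fun z => ?_
  simp only [Tv_inv (hz _), LinearEquiv.mul_apply, Tv_apply (hz _), Tv_apply hu, map_add, map_smul, map_smulₛₗ,
    LinearMap.add_apply, LinearMap.smul_apply, smul_eq_mul, hu, hw, huw, hwu, RingHom.id_apply, mul_zero, add_zero]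
  module

theorem Tv_cross_apply {u w : V} (hu : A u u = 0) (hw : A w w = 0) (huw : A u w = 0) (hwu : A w u = 0) (c b : F) (z : V) :
    (Tv A (u + b • w) c * Tv A u (-c) * Tv A w (-(c * (b * σ b)))) z =
      z + (c * σ b * A w z) • u + (c * b * A u z) • w := by
  simp only [LinearEquiv.mul_apply, Tv_apply hu, Tv_apply hw,
    Tv_apply (show A (u + b • w) (u + b • w) = 0 by simp [hu, hw, huw, hwu]), map_add, map_smul, map_smulₛₗ,
    LinearMap.add_apply, LinearMap.smul_apply, smul_eq_mul, hu, hw, huw, hwu, RingHom.id_apply, mul_zero, add_zero]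
  module

end General

variable {F : Type*} [Field F] [Fintype F] {σ : F →+* F} {F₀ : Subfield F}
  {A : (Fin 4 → F) →ₛₗ[σ] (Fin 4 → F) →ₗ[F] F} {X : Subgroup ((Fin 4 → F) ≃ₗ[F] (Fin 4 → F))}

/-- two orthogonal rational hyperbolic pairs -/
structure Frame (F₀ : Subfield F) (A : (Fin 4 → F) →ₛₗ[σ] (Fin 4 → F) →ₗ[F] F) (e₁ e₂ f₁ f₂ : Fin 4 → F) : Prop where
  re₁ : RV F₀ e₁
  re₂ : RV F₀ e₂
  rf₁ : RV F₀ f₁
  rf₂ : RV F₀ f₂
  e11 : A e₁ e₁ = 0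
  e22 : A e₂ e₂ = 0
  f11 : A f₁ f₁ = 0
  f22 : A f₂ f₂ = 0
  h11 : A e₁ f₁ = 1
  g11 : A f₁ e₁ = 1
  h22 : A e₂ f₂ = 1
  g22 : A f₂ e₂ = 1
  e12 : A e₁ e₂ = 0
  e21 : A e₂ e₁ = 0
  f12 : A f₁ f₂ = 0
  f21 : A f₂ f₁ = 0
  ef12 : A e₁ f₂ = 0
  fe21 : A f₂ e₁ = 0
  ef21 : A e₂ f₁ = 0
  fe12 : A f₁ e₂ = 0

namespace Frame

variable {e₁ e₂ f₁ f₂ : Fin 4 → F}

theorem cyc (h : Frame F₀ A e₁ e₂ f₁ f₂) : Frame F₀ A e₂ f₁ f₂ e₁ :=
  ⟨h.re₂, h.rf₁, h.rf₂, h.re₁, h.e22, h.f11, h.f22, h.e11, h.h22, h.g22, h.g11, h.h11, h.ef21, h.fe12, h.fe21, h.ef12,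
    h.e21, h.e12, h.f12, h.f21⟩

theorem flip (h : Frame F₀ A e₁ e₂ f₁ f₂) : Frame F₀ A e₁ f₂ f₁ e₂ :=
  ⟨h.re₁, h.rf₂, h.rf₁, h.re₂, h.e11, h.f22, h.f11, h.e22, h.h11, h.g11, h.g22, h.h22, h.ef12, h.fe21, h.fe12, h.ef21,
    h.e12, h.e21, h.f21, h.f12⟩

theorem ne_zero (h : Frame F₀ A e₁ e₂ f₁ f₂) : e₁ ≠ 0 := fun e => by
  have := h.g11
  rw [e, map_zero] at this
  exact zero_ne_one this

theorem span_top (h : Frame F₀ A e₁ e₂ f₁ f₂) : Submodule.span F (Set.range ![e₁, e₂, f₁, f₂]) = ⊤ := by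
  have hli : LinearIndependent F ![e₁, e₂, f₁, f₂] := by
    rw [Fintype.linearIndependent_iff]
    intro g hg
    rw [Fin.sum_univ_four] at hg
    replace hg : g 0 • e₁ + g 1 • e₂ + g 2 • f₁ + g 3 • f₂ = 0 := hg
    have h1 := congrArg (A f₁) hg
    have h2 := congrArg (A f₂) hg
    have h3 := congrArg (A e₁) hg
    have h4 := congrArg (A e₂) hg
    simp [h.g11, h.g22, h.h11, h.h22, h.e11, h.e22, h.f11, h.f22, h.e12, h.e21, h.f12, h.f21, h.ef12, h.ef21, h.fe12,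
      h.fe21] at h1 h2 h3 h4
    intro i
    fin_cases i <;> assumption
  exact hli.span_eq_top_of_card_eq_finrank' (by rw [Fintype.card_fin, Module.finrank_fin_fun])

/-- coordinates in the frame -/
theorem decomp (h : Frame F₀ A e₁ e₂ f₁ f₂) (x : Fin 4 → F) :
    x = A f₁ x • e₁ + A f₂ x • e₂ + A e₁ x • f₁ + A e₂ x • f₂ := by
  obtain ⟨c, rfl⟩ := (Submodule.mem_span_range_iff_exists_fun _).1 (h.span_top ▸ Submodule.mem_top : x ∈ _)
  simp only [Fin.sum_univ_four, Matrix.cons_val_zero, Matrix.cons_val_one, Matrix.cons_val]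
  simp [h.g11, h.g22, h.h11, h.h22, h.e11, h.e22, h.f11, h.f22, h.e12, h.e21, h.f12, h.f21, h.ef12, h.ef21, h.fe12,
    h.fe21]

/-- a rational element moving the first vector by a multiple of the second -/
theorem move (h : Frame F₀ A e₁ e₂ f₁ f₂) (hO : Over F₀ A X) {x : F} (hx : x ∈ F₀) :
    ∃ g ∈ X, g e₁ = e₁ + x • e₂ := by
  have hew : A e₂ (-σ x • f₁) = 0 := by simp [h.ef21]
  refine ⟨_, hO.sg_rat h.re₂ (h.rf₁.smul (F₀.neg_mem (hO.stab x hx))) h.e22 hew F₀.zero_mem (by simp [h.f11]), ?_⟩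
  rw [sg_apply h.e22 hew (hO.swap hew)]
  simp [h.e21, h.g11, hO.invol]

end Frame

/-- a parameter occurring, with all its rational multiples, at all vectors of a frame -/
def Par (F₀ : Subfield F) (A : (Fin 4 → F) →ₛₗ[σ] (Fin 4 → F) →ₗ[F] F) (X : Subgroup ((Fin 4 → F) ≃ₗ[F] (Fin 4 → F)))
    (e₁ e₂ f₁ f₂ : Fin 4 → F) (c : F) : Prop :=
  c + σ c = 0 ∧ ∀ t ∈ F₀, σ t = t →
    Tv A e₁ (c * t) ∈ X ∧ Tv A e₂ (c * t) ∈ X ∧ Tv A f₁ (c * t) ∈ X ∧ Tv A f₂ (c * t) ∈ X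

namespace Over

variable (hO : Over F₀ A X) {e₁ e₂ f₁ f₂ : Fin 4 → F} (hF : Frame F₀ A e₁ e₂ f₁ f₂)
include hO hF

theorem step {c : F} (h : Tv A e₁ c ∈ X) {t : F} (ht : t ∈ F₀) (hts : σ t = t) : Tv A e₂ (c * t) ∈ X := by
  obtain ⟨μ, hμF, hμ⟩ := hO.half t ht hts
  have hall : ∀ x ∈ F₀, Tv A (e₁ + x • e₂) c ∈ X := fun x hx => by
    obtain ⟨g, hg, hge⟩ := hF.move hO hx
    rw [← hge]
    exact hO.conj_Tv_mem hg hF.e11 h
  have e := Tv_diff hF.e22 hF.e11 hF.e21 hF.e12 c 0 (-μ) 1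
  rw [show -c * (-μ * σ 1 + 1 * σ (-μ)) = c * t by rw [map_one, map_neg, ← hμ]; ring] at e
  rw [← e]
  refine mul_mem (mul_mem (mul_mem ?_ ?_) (inv_mem ?_)) (inv_mem ?_)
  · exact hall _ (F₀.add_mem F₀.zero_mem (F₀.neg_mem hμF))
  · exact hall _ (F₀.add_mem F₀.zero_mem F₀.one_mem)
  · exact hall _ (F₀.add_mem (F₀.add_mem F₀.zero_mem (F₀.neg_mem hμF)) F₀.one_mem)
  · exact hall _ F₀.zero_mem

theorem par_of {c : F} (hc : c + σ c = 0) (h : Tv A e₂ c ∈ X) : Par F₀ A X e₁ e₂ f₁ f₂ c := by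
  refine ⟨hc, fun t ht hts => ?_⟩
  have h1 : ∀ t ∈ F₀, σ t = t → Tv A f₁ (c * t) ∈ X := fun t ht hts => hO.step hF.cyc h ht hts
  have h2 : ∀ t ∈ F₀, σ t = t → Tv A f₂ (c * t) ∈ X := fun t ht hts => by
    simpa using hO.step hF.cyc.cyc (h1 t ht hts) F₀.one_mem (map_one σ)
  have h3 : ∀ t ∈ F₀, σ t = t → Tv A e₁ (c * t) ∈ X := fun t ht hts => by
    simpa using hO.step hF.cyc.cyc.cyc (h2 t ht hts) F₀.one_mem (map_one σ)
  exact ⟨h3 t ht hts, by simpa using hO.step hF (h3 t ht hts) F₀.one_mem (map_one σ), h1 t ht hts, h2 t ht hts⟩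

/-- the cross element of the first two vectors -/
theorem cross {c : F} (hc : Par F₀ A X e₁ e₂ f₁ f₂ c) {b : F} (hb : b ∈ F₀) :
    ∃ g ∈ X, ∀ z, g z = z + (c * σ b * A e₂ z) • e₁ + (c * b * A e₁ z) • e₂ := by
  have hN : σ (b * σ b) = b * σ b := by rw [map_mul, hO.invol, mul_comm]
  have h1 : Tv A e₁ c ∈ X := by simpa using (hc.2 1 F₀.one_mem (map_one σ)).1
  have h2 := (hc.2 _ (F₀.mul_mem hb (hO.stab b hb)) hN).2.1
  obtain ⟨g, hg, hge⟩ := hF.move hO hb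
  have h3 : Tv A (e₁ + b • e₂) c ∈ X := by rw [← hge]; exact hO.conj_Tv_mem hg hF.e11 h1
  refine ⟨_, ?_, Tv_cross_apply hF.e11 hF.e22 hF.e12 hF.e21 c b⟩
  rw [← Tv_inv hF.e11, ← Tv_inv hF.e22]
  exact mul_mem (mul_mem h3 (inv_mem h1)) (inv_mem h2)

theorem par_add {c d : F} (hc : Par F₀ A X e₁ e₂ f₁ f₂ c) (hd : Par F₀ A X e₁ e₂ f₁ f₂ d) :
    Par F₀ A X e₁ e₂ f₁ f₂ (c + d) := by
  refine ⟨by rw [map_add]; linear_combination hc.1 + hd.1, fun t ht hts => ?_⟩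
  obtain ⟨a₁, a₂, a₃, a₄⟩ := hc.2 t ht hts
  obtain ⟨b₁, b₂, b₃, b₄⟩ := hd.2 t ht hts
  rw [add_mul, Tv_add hF.e11, Tv_add hF.e22, Tv_add hF.f11, Tv_add hF.f22]
  exact ⟨mul_mem a₁ b₁, mul_mem a₂ b₂, mul_mem a₃ b₃, mul_mem a₄ b₄⟩

theorem par_mul_mul {c c₁ c₂ : F} (hc : Par F₀ A X e₁ e₂ f₁ f₂ c) (h₁ : Par F₀ A X e₁ e₂ f₁ f₂ c₁)
    (h₂ : Par F₀ A X e₁ e₂ f₁ f₂ c₂) {t : F} (ht : t ∈ F₀) (hts : σ t = t) :
    Par F₀ A X e₁ e₂ f₁ f₂ (c * c₁ * c₂ * t) := by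
  have hs₁ : σ c₁ = -c₁ := eq_neg_of_add_eq_zero_right h₁.1
  have hs₂ : σ c₂ = -c₂ := eq_neg_of_add_eq_zero_right h₂.1
  have hs : σ c = -c := eq_neg_of_add_eq_zero_right hc.1
  refine hO.par_of hF (by rw [map_mul, map_mul, map_mul, hs, hs₁, hs₂, hts]; ring) ?_
  obtain ⟨μ, hμF, hμ⟩ := hO.half t ht hts
  have hf : Tv A f₁ c ∈ X := by simpa using (hc.2 1 F₀.one_mem (map_one σ)).2.2.1
  obtain ⟨g₁, hg₁, e1⟩ := hO.cross hF h₁ hμF
  obtain ⟨g₂, hg₂, e2⟩ := hO.cross hF h₂ F₀.one_mem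
  have hx : g₁ f₁ = f₁ + (0 + c₁ * μ) • e₂ := by rw [e1]; simp [hF.ef21, hF.h11]
  have hy : g₂ f₁ = f₁ + (0 + c₂) • e₂ := by rw [e2]; simp [hF.ef21, hF.h11]
  have hxy : (g₂ * g₁) f₁ = f₁ + (0 + c₁ * μ + c₂) • e₂ := by
    rw [LinearEquiv.mul_apply, hx, map_add, map_smul, hy, e2]
    simp [hF.e22, hF.e12]
    module
  have e := Tv_diff hF.e22 hF.f11 hF.ef21 hF.fe12 c 0 (c₁ * μ) c₂
  rw [show -c * (c₁ * μ * σ c₂ + c₂ * σ (c₁ * μ)) = c * c₁ * c₂ * t by rw [map_mul, hs₁, hs₂, ← hμ]; ring] at e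
  rw [← e]
  refine mul_mem (mul_mem (mul_mem ?_ ?_) (inv_mem ?_)) (inv_mem ?_)
  · rw [← hx]; exact hO.conj_Tv_mem hg₁ hF.f11 hf
  · rw [← hy]; exact hO.conj_Tv_mem hg₂ hF.f11 hf
  · rw [← hxy]; exact hO.conj_Tv_mem (mul_mem hg₂ hg₁) hF.f11 hf
  · simpa using hf

/-- with all parameters at hand, the second coordinate can be removed -/
theorem kill (hall : ∀ c, c + σ c = 0 → Par F₀ A X e₁ e₂ f₁ f₂ c) {β : F} (hβ : β ∈ F₀) (hβσ : σ β ≠ β) (v : Fin 4 → F)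
    (hv : A e₁ v ≠ 0) :
    ∃ h ∈ X, A e₁ (h v) = A e₁ v ∧ A e₂ (h v) = A e₂ v ∧ A f₂ (h v) = 0 := by
  set l := -(A f₂ v) / A e₁ v with hl
  have e3 : l * A e₁ v = -(A f₂ v) := div_mul_cancel₀ _ hv
  clear_value l
  clear hl
  have hd : β - σ β ≠ 0 := sub_ne_zero.2 (Ne.symm hβσ)
  set c₂ := (l + σ l) / (β - σ β) with hc₂
  have h2 : c₂ + σ c₂ = 0 := by
    rw [hc₂, map_div₀, map_add, map_sub, hO.invol, hO.invol, ← neg_sub β (σ β), div_neg, add_comm (σ l) l, add_neg_cancel]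
  set c₁ := l - c₂ * β with hc₁
  have h1 : c₁ + σ c₁ = 0 := by
    have e : c₂ * (β - σ β) = l + σ l := div_mul_cancel₀ _ hd
    rw [hc₁, map_sub, map_mul, eq_neg_of_add_eq_zero_right h2]
    linear_combination -e
  obtain ⟨g₁, hg₁, e1⟩ := hO.cross hF (hall c₁ h1) F₀.one_mem
  obtain ⟨g₂, hg₂, e2⟩ := hO.cross hF (hall c₂ h2) hβ
  refine ⟨g₁ * g₂, mul_mem hg₁ hg₂, ?_, ?_, ?_⟩ <;>
    simp [LinearEquiv.mul_apply, e1, e2, hF.e11, hF.e12, hF.e21, hF.e22, hF.fe21, hF.g22]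
  rw [hc₁] at *
  linear_combination e3

theorem centre_of_first (hall : ∀ c, c + σ c = 0 → Par F₀ A X e₁ e₂ f₁ f₂ c)
    (hall' : ∀ c, c + σ c = 0 → Par F₀ A X e₁ f₂ f₁ e₂ c) {β : F} (hβ : β ∈ F₀) (hβσ : σ β ≠ β) (v : Fin 4 → F)
    (hvv : A v v = 0) (hv : A e₁ v ≠ 0) : v ∈ Unitary.centres A X := by
  have hB := hO.herm
  obtain ⟨h, hh, a1, a2, a3⟩ := hO.kill hF hall hβ hβσ v hv
  obtain ⟨k, hk, b1, b2, b3⟩ := hO.kill hF.flip hall' hβ hβσ (h v) (by rwa [a1])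
  set w := k (h v) with hw
  rw [a3] at b2
  rw [a1] at b1
  have hg : A e₁ w ≠ 0 := by rwa [b1]
  have hwe : w = A f₁ w • e₁ + A e₁ w • f₁ := by
    conv_lhs => rw [hF.decomp w, b2, b3]
    simp
  have hww : A w w = 0 := by rw [hw, hO.iso hk, hO.iso hh, hvv]
  set a := A f₁ w
  set g := A e₁ w
  have hag : a / g + σ (a / g) = 0 := by
    rw [hwe] at hww
    simp [hF.e11, hF.f11, hF.h11, hF.g11] at hww
    rw [map_div₀, div_add_div _ _ hg ((map_ne_zero σ).2 hg), div_eq_zero_iff]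
    exact Or.inl (by linear_combination hww)
  have hcen : ∀ {x : Fin 4 → F}, A x x = 0 → (∀ c, c + σ c = 0 → Tv A x c ∈ X) → x ∈ Unitary.centres A X :=
    fun hx h => ⟨hx, fun hx' c hc => by rw [← Tv_eq hx']; exact h c hc⟩
  have hf : f₁ ∈ Unitary.centres A X := hcen hF.f11 fun c hc => by
    simpa using ((hall c hc).2 1 F₀.one_mem (map_one σ)).2.2.1
  have he : e₁ ∈ Unitary.centres A X := hcen hF.e11 fun c hc => by
    simpa using ((hall c hc).2 1 F₀.one_mem (map_one σ)).1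
  have h1 := Unitary.move_mem_centres hB hf he hag
  rw [hF.h11, mul_one] at h1
  have h2 := Unitary.smul_mem_centres hB h1 g
  rw [smul_add, smul_smul, mul_div_cancel₀ _ hg, add_comm, ← hwe] at h2
  have hkh : k * h ∈ X := mul_mem hk hh
  have h3 := Unitary.map_mem_centres hB h2 (inv_mem hkh) (hO.iso (inv_mem hkh))
  rwa [hw, ← LinearEquiv.mul_apply k h v, inv_apply] at h3

end Over

end Cfsg.Agent.ClassicalMax.SU4.Sub
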