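import Cfsg.Agent.ClassicalMax.SU4.SubTools

/-!
The symplectic subfield group is maximal in the four-dimensional special unitary group.
-/

set_option autoImplicit false
set_option linter.unusedSectionVars false
set_option linter.style.haveILetI false

namespace Cfsg.Agent.ClassicalMax.SU4.Sub.Symp

open Module Cfsg.Agent.Classical Cfsg.Agent.ClassicalMax Cfsg.Agent.ClassicalMax.Subfield

variable {F : Type*} [Field F] [Fintype F] {σ : F →+* F} {F₀ : Subfield F}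
  {A : (Fin 4 → F) →ₛₗ[σ] (Fin 4 → F) →ₗ[F] F}

/-- the hypotheses on the form -/
structure Setting (F₀ : Subfield F) (A : (Fin 4 → F) →ₛₗ[σ] (Fin 4 → F) →ₗ[F] F) (ζ : F) : Prop where
  herm : Herm.IsHerm A
  fix : ∀ a, a ∈ F₀ ↔ σ a = a
  z0 : ζ ≠ 0
  zs : σ ζ = -ζ
  form : ∀ u v : Fin 4 → F, RV F₀ u → RV F₀ v → ζ * A u v ∈ F₀
  self : ∀ u : Fin 4 → F, RV F₀ u → A u u = 0

namespace Setting

variable {ζ : F} (hT : Setting F₀ A ζ)
include hT

theorem skew {u v : Fin 4 → F} (hu : RV F₀ u) (hv : RV F₀ v) : A v u = -A u v := by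
  have h1 := hT.self _ (hu.add hv)
  simp only [map_add, LinearMap.add_apply, hT.self u hu, hT.self v hv] at h1
  linear_combination h1

theorem inv_skew {u v : Fin 4 → F} (hu : RV F₀ u) (hv : RV F₀ v) : (A v u)⁻¹ + σ (A v u)⁻¹ = 0 := by
  rw [map_inv₀, hT.herm.symm v u, hT.skew hv hu, inv_neg, add_neg_cancel]

theorem Tv_ratty {v : Fin 4 → F} (hv : RV F₀ v) {c : F} (hc : c + σ c = 0) : Ratty F₀ (Tv A v c) :=
  ⟨1, one_ne_zero, fun i => by
    rw [one_smul, Tv_apply (hT.self v hv)]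
    refine (rv_single i).add (hv.smul ?_)
    have h1 : c / ζ ∈ F₀ := (hT.fix _).2 (by
      rw [map_div₀, hT.zs, eq_neg_of_add_eq_zero_right hc, neg_div_neg_eq])
    have := F₀.mul_mem h1 (hT.form _ _ hv (rv_single i))
    rwa [← mul_assoc, div_mul_cancel₀ _ hT.z0] at this⟩

theorem split_orth {ξ : F} (hξ : σ ξ ≠ ξ) {a b : Fin 4 → F} (ha : RV F₀ a) (hb : RV F₀ b)
    (h : A (a + ξ • b) (a + ξ • b) = 0) : A a b = 0 := by
  simp only [map_add, map_smul, map_smulₛₗ, LinearMap.add_apply, LinearMap.smul_apply, smul_eq_mul, hT.self a ha, hT.self b hb,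
    hT.skew ha hb] at h
  have : (ξ - σ ξ) * A a b = 0 := by linear_combination h
  exact (mul_eq_zero.1 this).resolve_left (sub_ne_zero.2 (Ne.symm hξ))

/-- rational vectors outside a point are separated inside its orthogonal -/
theorem exists_sep {a b : Fin 4 → F} (ha : RV F₀ a) (ha0 : a ≠ 0) (hb : RV F₀ b) (hn : b ∉ F ∙ a) :
    ∃ r, RV F₀ r ∧ A a r = 0 ∧ A b r ≠ 0 := by
  obtain ⟨j, hj⟩ := exists_basis_ne hT.herm ha0
  by_contra! hc
  have h : ∀ i, A b (Pi.single i 1) = A b (Pi.single j 1) / A a (Pi.single j 1) * A a (Pi.single i 1) := fun i => by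
    have hcoef : A a (Pi.single i 1) / A a (Pi.single j 1) ∈ F₀ := by
      have := F₀.div_mem (hT.form _ _ ha (rv_single i)) (hT.form _ _ ha (rv_single j))
      rwa [mul_div_mul_left _ _ hT.z0] at this
    have h1 := hc (Pi.single i 1 - (A a (Pi.single i 1) / A a (Pi.single j 1)) • Pi.single j 1)
      ((rv_single i).sub ((rv_single j).smul hcoef)) (by rw [map_sub, map_smul, smul_eq_mul, div_mul_cancel₀ _ hj, sub_self])
    rw [map_sub, map_smul, smul_eq_mul, sub_eq_zero] at h1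
    rw [h1]; field_simp
  set t := A b (Pi.single j 1) / A a (Pi.single j 1)
  refine hn (Submodule.mem_span_singleton.2 ⟨σ t, (sub_eq_zero.1 (hT.herm.nondeg _ fun y => ?_)).symm⟩)
  rw [eq_sum_single y, map_sum]
  refine Finset.sum_eq_zero fun i _ => ?_
  rw [map_smul, map_sub, LinearMap.sub_apply, map_smulₛₗ, LinearMap.smul_apply, hT.herm.invol, h, smul_eq_mul,
    smul_eq_mul, sub_self, mul_zero]

/-- all isotropic vectors are centres -/
theorem all_centres {X : Subgroup ((Fin 4 → F) ≃ₗ[F] (Fin 4 → F))} (hle : X ≤ Herm.suG A)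
    (hrat : ∀ s ∈ Herm.suG A, Ratty F₀ s → s ∈ X) (hout : ∃ g ∈ X, ¬ Ratty F₀ g) {w : Fin 4 → F} (hw : A w w = 0) :
    w ∈ Unitary.centres A X := by
  have hA := hT.herm
  have hiso : ∀ {g}, g ∈ X → ∀ x y, A (g x) (g y) = A x y := fun hg => (hle hg).1
  have hTX : ∀ (v : Fin 4 → F) (c : F), RV F₀ v → c + σ c = 0 → Tv A v c ∈ X := fun v c hv hc =>
    hrat _ (by rw [Tv_eq (hT.self v hv)]; exact Herm.tvU_mem hA (hT.self v hv) hc) (hT.Tv_ratty hv hc)
  have hcen : ∀ v, RV F₀ v → v ∈ Unitary.centres A X := fun v hv =>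
    ⟨hT.self v hv, fun hv' c hc => by rw [← Tv_eq hv']; exact hTX v c hv hc⟩
  obtain ⟨ξ, hξ⟩ := Herm.exists_moved hA.toIsInvol
  obtain ⟨g, hg, hgr⟩ := hout
  -- an irrational centre
  obtain ⟨v, hv, hirr⟩ : ∃ v, RV F₀ v ∧ ∀ r, RV F₀ r → g v ∉ F ∙ r := by
    by_contra! hc
    have hex : ∀ i, ∃ r, RV F₀ r ∧ ∃ a : F, g (Pi.single i 1) = a • r := fun i => by
      obtain ⟨r, hr, hm⟩ := hc _ (rv_single i)
      obtain ⟨a, ha⟩ := Submodule.mem_span_singleton.1 hm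
      exact ⟨r, hr, a, ha.symm⟩
    choose r hr a hra using hex
    have hne : ∀ i, a i ≠ 0 ∧ r i ≠ 0 := fun i => by
      have : g (Pi.single i 1) ≠ 0 := fun h => by simpa using congrFun (g.map_eq_zero_iff.1 h) i
      rw [hra] at this
      exact smul_ne_zero_iff.1 this
    refine hgr ⟨(a 0)⁻¹, inv_ne_zero (hne 0).1, fun i => ?_⟩
    rw [hra, smul_smul]
    refine (hr i).smul ?_
    rcases eq_or_ne i 0 with rfl | hi
    · rw [inv_mul_cancel₀ (hne 0).1]; exact F₀.one_mem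
    have hn : r i ∉ F ∙ r 0 := fun h => by
      obtain ⟨c, hc'⟩ := Submodule.mem_span_singleton.1 h
      have e : g (Pi.single i 1) = g ((a i * c / a 0) • Pi.single 0 1) := by
        rw [map_smul, hra, hra, ← hc', smul_smul, smul_smul, div_mul_cancel₀ _ (hne 0).1]
      simpa [hi] using congrFun (g.injective e) i
    have hn' : r 0 ∉ F ∙ r i := fun h => by
      obtain ⟨c, hc'⟩ := Submodule.mem_span_singleton.1 h
      have hc0 : c ≠ 0 := fun e => (hne 0).2 (by rw [← hc', e, zero_smul])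
      exact hn (Submodule.mem_span_singleton.2 ⟨c⁻¹, by rw [← hc', inv_smul_smul₀ hc0]⟩)
    obtain ⟨u, hu, hum⟩ := hc _ ((rv_single 0).add (rv_single i))
    obtain ⟨s, hs⟩ := Submodule.mem_span_singleton.1 hum
    rw [map_add, hra, hra] at hs
    obtain ⟨f₁, hf₁, h11, h10⟩ := exists_rf_one (hr i) (hr 0) hn'
    obtain ⟨f₂, hf₂, h22, h20⟩ := exists_rf_one (hr 0) (hr i) hn
    have e1 := congrArg f₁ hs
    have e2 := congrArg f₂ hs
    simp [h11, h10] at e1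
    simp [h22, h20] at e2
    have hs0 : s ≠ 0 := fun e => (hne 0).1 (by rw [← e1, e, zero_mul])
    rw [← e1, ← e2, mul_inv, mul_mul_mul_comm, inv_mul_cancel₀ hs0, one_mul, ← div_eq_inv_mul]
    exact F₀.div_mem (hf₂.apply hu) (hf₁.apply hu)
  have hgv := Unitary.map_mem_centres hA (hcen v hv) hg (hiso hg)
  obtain ⟨a, b, ha, hb, hab⟩ := exists_split hT.fix hA.invol hξ (g v)
  by_cases hwr : ∃ r, RV F₀ r ∧ w ∈ F ∙ r
  · obtain ⟨r, hr, hm⟩ := hwr
    obtain ⟨c, rfl⟩ := Submodule.mem_span_singleton.1 hm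
    exact Unitary.smul_mem_centres hA (hcen r hr) c
  push Not at hwr
  obtain ⟨a', b', ha', hb', hab'⟩ := exists_split hT.fix hA.invol hξ w
  have indep : ∀ {p a b : Fin 4 → F}, (∀ r, RV F₀ r → p ∉ F ∙ r) → RV F₀ a → RV F₀ b → p = a + ξ • b →
      a ≠ 0 ∧ b ∉ F ∙ a := by
    intro p a b hp ha hb e
    have ha0 : a ≠ 0 := fun h0 => hp b hb (Submodule.mem_span_singleton.2 ⟨ξ, by rw [e, h0, zero_add]⟩)
    refine ⟨ha0, fun h => ?_⟩
    obtain ⟨c, hc⟩ := Submodule.mem_span_singleton.1 h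
    exact hp a ha (Submodule.mem_span_singleton.2 ⟨1 + ξ * c, by rw [e, ← hc, add_smul, one_smul, smul_smul]⟩)
  obtain ⟨ha0, hna⟩ := indep hirr ha hb hab
  obtain ⟨ha'0, hna'⟩ := indep hwr ha' hb' hab'
  have h1 : A a b = 0 := hT.split_orth hξ ha hb (by rw [← hab, hiso hg, hT.self v hv])
  have h2 : A a' b' = 0 := hT.split_orth hξ ha' hb' (by rw [← hab', hw])
  -- one step
  have step : ∀ u u', RV F₀ u → RV F₀ u' → A u' u ≠ 0 → ∃ h ∈ X, Ratty F₀ h ∧ h u = u' ∧ (∀ z, RV F₀ z → RV F₀ (h z)) ∧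
      ∀ y, A u' y = 0 → A u y = 0 → h y = y := by
    intro u u' hu hu' hne
    have hw0 := hT.self _ (hu'.sub hu)
    have hc := hT.inv_skew hu hu'
    have hwu : A (u' - u) u = A u' u := by rw [map_sub, LinearMap.sub_apply, hT.self u hu, sub_zero]
    refine ⟨_, hTX (u' - u) _ (hu'.sub hu) hc, hT.Tv_ratty (hu'.sub hu) hc, ?_, fun z hz => ?_, fun y hy hy' => ?_⟩
    · rw [Tv_apply hw0, hwu, inv_mul_cancel₀ hne, one_smul, add_sub_cancel]
    · rw [Tv_apply hw0]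
      refine hz.add ((hu'.sub hu).smul ?_)
      have := F₀.div_mem (hT.form _ _ (hu'.sub hu) hz) (hT.form _ _ hu' hu)
      rwa [mul_div_mul_left _ _ hT.z0, div_eq_inv_mul] at this
    · rw [Tv_apply hw0, map_sub, LinearMap.sub_apply, hy, hy', sub_zero, mul_zero, zero_smul, add_zero]
  have hswap : ∀ {u u' : Fin 4 → F}, RV F₀ u → RV F₀ u' → A u u' ≠ 0 → A u' u ≠ 0 := fun hu hu' h => by
    rwa [hT.skew hu hu', neg_ne_zero]
  obtain ⟨h₁, hh₁, hh₁a, hh₁r⟩ : ∃ h ∈ X, h a = a' ∧ ∀ z, RV F₀ z → RV F₀ (h z) := by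
    obtain ⟨i, hi⟩ := exists_basis_ne hA ha0
    obtain ⟨i', hi'⟩ := exists_basis_ne hA ha'0
    obtain ⟨z, hz, hz1, hz2⟩ := exists_both (RV F₀) (fun _ _ => RV.add) (A a) (A a') (rv_single i) (rv_single i') hi hi'
    obtain ⟨k, hk, -, hka, hkr, -⟩ := step a z ha hz (hswap ha hz hz1)
    obtain ⟨k', hk', -, hka', hkr', -⟩ := step z a' hz ha' hz2
    exact ⟨k' * k, mul_mem hk' hk, by rw [LinearEquiv.mul_apply, hka, hka'], fun x hx => hkr' _ (hkr _ hx)⟩
  set b₁ := h₁ b with hb₁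
  have hb₁R : RV F₀ b₁ := hh₁r b hb
  have hab₁ : A a' b₁ = 0 := by rw [hb₁, ← hh₁a, hiso hh₁, h1]
  have hn₁ : b₁ ∉ F ∙ a' := fun h => hna (by
    obtain ⟨c, hc⟩ := Submodule.mem_span_singleton.1 h
    exact Submodule.mem_span_singleton.2 ⟨c, h₁.injective (by rw [map_smul, hh₁a, hc, hb₁])⟩)
  obtain ⟨r₁, hr₁, har₁, hbr₁⟩ := hT.exists_sep ha' ha'0 hb₁R hn₁
  obtain ⟨r₂, hr₂, har₂, hbr₂⟩ := hT.exists_sep ha' ha'0 hb' hna'
  obtain ⟨z, ⟨hz, haz⟩, hz1, hz2⟩ := exists_both (fun x => RV F₀ x ∧ A a' x = 0)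
    (fun x y hx hy => ⟨hx.1.add hy.1, by rw [map_add, hx.2, hy.2, add_zero]⟩) (A b₁) (A b') (x := r₁) (y := r₂)
    ⟨hr₁, har₁⟩ ⟨hr₂, har₂⟩ hbr₁ hbr₂
  have hswap0 : ∀ {u u' : Fin 4 → F}, RV F₀ u → RV F₀ u' → A u u' = 0 → A u' u = 0 := fun hu hu' h => by
    rw [hT.skew hu hu', h, neg_zero]
  obtain ⟨k, hk, -, hkb, -, hkfix⟩ := step b₁ z hb₁R hz (hswap hb₁R hz hz1)
  obtain ⟨k', hk', -, hkb', -, hkfix'⟩ := step z b' hz hb' hz2
  have hfin : (k' * k * h₁) (g v) = w := by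
    rw [hab, hab', LinearEquiv.mul_apply, LinearEquiv.mul_apply, map_add, map_smul, hh₁a, ← hb₁, map_add, map_smul, hkb,
      hkfix a' (hswap0 ha' hz haz) (hswap0 ha' hb₁R hab₁), map_add, map_smul, hkb',
      hkfix' a' (hswap0 ha' hb' h2) (hswap0 ha' hz haz)]
  have hm := mul_mem (mul_mem hk' hk) hh₁
  rw [← hfin]
  exact Unitary.map_mem_centres hA hgv hm (hiso hm)

end Setting

/-- symplectic subfield groups -/
theorem maximal {F : Type*} [Field F] [Fintype F] (q : ℕ) (hF : Fintype.card F = q ^ 2) (F₀ : Subfield F)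
    (P : Matrix.GeneralLinearGroup (Fin 4) F) (ζ : F) (hcard : Fintype.card F = Nat.card F₀ ^ 2) (hζ0 : ζ ≠ 0)
    (hζ : ζ + ζ ^ q = 0) (hP : Cfsg.Geo.IsFormRationalStructure (Cfsg.hermForm 4 F q) F₀ ζ P)
    (halt : ∀ u : Fin 4 → F, (∀ i, u i ∈ F₀) → (Cfsg.hermForm 4 F q) (Matrix.mulVec (P : Matrix (Fin 4) (Fin 4) F) u)
      (Matrix.mulVec (P : Matrix (Fin 4) (Fin 4) F) u) = 0) :
    Cfsg.Geo.IsMaximalIn (Cfsg.GU 4 F q ⊓ Cfsg.Geo.specialLinear (Fin 4) F)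
      (Cfsg.Geo.subfieldSubgroup F₀ P ⊓ (Cfsg.GU 4 F q ⊓ Cfsg.Geo.specialLinear (Fin 4) F)) := by
  classical
  obtain ⟨σ, hσq, hσ, -, -⟩ := exists_powHom hF
  have hfix := mem_iff_fix hσ hcard hσq hF
  have hk : σ ζ = -ζ := by rw [hσq]; exact eq_neg_of_add_eq_zero_right hζ
  set A := Subfield.Unit.formP (n := 4) σ 1 P with hAd
  have hAeq : ∀ x y, A x y = hermB 4 σ (glEquiv (Fin 4) F P x) (glEquiv (Fin 4) F P y) := fun x y => one_mul _
  have hset : Herm.IsHerm A → Setting F₀ A ζ := fun hA => by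
    refine ⟨hA, hfix, hζ0, hk, fun u v hu hv => ?_, fun u hu => ?_⟩
    · have := hP v u hv hu
      rw [hermForm_eq hσq] at this
      rw [hAeq]; exact this
    · have := halt u hu
      rw [hermForm_eq hσq] at this
      rw [hAeq]; exact this
  refine isMaximalIn_sub hσ hσq F₀ P ?_ fun hA X hle hrat hout v hv => (hset hA).all_centres hle hrat hout hv
  have hA : Herm.IsHerm A :=
    { toIsInvol := hσ
      symm := fun a b => by rw [hAeq, hAeq]; exact (hermB_isHerm hσ 4).symm _ _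
      nondeg := Subfield.Unit.formP_nd hσ one_ne_zero P }
  have hT := hset hA
  obtain ⟨ξ, hξ⟩ := Herm.exists_moved hσ
  set a : Fin 4 → F := Pi.single 0 1 with had
  have ha : RV F₀ a := rv_single 0
  have ha0 : a ≠ 0 := fun h => by simpa [had] using congrFun h 0
  obtain ⟨b, hb, hab, hbn⟩ := exists_avoid (F₀ := F₀) ![ζ • A a] (by
    intro i; fin_cases i; intro j
    exact hT.form _ _ ha (rv_single j)) ![a] (by intro j; fin_cases j; exact ha) (by simp)
  have hab' : A a b = 0 := (mul_eq_zero.1 (show ζ * A a b = 0 from hab 0)).resolve_left hζ0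
  have hn : b ∉ F ∙ a := by
    rwa [Matrix.range_cons, Matrix.range_empty, Set.union_empty] at hbn
  set p := a + ξ • b with hp
  have hpp : A p p = 0 := by simp [hp, hT.self a ha, hT.self b hb, hab', hT.skew ha hb]
  refine ⟨p, ζ, hpp, by rw [hk, add_neg_cancel], fun h => ?_⟩
  have hp0 : p ≠ 0 := fun h0 => split_irrational hfix hσ.invol hξ ha hb ha0 hn ha (by rw [← hp, h0]; exact zero_mem _)
  obtain ⟨i, hi⟩ := exists_basis_ne hA hp0
  have h1 := ratty_Tv hpp h (rv_single (F₀ := F₀) i)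
  exact split_irrational hfix hσ.invol hξ ha hb ha0 hn h1
    (Submodule.mem_span_singleton.2 ⟨(ζ * A p (Pi.single i 1))⁻¹, by rw [← hp, inv_smul_smul₀ (mul_ne_zero hζ0 hi)]⟩)

end Cfsg.Agent.ClassicalMax.SU4.Sub.Symp
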