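import Cfsg.Agent.ClassicalMax.SU4.SubBase

/-!
Small tools for subfield groups in four-dimensional unitary groups: coordinates over the subfield of index two,
rational vectors avoiding two hyperplanes, and rational transvections.
-/

set_option autoImplicit false
set_option linter.unusedSectionVars false
set_option linter.style.haveILetI false

namespace Cfsg.Agent.ClassicalMax.SU4.Sub

open Module Cfsg.Agent.Classical Cfsg.Agent.ClassicalMax Cfsg.Agent.ClassicalMax.Subfield

variable {F : Type*} [Field F] [Fintype F] {σ : F →+* F} {F₀ : Subfield F}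
  {A : (Fin 4 → F) →ₛₗ[σ] (Fin 4 → F) →ₗ[F] F}

/-- a rational transvection moves rational vectors rationally -/
theorem ratty_Tv {p : Fin 4 → F} (hpp : A p p = 0) {c : F} (h : Ratty F₀ (Tv A p c)) {x : Fin 4 → F} (hx : RV F₀ x) :
    RV F₀ ((c * A p x) • p) := by
  have h1 := (rational_of_image h (P := F ∙ p) (fun z => by
    rw [Tv_apply hpp, add_sub_cancel_left]; exact Submodule.smul_mem _ _ (Submodule.mem_span_singleton_self _))
    (lt_of_le_of_lt (Nat.mul_le_mul_left 2 (show finrank F (F ∙ p) ≤ 1 from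
      (finrank_span_le_card ({p} : Set (Fin 4 → F))).trans (le_of_eq (by simp)))) (by simp)) hx).sub hx
  rwa [Tv_apply hpp, add_sub_cancel_left] at h1

/-- some rational vector is not orthogonal to a given non-zero vector -/
theorem exists_basis_ne (hA : Herm.IsHerm A) {p : Fin 4 → F} (hp : p ≠ 0) : ∃ i, A p (Pi.single i 1) ≠ 0 := by
  by_contra! hc
  refine hp (hA.nondeg _ fun y => ?_)
  rw [eq_sum_single y, map_sum]
  exact Finset.sum_eq_zero fun i _ => by rw [map_smul, hc, smul_zero]

/-- two functionals that are non-zero at rational vectors are non-zero at a common one -/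
theorem exists_both {G : Type*} [AddCommGroup G] [Module F G] (P : G → Prop) (hP : ∀ a b, P a → P b → P (a + b))
    (f g : Dual F G) {x y : G} (hx : P x) (hy : P y) (hfx : f x ≠ 0) (hgy : g y ≠ 0) :
    ∃ z, P z ∧ f z ≠ 0 ∧ g z ≠ 0 := by
  by_cases h1 : g x = 0
  · by_cases h2 : f y = 0
    · exact ⟨x + y, hP _ _ hx hy, by rwa [map_add, h2, add_zero], by rwa [map_add, h1, zero_add]⟩
    · exact ⟨y, hy, h2, hgy⟩
  · exact ⟨x, hx, hfx, h1⟩

section Quadratic

variable (hfix : ∀ a, a ∈ F₀ ↔ σ a = a) (hinv : ∀ a, σ (σ a) = a)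
include hfix hinv

/-- coordinates over the subfield of index two -/
theorem exists_split {ξ : F} (hξ : σ ξ ≠ ξ) (p : Fin 4 → F) :
    ∃ a b : Fin 4 → F, RV F₀ a ∧ RV F₀ b ∧ p = a + ξ • b := by
  have hd : ξ - σ ξ ≠ 0 := sub_ne_zero.2 (Ne.symm hξ)
  let t : F → F := fun x => (x - σ x) / (ξ - σ ξ)
  have ht : ∀ x, σ (t x) = t x := fun x => by
    simp only [t, map_div₀, map_sub, hinv]
    rw [← neg_div_neg_eq, neg_sub, neg_sub]
  refine ⟨fun i => p i - ξ * t (p i), fun i => t (p i), fun i => (hfix _).2 ?_, fun i => (hfix _).2 (ht _),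
    funext fun i => by simp⟩
  have e : t (p i) * (ξ - σ ξ) = p i - σ (p i) := div_mul_cancel₀ _ hd
  rw [map_sub, map_mul, ht]
  linear_combination e

/-- a combination with an irrational coefficient of independent rational vectors is no rational point -/
theorem split_irrational {ξ : F} (hξ : σ ξ ≠ ξ) {a b : Fin 4 → F} (ha : RV F₀ a) (hb : RV F₀ b) (ha0 : a ≠ 0)
    (hab : b ∉ F ∙ a) {w : Fin 4 → F} (hw : RV F₀ w) : a + ξ • b ∉ F ∙ w := by
  intro h
  obtain ⟨c, hc⟩ := Submodule.mem_span_singleton.1 h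
  have hba : a ∉ F ∙ b := fun h' => by
    obtain ⟨s, hs⟩ := Submodule.mem_span_singleton.1 h'
    have hs0 : s ≠ 0 := by rintro rfl; exact ha0 (by rw [← hs, zero_smul])
    exact hab (Submodule.mem_span_singleton.2 ⟨s⁻¹, by rw [← hs, inv_smul_smul₀ hs0]⟩)
  obtain ⟨f, hf, hfa, hfb⟩ := exists_rf_one hb ha hba
  obtain ⟨g, hg, hgb, hga⟩ := exists_rf_one ha hb hab
  have e1 := congrArg f hc
  have e2 := congrArg g hc
  simp [hfa, hfb] at e1
  simp [hga, hgb] at e2
  have hfw : f w ≠ 0 := fun h0 => one_ne_zero (α := F) (by rw [← e1, h0, mul_zero])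
  have : c = (f w)⁻¹ := eq_inv_of_mul_eq_one_left e1
  exact hξ ((hfix ξ).1 (by rw [← e2, this]; exact F₀.mul_mem (F₀.inv_mem (hf.apply hw)) (hg.apply hw)))

end Quadratic

/-- the subfield of index two is the fixed field -/
theorem mem_iff_fix (hσ : Herm.IsInvol σ) (hcard : Fintype.card F = Nat.card F₀ ^ 2) {q : ℕ}
    (hσq : ∀ x, σ x = x ^ q) (hF : Fintype.card F = q ^ 2) (a : F) : a ∈ F₀ ↔ σ a = a := by
  haveI : Fintype F₀ := Fintype.ofFinite F₀
  have hqc : q = Fintype.card F₀ := by
    rw [hF, Nat.card_eq_fintype_card] at hcard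
    exact Nat.pow_left_injective (by norm_num) hcard
  have hσ₀ : ∀ a ∈ F₀, σ a = a := fun a ha => by
    rw [hσq, hqc]
    exact congrArg Subtype.val (FiniteField.pow_card (⟨a, ha⟩ : F₀))
  refine ⟨hσ₀ a, fun ha => ?_⟩
  have hle : (F₀ : Set F) ⊆ (Herm.fixField σ : Set F) := fun b hb => hσ₀ b hb
  have hc1 : Nat.card (Herm.fixField σ) = Nat.card F₀ := by
    have h := Herm.card_eq_fix_sq hσ
    rw [Nat.card_eq_fintype_card (α := F), hcard] at h
    exact (Nat.pow_left_injective (by norm_num) h).symm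
  have : (F₀ : Set F) = (Herm.fixField σ : Set F) := Set.eq_of_subset_of_ncard_le hle
    (by rw [← Nat.card_coe_set_eq, ← Nat.card_coe_set_eq]; exact hc1.le)
  exact this.ge ha

end Cfsg.Agent.ClassicalMax.SU4.Sub
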