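import Cfsg.Agent.ClassicalMax.Unitary

set_option autoImplicit false
open Cfsg

namespace Cfsg.Agent.ClassicalMax.SU4.TIDecomp

open Cfsg.Agent.Classical Cfsg.Agent.ClassicalMax Cfsg.Agent.ClassicalMax.Unitary Module

section

variable {F V : Type*} [Field F] [AddCommGroup V] [Module F V] {σ : F →+* F}

/-- transvection, extended by the identity -/
noncomputable def tv (B : V →ₛₗ[σ] V →ₗ[F] F) (v : V) (c : F) : V ≃ₗ[F] V :=
  haveI := _root_.Classical.propDecidable (B v v = 0); if h : B v v = 0 then Herm.tvU h c else 1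

/-- the unitary unipotent attached to a product of two orthogonal isotropic vectors -/
noncomputable def st (B : V →ₛₗ[σ] V →ₗ[F] F) (c : F) (a b : V) : V ≃ₗ[F] V :=
  tv B (a + b) c * tv B a (-c) * tv B b (-c)

variable {B : V →ₛₗ[σ] V →ₗ[F] F}

lemma tv_eq {v : V} (hv : B v v = 0) (c : F) : tv B v c = Herm.tvU hv c := dif_pos hv

lemma tv_apply {v : V} (hv : B v v = 0) (c : F) (x : V) : tv B v c x = x + (c * B v x) • v := by
  rw [tv_eq hv, Herm.tvU_apply]

variable [Finite F] [FiniteDimensional F V] (hB : Herm.IsHerm B)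
include hB

lemma tv_su (v : V) {c : F} (hc : c + σ c = 0) : tv B v c ∈ Herm.suG B := by
  unfold tv
  split_ifs with h
  · exact Herm.tvU_mem hB h hc
  · exact one_mem _

lemma st_su (a b : V) {c : F} (hc : c + σ c = 0) : st B c a b ∈ Herm.suG B :=
  mul_mem (mul_mem (tv_su hB _ hc) (tv_su hB _ (by rw [map_neg]; linear_combination -hc)))
    (tv_su hB _ (by rw [map_neg]; linear_combination -hc))

lemma conj_tv {g : V ≃ₗ[F] V} (hg : ∀ x y, B (g x) (g y) = B x y) (v : V) (c : F) : g * tv B v c * g⁻¹ = tv B (g v) c := by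
  by_cases h : B v v = 0
  · rw [tv_eq h, tv_eq (show B (g v) (g v) = 0 by rw [hg, h]), Herm.conj_tvU hB hg h]
  · rw [tv, dif_neg h, tv, dif_neg (by rwa [hg]), mul_one, mul_inv_cancel]

lemma conj_st {g : V ≃ₗ[F] V} (hg : ∀ x y, B (g x) (g y) = B x y) (c : F) (a b : V) :
    g * st B c a b * g⁻¹ = st B c (g a) (g b) := by
  rw [st, st, ← map_add g, ← conj_tv hB hg, ← conj_tv hB hg, ← conj_tv hB hg]
  simp only [mul_assoc, inv_mul_cancel_left]

variable {c : F} {a b : V} (ha : B a a = 0) (hb : B b b = 0) (hab : B a b = 0)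
include ha hb hab

lemma st_apply (x : V) : st B c a b x = x + (c * B a x) • b + (c * B b x) • a := by
  have hba : B b a = 0 := (Herm.eq_zero_comm hB).1 hab
  have h : B (a + b) (a + b) = 0 := by simp [ha, hb, hab, hba]
  simp only [st, LinearEquiv.mul_apply, tv_apply ha, tv_apply hb, tv_apply h, map_add, map_smul, LinearMap.add_apply,
    ha, hb, hab, hba, smul_eq_mul]
  module

omit ha hb hab

omit hB
/-- two complementary totally isotropic halves -/
structure Halves (B : V →ₛₗ[σ] V →ₗ[F] F) (U W : Submodule F V) : Prop where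
  herm : Herm.IsHerm B
  tsU : ∀ x ∈ U, ∀ y ∈ U, B x y = 0
  tsW : ∀ x ∈ W, ∀ y ∈ W, B x y = 0
  dec : ∀ v, ∃ p ∈ U, ∃ q ∈ W, v = p + q
  dimU : finrank F U = 2
  dimW : finrank F W = 2

/-- what is used of the stabiliser of the two halves -/
def Big (B : V →ₛₗ[σ] V →ₗ[F] F) (U W : Submodule F V) (M : Subgroup (V ≃ₗ[F] V)) : Prop :=
  ∀ g : V ≃ₗ[F] V, (∀ x y, B (g x) (g y) = B x y) → LinearMap.det g.toLinearMap = 1 →
    (((∀ x ∈ U, g x ∈ U) ∧ ∀ x ∈ W, g x ∈ W) ∨ ((∀ x ∈ U, g x ∈ W) ∧ ∀ x ∈ W, g x ∈ U)) → g ∈ M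

variable {U W : Submodule F V} {M : Subgroup (V ≃ₗ[F] V)}

lemma Halves.symm (h : Halves B U W) : Halves B W U :=
  ⟨h.herm, h.tsW, h.tsU, fun v => by
    obtain ⟨p, hp, q, hq, e⟩ := h.dec v; exact ⟨q, hq, p, hp, e.trans (add_comm _ _)⟩, h.dimW, h.dimU⟩

lemma Big.symm (h : Big B U W M) : Big B W U M := fun g h1 h2 hh => h g h1 h2 (hh.imp And.symm And.symm)

lemma Halves.ext (h : Halves B U W) {x y : V} (hU : ∀ z ∈ U, B x z = B y z) (hW : ∀ z ∈ W, B x z = B y z) : x = y := by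
  refine sub_eq_zero.1 (h.herm.nondeg _ fun z => ?_)
  obtain ⟨p, hp, q, hq, rfl⟩ := h.dec z
  simp [hU p hp, hW q hq]

lemma Halves.disj (h : Halves B U W) {v : V} (hv : v ∈ U) (hv' : v ∈ W) : v = 0 :=
  h.ext (fun z hz => by rw [h.tsU v hv z hz]; simp) fun z hz => by rw [h.tsW v hv' z hz]; simp

lemma Halves.exists_dual (h : Halves B U W) (φ : Dual F V) : ∃ w ∈ W, ∀ x ∈ U, B w x = φ x := by
  obtain ⟨y, hy⟩ := Herm.exists_repr h.herm φ
  obtain ⟨p, hp, q, hq, rfl⟩ := h.dec y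
  refine ⟨q, hq, fun x hx => ?_⟩
  rw [← hy x, map_add, LinearMap.add_apply, h.tsU p hp x hx, zero_add]

lemma Halves.exists_one (h : Halves B U W) (N : Submodule F V) {x : V} (hx : x ∈ U) (hxN : x ∉ N) (hN : N ≤ U) (r : F) :
    ∃ w ∈ W, B w x = r ∧ ∀ z ∈ N, B w z = 0 := by
  obtain ⟨φ, hφ, hle⟩ := N.exists_le_ker_of_notMem hxN
  obtain ⟨w, hw, hwφ⟩ := h.exists_dual ((r / φ x) • φ)
  refine ⟨w, hw, by rw [hwφ x hx, LinearMap.smul_apply, smul_eq_mul, div_mul_cancel₀ _ hφ], fun z hz => ?_⟩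
  rw [hwφ z (hN hz), LinearMap.smul_apply, LinearMap.mem_ker.1 (hle hz), smul_zero]

lemma Big.st_mem (h : Big B U W M) (hH : Halves B U W) (hc : c + σ c = 0) {u w : V}
    (hu : u ∈ U) (hw : w ∈ W) (huw : B u w = 0) : st B c u w ∈ M := by
  have happ := st_apply hH.herm (c := c) (hH.tsU u hu u hu) (hH.tsW w hw w hw) huw
  have hs := st_su hH.herm u w hc
  refine h _ hs.1 (by simpa [Units.ext_iff] using hs.2) (Or.inl ⟨fun x hx => ?_, fun x hx => ?_⟩)
  · rw [happ, hH.tsU u hu x hx, mul_zero, zero_smul, add_zero]; exact U.add_mem hx (U.smul_mem _ hu)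
  · rw [happ, hH.tsW w hw x hx, mul_zero, zero_smul, add_zero]; exact W.add_mem hx (W.smul_mem _ hw)

lemma Halves.exists_indep (h : Halves B U W) (z : V) : ∃ y ∈ U, y ∉ Submodule.span F {z} :=
  SetLike.not_le_iff_exists.1 (fun hle : U ≤ Submodule.span F {z} => by
    have h1 := Submodule.finrank_mono hle
    have h2 : finrank F (Submodule.span F {z}) ≤ 1 := (finrank_span_le_card ({z} : Set V)).trans (by simp)
    have := h.dimU; omega)

/-- a centre in one half gives all of that half -/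
lemma spread (hH : Halves B U W) (hc : c + σ c = 0) (hc0 : c ≠ 0) (hM : Big B U W M) {u : V} (hu : u ∈ U) (hu0 : u ≠ 0)
    (huc : u ∈ centres B M) : ∀ v ∈ U, v ∈ centres B M := by
  have hB := hH.herm
  have hindep : ∀ x ∈ U, ∀ y ∈ U, x ≠ 0 → y ∉ Submodule.span F {x} → x ∈ centres B M → y ∈ centres B M := by
    intro x hx y hy hx0 hys hxc
    have hxd : x ∉ Submodule.span F {y - x} := fun h => by
      obtain ⟨l, hl⟩ := Submodule.mem_span_singleton.1 h
      rcases eq_or_ne l 0 with rfl | hl0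
      · exact hx0 (by rw [← hl, zero_smul])
      · refine hys (Submodule.mem_span_singleton.2 ⟨l⁻¹ + 1, ?_⟩)
        rw [add_smul, one_smul]
        conv_lhs => arg 1; rw [← hl, smul_smul, inv_mul_cancel₀ hl0, one_smul]
        abel
    obtain ⟨w', hw', h1, h0⟩ := hH.exists_one _ hx hxd (by rw [Submodule.span_singleton_le_iff_mem]; exact U.sub_mem hy hx) c⁻¹
    have hd : B (y - x) w' = 0 := (Herm.eq_zero_comm hB).1 (h0 _ (Submodule.mem_span_singleton_self _))
    have hdU := U.sub_mem hy hx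
    have := map_mem_centres hB hxc (hM.st_mem hH hc hdU hw' hd) (st_su hB _ _ hc).1
    rwa [st_apply hB (hH.tsU _ hdU _ hdU) (hH.tsW _ hw' _ hw') hd, hH.tsU _ hdU x hx, h1, mul_inv_cancel₀ hc0, mul_zero,
      zero_smul, add_zero, one_smul, add_sub_cancel] at this
  intro v hv
  by_cases hs : v ∈ Submodule.span F {u}
  · obtain ⟨l, rfl⟩ := Submodule.mem_span_singleton.1 hs
    exact smul_mem_centres hB huc l
  · exact hindep u hu v hv hu0 hs huc

lemma tvM_add (hB : Herm.IsHerm B) {v : V} (hv : B v v = 0) (d d' : F) : tv B v d * tv B v d' = tv B v (d + d') :=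
  LinearEquiv.ext fun x => by
    simp only [LinearEquiv.mul_apply, tv_apply hv, map_add, map_smul, hv, smul_eq_mul]
    module

lemma tvM_zero {v : V} (hv : B v v = 0) : tv B v 0 = 1 := LinearEquiv.ext fun x => by simp [tv_apply hv]

/-- the scaling of a hyperbolic pair -/
lemma exists_scale (hH : Halves B U W) (hM : Big B U W M) {u v : V} (hu : u ∈ U) (hv : v ∈ W) (huv : B u v = 1) {l : F}
    (hl : σ l = l) (hl0 : l ≠ 0) : ∃ r ∈ M, (∀ x y, B (r x) (r y) = B x y) ∧
      ∀ x, r x = x + ((l - 1) * B v x) • u + ((l⁻¹ - 1) * B u x) • v := by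
  have hB := hH.herm
  have hvu : B v u = 1 := by rw [← hB.symm, huv, map_one]
  have huu := hH.tsU u hu u hu
  have hvv := hH.tsW v hv v hv
  let L1 := LinearMap.transvection ((l - 1) • B v) u
  let L2 := LinearMap.transvection ((l⁻¹ - 1) • B u) v
  have hL : ∀ x, (L1 ∘ₗ L2) x = x + ((l - 1) * B v x) • u + ((l⁻¹ - 1) * B u x) • v := fun x => by
    simp only [L1, L2, LinearMap.comp_apply, LinearMap.transvection.apply, LinearMap.smul_apply, map_add, map_smul,
      hvv, smul_eq_mul, mul_zero, add_zero, zero_smul]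
  have hdet : LinearMap.det (L1 ∘ₗ L2) = 1 := by
    simp only [L1, L2, LinearMap.det_comp, LinearMap.transvection.det, LinearMap.smul_apply, huv, hvu, smul_eq_mul,
      mul_one, add_sub_cancel, mul_inv_cancel₀ hl0]
  have hunit : IsUnit (LinearMap.det (L1 ∘ₗ L2)) := by rw [hdet]; exact isUnit_one
  let r := LinearMap.equivOfIsUnitDet hunit
  have hr : ∀ x, r x = x + ((l - 1) * B v x) • u + ((l⁻¹ - 1) * B u x) • v := fun x => by
    rw [LinearMap.equivOfIsUnitDet_apply]; exact hL x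
  have hi : ∀ x y, B (r x) (r y) = B x y := fun x y => by
    rw [hr, hr]
    simp only [map_add, map_smulₛₗ, LinearMap.add_apply, LinearMap.smul_apply, smul_eq_mul, map_mul, RingHom.id_apply,
      hB.symm, huu, hvv, huv, hvu, map_sub, map_one, map_inv₀, hl]
    field_simp
    ring
  refine ⟨r, hM r hi (by rw [LinearMap.coe_equivOfIsUnitDet]; exact hdet) (Or.inl ⟨fun x hx => ?_, fun x hx => ?_⟩), hi, hr⟩
  · rw [hr, hH.tsU u hu x hx, mul_zero, zero_smul, add_zero]; exact U.add_mem hx (U.smul_mem _ hu)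
  · rw [hr, hH.tsW v hv x hx, mul_zero, zero_smul, add_zero]; exact W.add_mem hx (W.smul_mem _ hv)

lemma half_span {S : Submodule F V} (hd : finrank F S = 2) {x y : V} (hx : x ∈ S) (hy : y ∈ S)
    (hi : ∀ α β : F, α • x + β • y = 0 → α = 0 ∧ β = 0) {z : V} (hz : z ∈ S) : ∃ α β : F, α • x + β • y = z := by
  have hli : LinearIndependent F ![x, y] := LinearIndependent.pair_iff.2 hi
  have h1 : Submodule.span F (Set.range ![x, y]) = S := by
    refine Submodule.eq_of_le_of_finrank_eq (Submodule.span_le.2 ?_) ?_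
    · rintro _ ⟨j, rfl⟩; fin_cases j <;> assumption
    · rw [finrank_span_eq_card hli, Fintype.card_fin, hd]
  rw [← h1] at hz
  obtain ⟨f, hf⟩ := (Submodule.mem_span_range_iff_exists_fun F).1 hz
  exact ⟨f 0, f 1, by rw [← hf, Fin.sum_univ_two]; rfl⟩

/-- duals of an orthogonal pair in opposite halves -/
lemma exists_duals (hH : Halves B U W) {u f : V} (hu : u ∈ U) (hu0 : u ≠ 0) (hf : f ∈ W) (hf0 : f ≠ 0) (huf : B u f = 0) :
    ∃ v ∈ W, ∃ e ∈ U, B u v = 1 ∧ B f e = 1 ∧ B v e = 0 ∧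
      (∀ z ∈ U, z = B v z • u + B f z • e) ∧ ∀ z ∈ W, z = B u z • v + B e z • f := by
  have hB := hH.herm
  obtain ⟨v, hv, hvu, -⟩ := hH.exists_one ⊥ hu (by simpa using hu0) bot_le 1
  obtain ⟨e0, he0, he0f, -⟩ := hH.symm.exists_one ⊥ hf (by simpa using hf0) bot_le 1
  have huv : B u v = 1 := by rw [← hB.symm, hvu, map_one]
  have hfe0 : B f e0 = 1 := by rw [← hB.symm, he0f, map_one]
  have hfu := (Herm.eq_zero_comm hB).1 huf
  set e := e0 - B v e0 • u with he_def
  have he : e ∈ U := U.sub_mem he0 (U.smul_mem _ hu)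
  have hfe : B f e = 1 := by simp [he_def, hfe0, hfu]
  have hve : B v e = 0 := by simp [he_def, hvu]
  have hef : B e f = 1 := by rw [← hB.symm, hfe, map_one]
  have hev := (Herm.eq_zero_comm hB).1 hve
  refine ⟨v, hv, e, he, huv, hfe, hve, fun z hz => ?_, fun z hz => ?_⟩
  · obtain ⟨α, β, rfl⟩ := half_span hH.dimU hu he (fun α β h => by
      have h1 := congrArg (B v) h
      have h2 := congrArg (B f) h
      simp [hvu, hve] at h1
      simp [hfu, hfe] at h2
      exact ⟨h1, h2⟩) hz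
    simp [hvu, hve, hfu, hfe]
  · obtain ⟨α, β, rfl⟩ := half_span hH.dimW hv hf (fun α β h => by
      have h1 := congrArg (B u) h
      have h2 := congrArg (B e) h
      simp [huv, huf] at h1
      simp [hev, hef] at h2
      exact ⟨h1, h2⟩) hz
    simp [huv, huf, hev, hef]

lemma st_self {u : V} (hB : Herm.IsHerm B) (hu : B u u = 0) (μ : F) :
    st B c u (μ • u) = tv B u (c * (μ + σ μ)) := LinearEquiv.ext fun x => by
  rw [st_apply hB hu (by rw [Herm.smul_self hB, hu, mul_zero]) (by rw [map_smul, hu, smul_zero]), tv_apply hu, map_smulₛₗ,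
    LinearMap.smul_apply, smul_eq_mul]
  module

/-- an element fixing an orthogonal pair of the two halves and moving one half gives centres in the other -/
lemma diag_centre (hH : Halves B U W) (hc : c + σ c = 0) (hc0 : c ≠ 0) (hM : Big B U W M) {l : F} (hl : σ l = l)
    (hl0 : l ≠ 0) (hl2 : l * l ≠ 1) {u f : V} (hu : u ∈ U) (hu0 : u ≠ 0) (hf : f ∈ W) (hf0 : f ≠ 0) (huf : B u f = 0)
    {m : V ≃ₗ[F] V} (hm : m ∈ M) (hmi : ∀ x y, B (m x) (m y) = B x y) (hmu : m u = u) (hmf : m f = f)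
    (hmove : ∃ x ∈ U, m x ∉ U) : ∀ x ∈ W, x ∈ centres B M := by
  have hB := hH.herm
  obtain ⟨v, hv, e, he, huv, hfe, hve, hUe, hWe⟩ := exists_duals hH hu hu0 hf hf0 huf
  have huu := hH.tsU u hu u hu
  have hff := hH.tsW f hf f hf
  have hee := hH.tsU e he e he
  have hvv := hH.tsW v hv v hv
  have hue := hH.tsU u hu e he
  have heu := hH.tsU e he u hu
  have hvf := hH.tsW v hv f hf
  have hfv := hH.tsW f hf v hv
  have hfu := (Herm.eq_zero_comm hB).1 huf
  have hvu : B v u = 1 := by rw [← hB.symm, huv, map_one]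
  have hef : B e f = 1 := by rw [← hB.symm, hfe, map_one]
  have hev := (Herm.eq_zero_comm hB).1 hve
  have hdec : ∀ z, z = (B v z • u + B f z • e) + (B u z • v + B e z • f) := fun z => by
    obtain ⟨p, hp, q, hq, rfl⟩ := hH.dec z
    simp only [map_add, hH.tsW v hv q hq, hH.tsW f hf q hq, hH.tsU u hu p hp, hH.tsU e he p hp, add_zero, zero_add]
    conv_lhs => rw [hUe p hp, hWe q hq]
  -- the displacements of the two duals
  set α := B v (m v) with hα
  set β := B e (m v) with hβ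
  set γ := B v (m e) with hγ
  set δ := B e (m e) with hδ
  have i1 : ∀ z, B u (m z) = B u z := fun z => by conv_lhs => rw [← hmu]; exact hmi u z
  have i2 : ∀ z, B f (m z) = B f z := fun z => by conv_lhs => rw [← hmf]; exact hmi f z
  have hmv : m v = v + α • u + β • f := by
    conv_lhs => rw [hdec (m v), i1, i2, huv, hfv, ← hα, ← hβ]
    module
  have hme : m e = e + γ • u + δ • f := by
    conv_lhs => rw [hdec (m e), i1, i2, hue, hfe, ← hγ, ← hδ]
    module
  have tα : α + σ α = 0 := by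
    have := hmi v v
    rw [hmv] at this
    simp [huu, hff, hvv, huf, hfu, huv, hvu, hvf, hfv] at this
    linear_combination this
  have tδ : δ + σ δ = 0 := by
    have := hmi e e
    rw [hme] at this
    simp [huu, hff, hee, huf, hfu, hef, hfe, hue, heu] at this
    linear_combination this
  have tγ : γ = -σ β := by
    have := hmi v e
    rw [hmv, hme, hve] at this
    simp [huu, hff, huf, hfu, hfe, hve, hvu, hvf, hue] at this
    linear_combination this
  obtain ⟨x, hx, hmx⟩ := hmove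
  have hδ0 : δ ≠ 0 := fun h0 => hmx (by
    rw [hUe x hx, map_add, map_smul, map_smul, hmu, hme, h0, zero_smul, add_zero]
    exact U.add_mem (U.smul_mem _ hu) (U.smul_mem _ (U.add_mem he (U.smul_mem _ hu))))
  have hm_eq : m = tv B u α * tv B f δ * st B c u ((β / c) • f) := by
    refine LinearEquiv.ext fun z => ?_
    have hs1 : B ((β / c) • f) ((β / c) • f) = 0 := by rw [Herm.smul_self hB, hff, mul_zero]
    have hs2 : B u ((β / c) • f) = 0 := by rw [map_smul, huf, smul_zero]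
    conv_lhs => rw [hdec z, map_add, map_add, map_add, map_smul, map_smul, map_smul, map_smul, hmu, hmf, hmv, hme, tγ]
    rw [LinearEquiv.mul_apply, LinearEquiv.mul_apply, st_apply hB huu hs1 hs2, tv_apply hff, tv_apply huu]
    have hσc : σ c = -c := eq_neg_of_add_eq_zero_right hc
    simp only [map_add, map_smul, map_smulₛₗ, LinearMap.smul_apply, smul_eq_mul, huu, hff, huf, hfu, smul_smul,
      mul_zero, add_zero, RingHom.id_apply]
    conv_rhs => arg 1; arg 1; arg 1; arg 1; rw [hdec z]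
    simp only [map_div₀, hσc]
    match_scalars <;> first | ring1 | (field_simp; done) | (field_simp; ring1)
  have hq : tv B u α * tv B f δ ∈ M := by
    have := mul_mem hm (inv_mem (hM.st_mem hH hc hu (W.smul_mem (β / c) hf) (by rw [map_smul, huf, smul_zero])))
    rwa [hm_eq, mul_inv_cancel_right] at this
  -- scaling the second place
  have hscale : ∀ a : F, σ a = a → a ≠ 0 → ∃ r ∈ M, (∀ x y, B (r x) (r y) = B x y) ∧ r u = u ∧ r f = a • f := fun a ha ha0 => by
    obtain ⟨r, hr, hri, hrx⟩ := exists_scale hH hM he hf hef (l := a⁻¹) (by rw [map_inv₀, ha]) (inv_ne_zero ha0)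
    refine ⟨r, hr, hri, ?_, ?_⟩
    · rw [hrx, hfu, heu]; simp
    · rw [hrx, hff, hef, inv_inv]
      module
  obtain ⟨r, hr, hri, hru, hrf⟩ := hscale l hl hl0
  have hκ : tv B f (δ * (l * l - 1)) ∈ M := by
    have h1 := mul_mem (inv_mem hq) (mul_mem (mul_mem hr hq) (inv_mem hr))
    rw [show r * (tv B u α * tv B f δ) * r⁻¹ = r * tv B u α * r⁻¹ * (r * tv B f δ * r⁻¹) by group, conj_tv hB hri,
      conj_tv hB hri, hru, hrf, mul_inv_rev, mul_assoc, inv_mul_cancel_left] at h1
    convert h1 using 1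
    rw [eq_inv_mul_iff_mul_eq, tvM_add hB hff]
    refine LinearEquiv.ext fun x => ?_
    rw [tv_apply hff, tv_apply (by rw [Herm.smul_self hB, hff, mul_zero]), map_smulₛₗ, LinearMap.smul_apply, hl]
    module
  set κ := δ * (l * l - 1) with hκd
  have hκs : κ + σ κ = 0 := by
    rw [hκd, map_mul, map_sub, map_mul, map_one, hl]
    linear_combination (l * l - 1) * tδ
  have hκ0 : κ ≠ 0 := mul_ne_zero hδ0 (sub_ne_zero.2 hl2)
  have hsq : ∀ a : F, σ a = a → tv B f (κ * (a * a)) ∈ M := fun a ha => by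
    rcases eq_or_ne a 0 with rfl | ha0
    · rw [mul_zero, mul_zero, tvM_zero hff]; exact one_mem M
    obtain ⟨r, hr, hri, -, hrf⟩ := hscale a ha ha0
    have h1 := mul_mem (mul_mem hr hκ) (inv_mem hr)
    rw [conj_tv hB hri, hrf] at h1
    convert h1 using 1
    refine LinearEquiv.ext fun x => ?_
    rw [tv_apply hff, tv_apply (by rw [Herm.smul_self hB, hff, mul_zero]), map_smulₛₗ, LinearMap.smul_apply, ha]
    module
  refine spread hH.symm hc hc0 hM.symm hf hf0 ⟨hff, fun hf' d hd => ?_⟩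
  rw [← tv_eq hf' d]
  set k := d / κ with hk
  have hks : σ k = k := by
    rw [hk, map_div₀, eq_neg_of_add_eq_zero_right hd, eq_neg_of_add_eq_zero_right hκs, neg_div_neg_eq]
  have hdk : d = κ * k := (mul_div_cancel₀ _ hκ0).symm
  rw [hdk]
  by_cases h2 : (2 : F) = 0
  · haveI : CharP F 2 := CharTwo.of_one_ne_zero_of_two_eq_zero one_ne_zero h2
    haveI : Fintype F := Fintype.ofFinite F
    obtain ⟨a, ha⟩ := FiniteField.isSquare_of_char_two (ringChar.eq F 2) k
    refine ha ▸ hsq a ?_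
    have h1 : σ a * σ a = a * a := by rw [← map_mul, ← ha, hks]
    rcases mul_self_eq_mul_self_iff.1 h1 with h | h
    · exact h
    · rwa [CharTwo.neg_eq] at h
  · have h1 : σ ((k + 1) / 2) = (k + 1) / 2 := by rw [map_div₀, map_add, hks, map_one, map_ofNat]
    have h3 : σ ((k - 1) / 2) = (k - 1) / 2 := by rw [map_div₀, map_sub, hks, map_one, map_ofNat]
    have h4 := mul_mem (hsq _ h1) (inv_mem (hsq _ h3))
    convert h4 using 1
    rw [eq_mul_inv_iff_mul_eq, tvM_add hB hff]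
    congr 1
    field_simp
    ring

/-- two conjugate centres meeting a half in `u` but not lying over the pair `u, f` -/
lemma comm_centre (hH : Halves B U W) (hc : c + σ c = 0) (hc0 : c ≠ 0) (hM : Big B U W M) {u f a b : V}
    (hu : u ∈ U) (hf : f ∈ W) (huf : B u f = 0) (haa : B a a = 0) (hbb : B b b = 0) (hab : B a b = 0)
    (hau : B a u = 0) (hbu : B b u = 0) (hmem : ∀ s : F, st B c a (s • b) ∈ M) (hA : B f a ≠ 0)
    (hB' : B f b ≠ 0 ∨ ∃ ν : F, ν ≠ 0 ∧ b = ν • u) :
    u ∈ centres B M := by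
  have hB := hH.herm
  have huu := hH.tsU u hu u hu
  have hff := hH.tsW f hf f hf
  have hfu := (Herm.eq_zero_comm hB).1 huf
  have hua := (Herm.eq_zero_comm hB).1 hau
  have hub := (Herm.eq_zero_comm hB).1 hbu
  have hba := (Herm.eq_zero_comm hB).1 hab
  have hσc : σ c = -c := eq_neg_of_add_eq_zero_right hc
  obtain ⟨t, ht⟩ := Herm.exists_trace hB.toIsInvol (a := (1 : F)) (map_one σ)
  have htapp := st_apply hB (c := c) huu hff huf
  have hti := (st_su hB u f hc).1
  have htM := hM.st_mem hH hc hu hf huf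
  set A := c * B f a
  have hA0 : A ≠ 0 := mul_ne_zero hc0 hA
  -- first commutator
  have step : ∀ s : F, ∃ R : V, B u R = 0 ∧ B R R = 0 ∧ ∃ k : F, R = σ A • (s • b) + σ (c * B f (s • b)) • a ∧
      k = c * (σ A * (c * B f (s • b)) + A * σ (c * B f (s • b))) ∧ st B c u R * tv B u k ∈ M := fun s => by
    set b' := s • b
    have hb'b' : B b' b' = 0 := by rw [Herm.smul_self hB, hbb, mul_zero]
    have hab' : B a b' = 0 := by rw [map_smul, hab, smul_zero]
    have hub' : B u b' = 0 := by rw [map_smul, hub, smul_zero]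
    have hb'a := (Herm.eq_zero_comm hB).1 hab'
    have hb'u := (Herm.eq_zero_comm hB).1 hub'
    set D := c * B f b'
    set R := σ A • b' + σ D • a
    have huR : B u R = 0 := by simp only [R, map_add, map_smul, hub', hua, smul_zero, add_zero]
    have hRR : B R R = 0 := by simp [R, haa, hb'b', hab', hb'a]
    refine ⟨R, huR, hRR, _, rfl, rfl, ?_⟩
    have h1 := mul_mem (inv_mem (hmem s)) (mul_mem (mul_mem htM (hmem s)) (inv_mem htM))
    rw [conj_st hB hti, htapp, htapp, hua, hub'] at h1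
    simp only [mul_zero, zero_smul, add_zero] at h1
    convert h1 using 1
    rw [eq_inv_mul_iff_mul_eq]
    have k1 : B (a + A • u) (a + A • u) = 0 := by simp [haa, hau, hua, huu]
    have k2 : B (b' + D • u) (b' + D • u) = 0 := by simp [hb'b', hb'u, hub', huu]
    have k3 : B (a + A • u) (b' + D • u) = 0 := by simp [hab', hau, hub', huu]
    refine LinearEquiv.ext fun x => ?_
    show (st B c a b' * (st B c u R * tv B u (c * (σ A * D + A * σ D)))) x = st B c (a + A • u) (b' + D • u) x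
    simp only [LinearEquiv.mul_apply, st_apply hB k1 k2 k3, st_apply hB haa hb'b' hab', st_apply hB huu hRR huR, tv_apply huu]
    simp only [R, map_add, map_smul, map_smulₛₗ, LinearMap.add_apply, LinearMap.smul_apply, RingHom.id_apply, smul_eq_mul,
      hB.invol, haa, hb'b', hab', hb'a, hau, hua, hb'u, hub', huu]
    module
  refine ⟨huu, fun hu' d hd => ?_⟩
  rw [← tv_eq hu' d]
  obtain ⟨μ, hμ⟩ := Herm.exists_trace hB.toIsInvol (a := d / c) (by
    rw [map_div₀, eq_neg_of_add_eq_zero_right hd, hσc, neg_div_neg_eq])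
  have hd' : d = c * (μ + σ μ) := by rw [hμ, mul_div_cancel₀ _ hc0]
  rcases hB' with hfb | ⟨ν, hν, hbν⟩
  · obtain ⟨R, huR, hRR, k, hR, -, hkM⟩ := step (t / (σ (B f a) * B f b))
    have hfR : B f R = σ c := by
      rw [hR]
      simp only [A, map_add, map_smul, smul_eq_mul, map_mul, map_div₀, hB.invol]
      have hσA := (map_ne_zero σ).2 hA
      have hσB := (map_ne_zero σ).2 hfb
      field_simp
      linear_combination σ c * ht
    set ωf := σ (μ / (c * σ c))
    have hw : ωf • f ∈ W := W.smul_mem _ hf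
    have huw : B u (ωf • f) = 0 := by rw [map_smul, huf, smul_zero]
    have happ := st_apply hB (c := c) huu (hH.tsW _ hw _ hw) huw
    have hwu := (Herm.eq_zero_comm hB).1 huw
    have hwR : c * B (ωf • f) R = μ := by
      simp only [ωf, map_smulₛₗ, LinearMap.smul_apply, smul_eq_mul, hB.invol, hfR]
      field_simp [hc0, (map_ne_zero σ).2 hc0]
    have hg := hM.st_mem hH hc hu hw huw
    have h1 := mul_mem (inv_mem hkM) (mul_mem (mul_mem hg hkM) (inv_mem hg))
    rw [show st B c u (ωf • f) * (st B c u R * tv B u k) * (st B c u (ωf • f))⁻¹ =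
      (st B c u (ωf • f) * st B c u R * (st B c u (ωf • f))⁻¹) * (st B c u (ωf • f) * tv B u k * (st B c u (ωf • f))⁻¹) by group,
      conj_st hB (st_su hB u _ hc).1, conj_tv hB (st_su hB u _ hc).1, happ, happ, huu, hwu, huR, hwR] at h1
    simp only [mul_zero, zero_smul, add_zero] at h1
    convert h1 using 1
    rw [eq_inv_mul_iff_mul_eq]
    have hRu := (Herm.eq_zero_comm hB).1 huR
    have k1 : B (R + μ • u) (R + μ • u) = 0 := by simp [hRR, huR, hRu, huu]
    have k2 : B u (R + μ • u) = 0 := by simp [huR, huu]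
    refine LinearEquiv.ext fun x => ?_
    simp only [LinearEquiv.mul_apply, tv_apply huu, st_apply hB huu hRR huR, st_apply hB huu k1 k2, map_add, map_smul,
      map_smulₛₗ, LinearMap.add_apply, LinearMap.smul_apply, RingHom.id_apply, smul_eq_mul, huR, hRu, huu, hd', mul_zero,
      add_zero, zero_add]
    module
  · obtain ⟨R, -, -, k, hR, hk, hkM⟩ := step (μ / (σ A * ν))
    have hfb0 : B f ((μ / (σ A * ν)) • b) = 0 := by rw [hbν, smul_smul, map_smul, hfu, smul_zero]
    rw [hfb0, mul_zero, map_zero, zero_smul, add_zero, hbν, smul_smul, smul_smul, mul_assoc,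
      div_mul_eq_mul_div, mul_div_assoc', show σ A * (μ * ν) / (σ A * ν) = μ by
        field_simp [hν, (map_ne_zero σ).2 hA0]] at hR
    rw [hfb0, mul_zero, map_zero, mul_zero, mul_zero, add_zero, mul_zero] at hk
    rw [hR, hk, tvM_zero huu, mul_one, st_self hB huu] at hkM
    rwa [hd']

/-- a point of a totally isotropic line with orthogonal components -/
lemma exists_transversal (hH : Halves B U W) (g : V ≃ₗ[F] V) (hgi : ∀ x y, B (g x) (g y) = B x y) :
    ∃ z ∈ U, z ≠ 0 ∧ ∃ p ∈ U, ∃ q ∈ W, B p q = 0 ∧ g (p + q) = z := by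
  have hB := hH.herm
  obtain ⟨z1, hz1, hz10⟩ := U.exists_mem_ne_zero_of_ne_bot fun h => by
    have := hH.dimU; rw [h, finrank_bot] at this; omega
  obtain ⟨z2, hz2, hz2s⟩ := hH.exists_indep z1
  obtain ⟨p1, hp1, q1, hq1, e1⟩ := hH.dec (g.symm z1)
  obtain ⟨p2, hp2, q2, hq2, e2⟩ := hH.dec (g.symm z2)
  by_cases h11 : B p1 q1 = 0
  · exact ⟨z1, hz1, hz10, p1, hp1, q1, hq1, h11, by rw [← e1, g.apply_symm_apply]⟩
  have hT : ∀ z ∈ U, ∀ z' ∈ U, B (g.symm z) (g.symm z') = 0 := fun z hz z' hz' => by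
    rw [← hgi, g.apply_symm_apply, g.apply_symm_apply]; exact hH.tsU z hz z' hz'
  have ex : ∀ p q p' q' : V, p ∈ U → q ∈ W → p' ∈ U → q' ∈ W →
      B (p + q) (p' + q') = B p q' + σ (B p' q) := fun p q p' q' hp hq hp' hq' => by
    simp only [map_add, LinearMap.add_apply, hH.tsU p hp p' hp', hH.tsW q hq q' hq', zero_add, add_zero, hB.symm]
    abel
  have t11 : B p1 q1 + σ (B p1 q1) = 0 := by rw [← ex p1 q1 p1 q1 hp1 hq1 hp1 hq1, ← e1]; exact hT z1 hz1 z1 hz1
  have t22 : B p2 q2 + σ (B p2 q2) = 0 := by rw [← ex p2 q2 p2 q2 hp2 hq2 hp2 hq2, ← e2]; exact hT z2 hz2 z2 hz2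
  have t12 : B p1 q2 + σ (B p2 q1) = 0 := by rw [← ex p1 q1 p2 q2 hp1 hq1 hp2 hq2, ← e1, ← e2]; exact hT z1 hz1 z2 hz2
  have t21 : B p2 q1 + σ (B p1 q2) = 0 := by
    have := congrArg σ t12
    rwa [map_add, hB.invol, map_zero, add_comm] at this
  set a := B p1 q1
  set d := B p2 q2
  set b := B p1 q2
  have ha : σ a = -a := eq_neg_of_add_eq_zero_right t11
  have hd : σ d = -d := eq_neg_of_add_eq_zero_right t22
  have hb : B p2 q1 = -σ b := eq_neg_of_add_eq_zero_left t21
  obtain ⟨y, hy⟩ := Herm.exists_norm hB.toIsInvol (a := -(b * σ b) / (a * a) - d / a) (by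
    simp only [map_sub, map_div₀, map_neg, map_mul, hB.invol, ha, hd, neg_mul_neg, neg_div_neg_eq]
    ring)
  refine ⟨z2 + (y - b / a) • z1, U.add_mem hz2 (U.smul_mem _ hz1), fun h => hz2s (Submodule.mem_span_singleton.2
      ⟨-(y - b / a), by rw [neg_smul, ← eq_neg_of_add_eq_zero_left h]⟩),
    p2 + (y - b / a) • p1, U.add_mem hp2 (U.smul_mem _ hp1), q2 + (y - b / a) • q1, W.add_mem hq2 (W.smul_mem _ hq1), ?_, ?_⟩
  · simp only [map_add, map_smul, map_smulₛₗ, LinearMap.add_apply, LinearMap.smul_apply, smul_eq_mul, map_sub, map_div₀,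
      RingHom.id_apply, ha, hb, hB.invol]
    field_simp
    field_simp at hy
    linear_combination a * hy
  · rw [show p2 + (y - b / a) • p1 + (q2 + (y - b / a) • q1) = g.symm z2 + (y - b / a) • g.symm z1 by rw [e1, e2]; module,
      map_add, map_smul, g.apply_symm_apply, g.apply_symm_apply]

/-- some half becomes a set of centres -/
lemma some_half (hH : Halves B U W) (hc : c + σ c = 0) (hc0 : c ≠ 0) (hM : Big B U W M) {l : F} (hl : σ l = l)
    (hl0 : l ≠ 0) (hl2 : l * l ≠ 1) {g : V ≃ₗ[F] V} (hgM : g ∈ M) (hgi : ∀ x y, B (g x) (g y) = B x y)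
    (h1 : ∃ x ∈ U, g x ∉ U) (h2 : ∃ x ∈ W, g x ∉ U) : (∀ v ∈ U, v ∈ centres B M) ∨ ∀ v ∈ W, v ∈ centres B M := by
  have hB := hH.herm
  obtain ⟨z, hz, hz0, p, hp, q, hq, hpq, hgz⟩ := exists_transversal hH g hgi
  -- the transversal line through the point
  obtain ⟨u0, hu0, hu00, w0, hw0, hw00, huw, s1, s2, hs⟩ : ∃ u0 ∈ U, u0 ≠ 0 ∧ ∃ w0 ∈ W, w0 ≠ 0 ∧ B u0 w0 = 0 ∧
      ∃ s1 s2 : F, p + q = s1 • u0 + s2 • w0 := by
    have aux : ∀ {U W : Submodule F V}, Halves B U W → ∀ x ∈ U, x ≠ 0 → ∃ w ∈ W, w ≠ 0 ∧ B x w = 0 := by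
      intro U W hH x hx hx0
      obtain ⟨y, hy, hys⟩ := hH.exists_indep x
      obtain ⟨w, hw, h1, h0⟩ := hH.exists_one _ hy hys (by rw [Submodule.span_singleton_le_iff_mem]; exact hx) 1
      exact ⟨w, hw, fun h => by simp [h] at h1, (Herm.eq_zero_comm hB).1 (h0 x (Submodule.mem_span_singleton_self x))⟩
    by_cases hp0 : p = 0
    · have hq0 : q ≠ 0 := fun h => hz0 (by rw [← hgz, hp0, h, add_zero, map_zero])
      obtain ⟨u, hu, hu0, hqu⟩ := aux hH.symm q hq hq0
      exact ⟨u, hu, hu0, q, hq, hq0, (Herm.eq_zero_comm hB).1 hqu, 0, 1, by simp [hp0]⟩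
    by_cases hq0 : q = 0
    · obtain ⟨w, hw, hw0, hpw⟩ := aux hH p hp hp0
      exact ⟨p, hp, hp0, w, hw, hw0, hpw, 1, 0, by simp [hq0]⟩
    exact ⟨p, hp, hp0, q, hq, hq0, hpq, 1, 1, by simp⟩
  set a := g u0 with ha_def
  set b := g w0 with hb_def
  have haa : B a a = 0 := (hgi _ _).trans (hH.tsU u0 hu0 u0 hu0)
  have hbb : B b b = 0 := (hgi _ _).trans (hH.tsW w0 hw0 w0 hw0)
  have hab : B a b = 0 := (hgi _ _).trans huw
  have hba := (Herm.eq_zero_comm hB).1 hab
  have hmem : ∀ s : F, st B c a (s • b) ∈ M := fun s => by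
    rw [ha_def, hb_def, ← map_smul, ← conj_st hB hgi]
    exact mul_mem (mul_mem hgM (hM.st_mem hH hc hu0 (W.smul_mem s hw0) (by rw [map_smul, huw, smul_zero]))) (inv_mem hgM)
  have hmem' : ∀ s : F, st B c b (s • a) ∈ M := fun s => by
    have e : st B c b (s • a) = st B c a (σ s • b) := by
      refine LinearEquiv.ext fun x => ?_
      rw [st_apply hB hbb (by rw [Herm.smul_self hB, haa, mul_zero]) (by rw [map_smul, hba, smul_zero]),
        st_apply hB haa (by rw [Herm.smul_self hB, hbb, mul_zero]) (by rw [map_smul, hab, smul_zero]),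
        map_smulₛₗ, map_smulₛₗ, LinearMap.smul_apply, LinearMap.smul_apply, hB.invol, smul_eq_mul, smul_eq_mul]
      module
    rw [e]; exact hmem _
  have hze : z = s1 • a + s2 • b := by rw [← hgz, hs, map_add, map_smul, map_smul]
  have hau : B a z = 0 := by rw [hze]; simp [haa, hab]
  have hbu : B b z = 0 := by rw [hze]; simp [hbb, hba]
  obtain ⟨y, hy, hys⟩ := hH.exists_indep z
  obtain ⟨f, hf, hfy, hfz⟩ := hH.exists_one _ hy hys (by rw [Submodule.span_singleton_le_iff_mem]; exact hz) 1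
  have hf0 : f ≠ 0 := fun h => by simp [h] at hfy
  have hfu : B f z = 0 := hfz z (Submodule.mem_span_singleton_self z)
  have huf := (Herm.eq_zero_comm hB).1 hfu
  obtain ⟨v, hv, e, he, huv, hfe, hve, hUe, hWe⟩ := exists_duals hH hz hz0 hf hf0 huf
  have hspan : ∀ x, B z x = 0 → B f x = 0 → x = B v x • z + B e x • f := fun x hx1 hx2 => by
    obtain ⟨p', hp', q', hq', rfl⟩ := hH.dec x
    rw [map_add, hH.tsU z hz p' hp', zero_add] at hx1
    rw [map_add, hH.tsW f hf q' hq', add_zero] at hx2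
    rw [map_add, map_add, hH.tsW v hv q' hq', hH.tsU e he p' hp', add_zero, zero_add]
    conv_lhs => rw [hUe p' hp', hWe q' hq', hx1, hx2]
    simp
  have hcase : ∀ a b : V, B a a = 0 → B b b = 0 → B a b = 0 → B a z = 0 → B b z = 0 → b ≠ 0 → (∀ s : F, st B c a (s • b) ∈ M) →
      B f a ≠ 0 → ∀ v ∈ U, v ∈ centres B M := by
    intro a b haa hbb hab hau hbu hb0 hmem hA
    refine spread hH hc hc0 hM hz hz0 (comm_centre hH hc hc0 hM hz hf huf haa hbb hab hau hbu hmem hA ?_)
    by_cases hfb : B f b = 0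
    · right
      have hb := hspan b ((Herm.eq_zero_comm hB).1 hbu) hfb
      have h0 : B e b = 0 := by
        have h3 : B a b = B e b * B a f := by
          conv_lhs => rw [hb]
          simp [hau]
        rw [hab] at h3
        exact (mul_eq_zero.1 h3.symm).resolve_right fun h => hA ((Herm.eq_zero_comm hB).1 h)
      rw [h0, zero_smul, add_zero] at hb
      exact ⟨B v b, fun h => hb0 (by rw [hb, h, zero_smul]), hb⟩
    · exact Or.inl hfb
  have ha0 : a ≠ 0 := fun h => hu00 (g.map_eq_zero_iff.1 h)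
  have hb0 : b ≠ 0 := fun h => hw00 (g.map_eq_zero_iff.1 h)
  by_cases hA : B f a = 0
  swap
  · exact Or.inl (hcase a b haa hbb hab hau hbu hb0 hmem hA)
  by_cases hB' : B f b = 0
  swap
  · exact Or.inl (hcase b a hbb haa hba hbu hau ha0 hmem' hB')
  -- the line lies over the pair z, f
  obtain ⟨α1, α2, hae⟩ : ∃ α1 α2 : F, a = α1 • z + α2 • f := ⟨_, _, hspan a ((Herm.eq_zero_comm hB).1 hau) hA⟩
  obtain ⟨β1, β2, hbe⟩ : ∃ β1 β2 : F, b = β1 • z + β2 • f := ⟨_, _, hspan b ((Herm.eq_zero_comm hB).1 hbu) hB'⟩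
  have haf : B a f = 0 := (Herm.eq_zero_comm hB).1 hA
  have hbf : B b f = 0 := (Herm.eq_zero_comm hB).1 hB'
  have hzz := hH.tsU z hz z hz
  have hff := hH.tsW f hf f hf
  by_cases hsU : ∃ s : F, ∃ x ∈ U, st B c a (s • b) x ∉ U
  · obtain ⟨s, hsx⟩ := hsU
    refine Or.inr (diag_centre hH hc hc0 hM hl hl0 hl2 hz hz0 hf hf0 huf (hmem s) (st_su hB _ _ hc).1 ?_ ?_ hsx)
    all_goals rw [st_apply hB haa (by rw [Herm.smul_self hB, hbb, mul_zero]) (by rw [map_smul, hab, smul_zero]), map_smulₛₗ,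
      LinearMap.smul_apply]
    · simp [hau, hbu]
    · simp [haf, hbf]
  by_cases hsW : ∃ s : F, ∃ x ∈ W, st B c a (s • b) x ∉ W
  · obtain ⟨s, hsx⟩ := hsW
    refine Or.inl (diag_centre hH.symm hc hc0 hM.symm hl hl0 hl2 hf hf0 hz hz0 hfu (hmem s) (st_su hB _ _ hc).1 ?_ ?_ hsx)
    all_goals rw [st_apply hB haa (by rw [Herm.smul_self hB, hbb, mul_zero]) (by rw [map_smul, hab, smul_zero]), map_smulₛₗ,
      LinearMap.smul_apply]
    · simp [haf, hbf]
    · simp [hau, hbu]
  push Not at hsU hsW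
  -- the products of the coordinates vanish
  have hvz : B v z = 1 := by rw [← hB.symm, huv, map_one]
  have hef : B e f = 1 := by rw [← hB.symm, hfe, map_one]
  have hev := (Herm.eq_zero_comm hB).1 hve
  have hze' : B z e = 0 := hH.tsU z hz e he
  have hfv : B f v = 0 := hH.tsW f hf v hv
  obtain ⟨t, ht⟩ := Herm.exists_trace hB.toIsInvol (a := (1 : F)) (map_one σ)
  have hb2 : ∀ s : F, B (s • b) (s • b) = 0 := fun s => by rw [Herm.smul_self hB, hbb, mul_zero]
  have hab2 : ∀ s : F, B a (s • b) = 0 := fun s => by rw [map_smul, hab, smul_zero]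
  have hP2 : α2 * β2 = 0 := by
    by_contra hne
    have hne' : σ α2 * β2 ≠ 0 := mul_ne_zero ((map_ne_zero σ).2 fun h => hne (by rw [h, zero_mul])) fun h => hne (by rw [h, mul_zero])
    have h1 := hsU (t / (σ α2 * β2)) e he
    set x := st B c a ((t / (σ α2 * β2)) • b) e
    have h2 : B e x = c := by
      simp only [x]
      rw [st_apply hB haa (hb2 _) (hab2 _), hae, hbe]
      simp only [map_add, map_smul, map_smulₛₗ, LinearMap.add_apply, LinearMap.smul_apply, RingHom.id_apply, smul_eq_mul,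
        hH.tsU e he e he, hef, hfe, hze', (Herm.eq_zero_comm hB).1 hze', map_div₀, map_mul, hB.invol]
      have k1 := left_ne_zero_of_mul hne'
      have k2 := right_ne_zero_of_mul hne'
      have k3 := (map_ne_zero σ).2 k2
      have k4 : α2 ≠ 0 := fun h => hne (by rw [h, zero_mul])
      field_simp
      linear_combination (σ α2 * β2 * α2 * σ β2 * c) * ht
    exact hc0 (by rw [← h2]; exact hH.tsU e he x h1)
  have hP1 : α1 * β1 = 0 := by
    by_contra hne
    have hne' : σ α1 * β1 ≠ 0 := mul_ne_zero ((map_ne_zero σ).2 fun h => hne (by rw [h, zero_mul])) fun h => hne (by rw [h, mul_zero])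
    have h1 := hsW (t / (σ α1 * β1)) v hv
    set x := st B c a ((t / (σ α1 * β1)) • b) v
    have h2 : B v x = c := by
      simp only [x]
      rw [st_apply hB haa (hb2 _) (hab2 _), hae, hbe]
      simp only [map_add, map_smul, map_smulₛₗ, LinearMap.add_apply, LinearMap.smul_apply, RingHom.id_apply, smul_eq_mul,
        hH.tsW v hv v hv, huv, hvz, hfv, (Herm.eq_zero_comm hB).1 hfv, map_div₀, map_mul, hB.invol]
      have k1 := left_ne_zero_of_mul hne'
      have k2 := right_ne_zero_of_mul hne'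
      have k3 := (map_ne_zero σ).2 k2
      have k4 : α1 ≠ 0 := fun h => hne (by rw [h, zero_mul])
      field_simp
      linear_combination (σ α1 * β1 * α1 * σ β1 * c) * ht
    exact hc0 (by rw [← h2]; exact hH.tsW v hv x h1)
  -- which of the two basis vectors goes to z
  obtain ⟨U', W', hH', hM', hrole, q0, q1, hq0, hq1, hq10, hq01, ν, hν, hgq0, μ, hμ, hgq1⟩ : ∃ (U' W' : Submodule F V),
      Halves B U' W' ∧ Big B U' W' M ∧ (U' = U ∧ W' = W ∨ U' = W ∧ W' = U) ∧ ∃ q0 q1 : V, q0 ∈ U' ∧ q1 ∈ W' ∧ q1 ≠ 0 ∧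
        B q0 q1 = 0 ∧ ∃ ν : F, ν ≠ 0 ∧ g q0 = ν • z ∧ ∃ μ : F, μ ≠ 0 ∧ g q1 = μ • f := by
    rcases eq_or_ne α2 0 with h | h
    · rw [h, zero_smul, add_zero] at hae
      have h1 : α1 ≠ 0 := fun h' => ha0 (by rw [hae, h', zero_smul])
      rw [(mul_eq_zero.1 hP1).resolve_left h1, zero_smul, zero_add] at hbe
      exact ⟨U, W, hH, hM, Or.inl ⟨rfl, rfl⟩, u0, w0, hu0, hw0, hw00, huw, α1, h1, hae, β2,
        fun h' => hb0 (by rw [hbe, h', zero_smul]), hbe⟩
    · rw [(mul_eq_zero.1 hP2).resolve_left h, zero_smul, add_zero] at hbe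
      have h1 : β1 ≠ 0 := fun h' => hb0 (by rw [hbe, h', zero_smul])
      rw [(mul_eq_zero.1 hP1).resolve_right h1, zero_smul, zero_add] at hae
      exact ⟨W, U, hH.symm, hM.symm, Or.inr ⟨rfl, rfl⟩, w0, u0, hw0, hu0, hu00, (Herm.eq_zero_comm hB).1 huw, β1, h1, hbe,
        α2, h, hae⟩
  have hq00 : q0 ≠ 0 := fun h => hz0 (by
    have := hgq0; rw [h, map_zero] at this; exact (smul_eq_zero.1 this.symm).resolve_left hν)
  obtain ⟨v0, hv0, e0, he0, hq0v, hq1e, hv0e, hUe', hWe'⟩ := exists_duals hH' hq0 hq00 hq1 hq10 hq01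
  have he1 : B e0 q1 = 1 := by rw [← hB.symm, hq1e, map_one]
  obtain ⟨r, hrM, hri, hr⟩ := exists_scale hH' hM' he0 hq1 he1 hl hl0
  obtain ⟨r', hr'M, hr'i, hr'⟩ := exists_scale hH hM he hf hef hl hl0
  have hr0 : r q0 = q0 := by rw [hr, (Herm.eq_zero_comm hB).1 hq01, hH'.tsU e0 he0 q0 hq0]; simp
  have hr1 : r q1 = l⁻¹ • q1 := by rw [hr, hH'.tsW q1 hq1 q1 hq1, he1]; module
  have hr'z : r' z = z := by rw [hr', hfu, hH.tsU e he z hz]; simp
  have hr'f : r' f = l⁻¹ • f := by rw [hr', hff, hef]; module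
  have hgsz : g.symm z = ν⁻¹ • q0 := by
    rw [g.symm_apply_eq, map_smul, hgq0, smul_smul, inv_mul_cancel₀ hν, one_smul]
  have hgsf : g.symm f = μ⁻¹ • q1 := by
    rw [g.symm_apply_eq, map_smul, hgq1, smul_smul, inv_mul_cancel₀ hμ, one_smul]
  set m := r'⁻¹ * (g * r * g⁻¹) with hm_def
  have hmapp : ∀ x, m x = r'.symm (g (r (g.symm x))) := fun x => rfl
  have hmM : m ∈ M := mul_mem (inv_mem hr'M) (mul_mem (mul_mem hgM hrM) (inv_mem hgM))
  have hmi : ∀ x y, B (m x) (m y) = B x y := fun x y => by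
    rw [hmapp, hmapp, ← hr'i, r'.apply_symm_apply, r'.apply_symm_apply, hgi, hri, ← hgi, g.apply_symm_apply, g.apply_symm_apply]
  have hmz : m z = z := by
    rw [hmapp, hgsz, map_smul, hr0, map_smul, hgq0, smul_smul, inv_mul_cancel₀ hν, one_smul, r'.symm_apply_eq, hr'z]
  have hmf : m f = f := by
    have h3 : r'.symm f = l • f := by
      rw [r'.symm_apply_eq, map_smul, hr'f, smul_smul, mul_inv_cancel₀ hl0, one_smul]
    rw [hmapp, hgsf]
    simp only [map_smul, hr1, hgq1, h3, smul_smul]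
    rw [show μ⁻¹ * l⁻¹ * μ * l = 1 by field_simp, one_smul]
  by_cases hmove : ∃ x ∈ U, m x ∉ U
  · exact Or.inr (diag_centre hH hc hc0 hM hl hl0 hl2 hz hz0 hf hf0 huf hmM hmi hmz hmf hmove)
  push Not at hmove
  exfalso
  -- the scaling would fix the moved half
  have hT : ∀ x : V, g x ∈ U → g (r x) ∈ U := fun x hx => by
    have h1 := hmove (g x) hx
    rw [hmapp, g.symm_apply_apply] at h1
    have h2 : r' (r'.symm (g (r x))) ∈ U := by
      rw [hr']
      rw [hH.tsU e he _ h1, mul_zero, zero_smul, add_zero]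
      exact U.add_mem h1 (U.smul_mem _ he)
    rwa [r'.apply_symm_apply] at h2
  obtain ⟨x, hx, hxz⟩ := hH.exists_indep z
  set X := g.symm x - B v0 (g.symm x) • q0 with hX
  have hgX : g X ∈ U := by
    rw [hX, map_sub, map_smul, g.apply_symm_apply, hgq0]
    exact U.sub_mem hx (U.smul_mem _ (U.smul_mem _ hz))
  have hX0 : B q0 X = 0 := by
    rw [← hgi, hgq0, map_smulₛₗ, LinearMap.smul_apply, hH.tsU z hz _ hgX, smul_zero]
  have hv0X : B v0 X = 0 := by
    rw [hX, map_sub, map_smul, ← hB.symm q0 v0, hq0v, map_one, smul_eq_mul, mul_one, sub_self]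
  obtain ⟨P, hP, Q, hQ, hPQ⟩ := hH'.dec X
  have hPe : P = B q1 X • e0 := by
    conv_lhs => rw [hUe' P hP]
    rw [hPQ] at hv0X
    rw [map_add, hH'.tsW v0 hv0 Q hQ, add_zero] at hv0X
    rw [hv0X, zero_smul, zero_add, hPQ, map_add, hH'.tsW q1 hq1 Q hQ, add_zero]
  have hQe : Q = B e0 X • q1 := by
    conv_lhs => rw [hWe' Q hQ]
    rw [hPQ] at hX0
    rw [map_add, hH'.tsU q0 hq0 P hP, zero_add] at hX0
    rw [hX0, zero_smul, zero_add, hPQ, map_add, hH'.tsU e0 he0 P hP, zero_add]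
  rw [hPe, hQe] at hPQ
  set ε := B q1 X
  set κ := B e0 X
  have hz2 : ∀ y, g y ∈ U → g (r y) ∈ U := hT
  have hge : g X = x - (B v0 (g.symm x) * ν) • z := by rw [hX, map_sub, map_smul, g.apply_symm_apply, hgq0, smul_smul]
  have hrX : r X = (l * ε) • e0 + (l⁻¹ * κ) • q1 := by
    rw [hPQ, map_add, map_smul, map_smul, hr1, hr, hq1e, hH'.tsU e0 he0 e0 he0]
    module
  -- both eigencomponents lie in the moved half
  have hsub := hz2 X hgX
  have hX' : g (l • X) ∈ U := by rw [map_smul]; exact U.smul_mem _ hgX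
  have hX'' : g (l⁻¹ • X) ∈ U := by rw [map_smul]; exact U.smul_mem _ hgX
  have hne : l⁻¹ - l ≠ 0 := fun h => hl2 (by
    have := congrArg (l * ·) (sub_eq_zero.1 h)
    simp only [mul_inv_cancel₀ hl0] at this
    exact this.symm)
  have hκ : κ = 0 := by
    by_contra hκ0
    have h3 : g (r X - l • X) ∈ U := by rw [map_sub]; exact U.sub_mem hsub hX'
    rw [show r X - l • X = ((l⁻¹ - l) * κ) • q1 by rw [hrX, hPQ]; module, map_smul, hgq1, smul_smul,
      U.smul_mem_iff (mul_ne_zero (mul_ne_zero hne hκ0) hμ)] at h3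
    exact hf0 (hH.disj h3 hf)
  have hε : ε ≠ 0 := fun h0 => hxz (Submodule.mem_span_singleton.2 ⟨B v0 (g.symm x) * ν, by
    rw [hPQ, h0, hκ, zero_smul, zero_smul, add_zero, map_zero, eq_comm, sub_eq_zero] at hge
    exact hge.symm⟩)
  rw [hPQ, hκ, zero_smul, add_zero, map_smul, U.smul_mem_iff hε] at hgX
  -- so the moved half is a whole half
  have hall : ∀ y ∈ U', g y ∈ U := fun y hy => by
    rw [hUe' y hy, map_add, map_smul, map_smul, hgq0]
    exact U.add_mem (U.smul_mem _ (U.smul_mem _ hz)) (U.smul_mem _ hgX)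
  rcases hrole with ⟨hU', -⟩ | ⟨hU', -⟩
  · obtain ⟨y, hy, hy'⟩ := h1; exact hy' (hall y (hU' ▸ hy))
  · obtain ⟨y, hy, hy'⟩ := h2; exact hy' (hall y (hU' ▸ hy))

/-- an element of determinant one interchanging the halves -/
lemma exists_swap (hH : Halves B U W) : ∃ h : V ≃ₗ[F] V, h ∈ Herm.suG B ∧ (∀ x ∈ U, h x ∈ W) ∧ ∀ x ∈ W, h x ∈ U := by
  classical
  have hB := hH.herm
  set n := finrank F U
  let e := Module.finBasis F U
  have hφ : ∀ i, ∃ w ∈ W, ∀ x : U, B w x = e.repr x i := fun i => by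
    obtain ⟨φ, hφ⟩ := LinearMap.exists_extend (e.coord i)
    obtain ⟨w, hw, hwφ⟩ := hH.exists_dual φ
    exact ⟨w, hw, fun x => by rw [hwφ x x.2]; exact LinearMap.congr_fun hφ x⟩
  choose f hf hfe using hφ
  let h : V →ₗ[F] V := ∑ i, ((B (f i)).smulRight (f i) + (B (e i : V)).smulRight (e i : V))
  have happ : ∀ x, h x = ∑ i, (B (f i) x • f i + B (e i) x • (e i : V)) := fun x => by simp [h]
  have hU : ∀ x ∈ U, (∑ i, B (f i) x • (e i : V)) = x := fun x hx => by
    have := congrArg (Subtype.val) (e.sum_repr ⟨x, hx⟩)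
    rw [Submodule.coe_sum] at this
    simp only [hfe _ ⟨x, hx⟩]
    exact this
  have hexp : ∀ x, x = ∑ i, (B (f i) x • (e i : V) + B (e i) x • f i) := fun x => by
    obtain ⟨p, hp, q, hq, rfl⟩ := hH.dec x
    have hq' : q = ∑ i, B (e i) q • f i := by
      refine hH.ext (fun z hz => ?_) fun z hz => ?_
      · rw [map_sum, LinearMap.sum_apply]
        conv_lhs => rw [← hU z hz, map_sum]
        refine Finset.sum_congr rfl fun i _ => ?_
        rw [map_smul, smul_eq_mul, map_smulₛₗ, LinearMap.smul_apply, smul_eq_mul, hB.symm]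
        ring
      · rw [hH.tsW q hq z hz, map_sum, LinearMap.sum_apply, Finset.sum_eq_zero fun i _ => ?_]
        rw [map_smulₛₗ, LinearMap.smul_apply, hH.tsW (f i) (hf i) z hz, smul_zero]
    rw [Finset.sum_add_distrib]
    have h1 : ∀ i, B (f i) (p + q) = B (f i) p := fun i => by rw [map_add, hH.tsW (f i) (hf i) q hq, add_zero]
    have h2 : ∀ i, B (e i : V) (p + q) = B (e i : V) q := fun i => by rw [map_add, hH.tsU _ (e i).2 p hp, zero_add]
    simp only [h1, h2]
    rw [hU p hp, ← hq']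
  have hform : ∀ x y, B (h x) (h y) = B x y := fun x y => by
    have hinner : ∀ i j, B (B (f i) x • f i + B (e i) x • (e i : V)) (B (f j) y • f j + B (e j) y • (e j : V)) =
        if i = j then B x (f i) * B (e i) y + B x (e i) * B (f i) y else 0 := fun i j => by
      have hd : B (f i) (e j : V) = if i = j then (1 : F) else 0 := by
        rw [hfe, e.repr_self, Finsupp.single_apply]; simp [eq_comm]
      have hd' : B (e i : V) (f j) = if i = j then (1 : F) else 0 := by
        rw [← hB.symm, hfe, e.repr_self, Finsupp.single_apply, apply_ite σ, map_one, map_zero]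
      simp only [map_add, map_smul, map_smulₛₗ, LinearMap.add_apply, LinearMap.smul_apply, smul_eq_mul, RingHom.id_apply,
        hB.symm, hH.tsW (f i) (hf i) (f j) (hf j), hH.tsU _ (e i).2 _ (e j).2, hd, hd']
      split_ifs with hij
      · subst hij; ring
      · ring
    rw [happ, happ]
    simp only [map_sum, LinearMap.sum_apply, hinner]
    rw [Finset.sum_comm]
    conv_rhs => rw [hexp x]
    simp only [map_sum, LinearMap.sum_apply]
    refine Finset.sum_congr rfl fun i _ => ?_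
    rw [Finset.sum_ite_eq]
    simp only [Finset.mem_univ, if_true, map_add, map_smulₛₗ, LinearMap.add_apply, LinearMap.smul_apply, smul_eq_mul, hB.symm]
  have hinj : Function.Injective h := LinearMap.ker_eq_bot.1 (LinearMap.ker_eq_bot'.2 fun x hx => hB.nondeg x fun y => by
    rw [← hform, hx, map_zero, LinearMap.zero_apply])
  let h' := LinearEquiv.ofInjectiveEndo h hinj
  have hU' : ∀ x ∈ U, h' x ∈ W := fun x hx => by
    show h x ∈ W
    rw [happ]
    exact W.sum_mem fun i _ => by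
      rw [hH.tsU _ (e i).2 x hx, zero_smul, add_zero]; exact W.smul_mem _ (hf i)
  have hW' : ∀ x ∈ W, h' x ∈ U := fun x hx => by
    show h x ∈ U
    rw [happ]
    exact U.sum_mem fun i _ => by
      rw [hH.tsW _ (hf i) x hx, zero_smul, zero_add]; exact U.smul_mem _ (e i).2
  have hi : ∀ x y, B (h' x) (h' y) = B x y := fun x y => hform x y
  have hδ : σ (LinearMap.det h'.toLinearMap) * σ (σ (LinearMap.det h'.toLinearMap)) = 1 := by
    rw [hB.invol, mul_comm]; exact det_norm hB hi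
  let i0 : Fin (finrank F U) := ⟨0, by have := hH.dimU; omega⟩
  have hef : B (e i0 : V) (f i0) = 1 := by rw [← hB.symm, hfe, e.repr_self, Finsupp.single_eq_same, map_one]
  obtain ⟨r, hri, hrd, a, b, hr⟩ := exists_pair_scale hB (hH.tsU _ (e i0).2 _ (e i0).2) (hH.tsW _ (hf i0) _ (hf i0)) hef hδ
  refine ⟨r * h', mem_suG hB (fun x y => ?_) ?_, fun x hx => ?_, fun x hx => ?_⟩
  · rw [LinearEquiv.mul_apply, LinearEquiv.mul_apply, hri, hi]
  · show LinearMap.det (r.toLinearMap.comp h'.toLinearMap) = 1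
    rw [LinearMap.det_comp, hrd, mul_comm]
    exact det_norm hB hi
  · rw [LinearEquiv.mul_apply, hr, hH.tsW _ (hf i0) _ (hU' x hx), mul_zero, zero_smul, add_zero]
    exact W.add_mem (hU' x hx) (W.smul_mem _ (hf i0))
  · rw [LinearEquiv.mul_apply, hr, hH.tsU _ (e i0).2 _ (hW' x hx), mul_zero, zero_smul, add_zero]
    exact U.add_mem (hW' x hx) (U.smul_mem _ (e i0).2)

lemma sub_iff (g : V ≃ₗ[F] V) {A A' : Submodule F V} (hd : finrank F A = finrank F A') (h : ∀ x ∈ A, g x ∈ A') :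
    ∀ y, g y ∈ A' → y ∈ A := fun y hy => by
  have e : A.map g.toLinearMap = A' := Submodule.eq_of_le_of_finrank_eq
    (by rintro _ ⟨x, hx, rfl⟩; exact h x hx) ((LinearEquiv.finrank_map_eq _ A).trans hd)
  rw [← e] at hy
  obtain ⟨x, hx, hxy⟩ := hy
  exact g.injective hxy ▸ hx

lemma all_centres (hH : Halves B U W) (hc : c + σ c = 0) (hc0 : c ≠ 0) (hM : Big B U W M) {l : F} (hl : σ l = l)
    (hl0 : l ≠ 0) (hl2 : l * l ≠ 1) (g : V ≃ₗ[F] V) (hgM : g ∈ M)
    (hgi : ∀ x y, B (g x) (g y) = B x y)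
    (hg : ¬(((∀ x ∈ U, g x ∈ U) ∧ ∀ x ∈ W, g x ∈ W) ∨ ((∀ x ∈ U, g x ∈ W) ∧ ∀ x ∈ W, g x ∈ U))) :
    ∀ v, B v v = 0 → v ∈ centres B M := by
  have hB := hH.herm
  have hd : finrank F U = finrank F W := hH.dimU.trans hH.dimW.symm
  obtain ⟨h, hh, hhU, hhW⟩ := exists_swap hH
  have hhM : h ∈ M := hM h hh.1 (by simpa [Units.ext_iff] using hh.2) (Or.inr ⟨hhU, hhW⟩)
  have hhi' : ∀ x y, B (h⁻¹ x) (h⁻¹ y) = B x y := fun x y => by
    rw [← hh.1 (h⁻¹ x) (h⁻¹ y)]
    show B (h (h.symm x)) (h (h.symm y)) = _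
    rw [LinearEquiv.apply_symm_apply, LinearEquiv.apply_symm_apply]
  have hC : (∀ v ∈ U, v ∈ centres B M) ∨ ∀ v ∈ W, v ∈ centres B M := by
    obtain ⟨x0, hx0, hx00⟩ := U.exists_mem_ne_zero_of_ne_bot fun hb => by
      have := hH.dimU; rw [hb, finrank_bot] at this; omega
    by_cases hsym : (∀ x ∈ U, g x ∈ U) ∨ (∀ x ∈ W, g x ∈ U)
    swap
    · push Not at hsym
      exact some_half hH hc hc0 hM hl hl0 hl2 hgM hgi hsym.1 hsym.2
    refine (some_half hH.symm hc hc0 hM.symm hl hl0 hl2 hgM hgi ?_ ?_).symm <;> by_contra! hcon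
    · rcases hsym with h' | h'
      · exact hg (Or.inl ⟨h', hcon⟩)
      · obtain ⟨y, hy, hy0⟩ := W.exists_mem_ne_zero_of_ne_bot fun hb => by
          have := hH.dimW; rw [hb, finrank_bot] at this; omega
        exact hy0 (g.map_eq_zero_iff.1 (hH.disj (h' y hy) (hcon y hy)))
    · rcases hsym with h' | h'
      · exact hx00 (g.map_eq_zero_iff.1 (hH.disj (h' x0 hx0) (hcon x0 hx0)))
      · exact hg (Or.inr ⟨hcon, h'⟩)
  have hboth : (∀ v ∈ U, v ∈ centres B M) ∧ ∀ v ∈ W, v ∈ centres B M := by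
    rcases hC with hC | hC
    · refine ⟨hC, fun v hv => ?_⟩
      have := map_mem_centres hB (hC (h v) (hhW v hv)) (inv_mem hhM) hhi'
      rwa [show h⁻¹ (h v) = v from h.symm_apply_apply v] at this
    · refine ⟨fun v hv => ?_, hC⟩
      have := map_mem_centres hB (hC (h v) (hhU v hv)) (inv_mem hhM) hhi'
      rwa [show h⁻¹ (h v) = v from h.symm_apply_apply v] at this
  have pairing : ∀ p ∈ U, ∀ q ∈ W, B p q ≠ 0 → B p q + σ (B p q) = 0 → p + q ∈ centres B M := fun p hp q hq hne htr => by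
    have hqp : B q p ≠ 0 := fun h => hne ((Herm.eq_zero_comm hB).1 h)
    have := move_mem_centres hB (hboth.1 p hp) (hboth.2 q hq) (c := (B q p)⁻¹) (by
      rw [← hB.symm p q, map_inv₀, hB.invol, eq_neg_of_add_eq_zero_right htr, inv_neg, neg_add_cancel])
    rwa [inv_mul_cancel₀ hqp, one_smul] at this
  intro v hv
  obtain ⟨p, hp, q, hq, rfl⟩ := hH.dec v
  rcases eq_or_ne q 0 with rfl | hq0
  · rw [add_zero]; exact hboth.1 p hp
  have htr : B p q + σ (B p q) = 0 := by
    rw [hB.symm]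
    simpa [hH.tsU p hp p hp, hH.tsW q hq q hq, add_comm] using hv
  rcases eq_or_ne (B p q) 0 with hpq | hpq
  · obtain ⟨x, hx, hxq⟩ : ∃ x ∈ U, B x q ≠ 0 := by
      by_contra! hn
      refine hq0 (hH.ext (fun z hz => ?_) fun z hz => ?_)
      · rw [(Herm.eq_zero_comm hB).1 (hn z hz)]; simp
      · rw [hH.tsW q hq z hz]; simp
    have hcs : σ c = -c := eq_neg_of_add_eq_zero_right hc
    have hkey : B (p + (c * B x q) • x) q = σ c * (σ (B x q) * B x q) := by
      simp [hpq, mul_assoc]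
    have hxpq : B x (p + (c * B x q) • x + q) = B x q := by
      simp [hH.tsU x hx p hp, hH.tsU x hx x hx]
    have hcen : p + (c * B x q) • x + q ∈ centres B M := by
      refine pairing _ (U.add_mem hp (U.smul_mem _ hx)) q hq ?_ ?_
      · rw [hkey]; exact mul_ne_zero ((map_ne_zero σ).2 hc0) (mul_ne_zero ((map_ne_zero σ).2 hxq) hxq)
      · rw [hkey, map_mul, map_mul, hB.invol, hB.invol, hcs]; ring
    have := move_mem_centres hB hcen (hboth.1 x hx) (c := -c) (by rw [map_neg, hcs]; ring)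
    rw [hxpq] at this
    convert this using 1
    module
  · exact pairing p hp q hq hpq htr

end

/-- The maximality statement in dimension four. -/
theorem maximal {F : Type*} [Field F] [Fintype F] (q : ℕ) (hF : Fintype.card F = q ^ 2) (hq4 : 4 ≤ q) (D : Fin 2 → Submodule F (Fin 4 → F)) (hD : Cfsg.Geo.IsMDecomposition 2 D) (hts : ∀ i, Cfsg.Geo.IsTotallySingularFor (Cfsg.hermForm 4 F q) (D i)) : Cfsg.Geo.IsMaximalIn (Cfsg.GU 4 F q ⊓ Cfsg.Geo.specialLinear (Fin 4) F) (Cfsg.Geo.decompositionStabilizer D ⊓ (Cfsg.GU 4 F q ⊓ Cfsg.Geo.specialLinear (Fin 4) F)) := by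
  classical
  obtain ⟨σ, hσq, hσ, hfix, -⟩ := exists_powHom hF
  set B := hermB 4 σ
  have hB : Herm.IsHerm B := hermB_isHerm hσ 4
  have hBf : ∀ x y, B x y = Cfsg.hermForm 4 F q y x := fun x y => by rw [hermForm_eq hσq]
  have hsup : D 0 ⊔ D 1 = ⊤ := by
    rw [← hD.iSup_eq_top]
    refine le_antisymm (sup_le (le_iSup D 0) (le_iSup D 1)) (iSup_le fun i => ?_)
    fin_cases i
    · exact le_sup_left
    · exact le_sup_right
  have hH : Halves B (D 0) (D 1) :=
    { herm := hB
      tsU := fun x hx y hy => by rw [hBf]; exact hts 0 y hy x hx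
      tsW := fun x hx y hy => by rw [hBf]; exact hts 1 y hy x hx
      dec := fun v => by
        obtain ⟨p, hp, q, hq, e⟩ := Submodule.mem_sup.1 (hsup.ge (Submodule.mem_top (x := v)))
        exact ⟨p, hp, q, hq, e.symm⟩
      dimU := hD.finrank_eq 0
      dimW := hD.finrank_eq 1 }
  obtain ⟨l, hl, hl0, hl2⟩ : ∃ l : F, σ l = l ∧ l ≠ 0 ∧ l * l ≠ 1 := by
    haveI : Fintype (Herm.fixField σ) := Fintype.ofFinite _
    classical
    have hc := Finset.card_le_three (a := (0 : F)) (b := 1) (c := -1)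
    have h4 : 4 ≤ (Finset.univ.filter fun x : F => σ x = x).card := by
      rw [show (Finset.univ.filter fun x : F => σ x = x).card = q from ((Nat.card_eq_finsetCard _).symm.trans
        (Nat.card_congr (Equiv.subtypeEquivRight fun r => by simp [Herm.mem_fixField]))).trans hfix]
      exact hq4
    obtain ⟨l, hl, hne⟩ := Finset.exists_mem_notMem_of_card_lt_card (s := ({0, 1, -1} : Finset F))
      (t := Finset.univ.filter fun x : F => σ x = x) (lt_of_le_of_lt hc h4)
    simp only [Finset.mem_insert, Finset.mem_singleton, not_or] at hne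
    refine ⟨l, (Finset.mem_filter.1 hl).2, hne.1, fun h => ?_⟩
    rcases mul_self_eq_one_iff.1 h with h | h
    · exact hne.2.1 h
    · exact hne.2.2 h
  obtain ⟨c, hc0, hcs⟩ := Herm.exists_skew hσ
  have hc : c + σ c = 0 := by rw [hcs, add_neg_cancel]
  obtain ⟨u, hu, hu0⟩ := (D 0).exists_mem_ne_zero_of_ne_bot fun h => by
    have := hD.finrank_eq 0; rw [h, finrank_bot] at this; omega
  obtain ⟨x, hx, hxs⟩ := hH.exists_indep u
  have hx0 : x ≠ 0 := fun h => hxs (h ▸ Submodule.zero_mem _)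
  have hus : u ∉ Submodule.span F {x} := fun h => by
    obtain ⟨l, hl⟩ := Submodule.mem_span_singleton.1 h
    rcases eq_or_ne l 0 with rfl | hl0
    · exact hu0 (by rw [← hl, zero_smul])
    · exact hxs (Submodule.mem_span_singleton.2 ⟨l⁻¹, by rw [← hl, smul_smul, inv_mul_cancel₀ hl0, one_smul]⟩)
  obtain ⟨w, hw, hwu, hwx⟩ := hH.exists_one _ hu hus (by rw [Submodule.span_singleton_le_iff_mem]; exact hx) c
  have huw : B u w = -c := by rw [← hB.symm, hwu, hcs]
  have hv : B (u + w) (u + w) = 0 := by simp [hH.tsU u hu u hu, hH.tsW w hw w hw, hwu, huw]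
  refine isMaximalIn_suGL hσ hσq (by norm_num) _ ⟨u + w, hv, c, hc, fun hmem => ?_⟩ fun M hK ⟨g, hgM, hgi, hgK⟩ => ?_
  · obtain ⟨τ, hτ⟩ := hmem
    have hto : ∀ z ∈ D 0, Herm.tvU hv c z ∈ D (τ 0) := fun z hz => by
      rw [← hτ 0]
      exact ⟨z, hz, by rw [Matrix.toLin'_apply]; exact symm_mulVec _ z⟩
    have h1 := hto x hx
    rw [Herm.tvU_apply, map_add, LinearMap.add_apply, hH.tsU u hu x hx, hwx x (Submodule.mem_span_singleton_self x), add_zero,
      mul_zero, zero_smul, add_zero] at h1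
    have h2 := hto u hu
    rw [Herm.tvU_apply, map_add, LinearMap.add_apply, hH.tsU u hu u hu, hwu, zero_add] at h2
    generalize τ 0 = i at h1 h2
    fin_cases i
    · have h3 : u + w ∈ D 0 := ((D 0).smul_mem_iff (mul_ne_zero hc0 hc0)).1 (((D 0).add_mem_iff_right hu).1 h2)
      have hw0 : w = 0 := hH.disj (((D 0).add_mem_iff_right hu).1 h3) hw
      rw [hw0, map_zero, LinearMap.zero_apply] at hwu
      exact hc0 hwu.symm
    · exact hx0 (hH.disj hx h1)
  · have rk : ∀ (f : (Fin 4 → F) ≃ₗ[F] (Fin 4 → F)),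
        (((∀ x ∈ D 0, f x ∈ D 0) ∧ ∀ x ∈ D 1, f x ∈ D 1) ∨ ((∀ x ∈ D 0, f x ∈ D 1) ∧ ∀ x ∈ D 1, f x ∈ D 0)) →
        (glEquiv (Fin 4) F).symm f ∈ Cfsg.Geo.decompositionStabilizer D := by
      intro f hf
      obtain ⟨τ, hτ⟩ : ∃ τ : Equiv.Perm (Fin 2), ∀ i, ∀ x ∈ D i, f x ∈ D (τ i) := by
        rcases hf with ⟨h0, h1⟩ | ⟨h0, h1⟩
        · exact ⟨1, fun i => by fin_cases i <;> simpa⟩
        · exact ⟨Equiv.swap 0 1, fun i => by fin_cases i <;> simpa⟩
      refine ⟨τ, fun i => ?_⟩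
      have e : Matrix.toLin' (((glEquiv (Fin 4) F).symm f : Matrix.GeneralLinearGroup (Fin 4) F) : Matrix (Fin 4) (Fin 4) F) = f.toLinearMap :=
        LinearMap.ext fun x => by rw [Matrix.toLin'_apply]; exact symm_mulVec f x
      rw [e]
      exact Submodule.eq_of_le_of_finrank_eq (by rintro _ ⟨x, hx, rfl⟩; exact hτ i x hx)
        (by rw [LinearEquiv.finrank_map_eq, hD.finrank_eq, hD.finrank_eq])
    exact all_centres hH hc hc0 (fun f hf hf' hf'' => hK f hf hf' (rk f hf'')) hl hl0 hl2 g hgM hgi fun h => hgK (rk g h)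

end Cfsg.Agent.ClassicalMax.SU4.TIDecomp
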